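import Groth.Agent.HMCrit.Closed
import Mathlib.LinearAlgebra.Matrix.Block
import Mathlib.RingTheory.Polynomial.Basic
import Mathlib.LinearAlgebra.Basis.VectorSpace
import Mathlib.RingTheory.Ideal.Quotient.Operations

/-!
# Points attracted to a fixed point lie in the orbit of the attracting unipotent group
-/

set_option autoImplicit false
set_option linter.unusedSectionVars false
set_option linter.unusedVariables false
set_option linter.style.haveILetI false

universe u v

open scoped Polynomial

namespace Groth.Agent.HMCrit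

variable {k : Type u} [Field k] {n : ℕ}

section Scale

variable {T : Type v} [CommRing T] [Algebra k T] {Λ : Type} [AddCommGroup Λ]

/-- Rescaling of monomials by a character. -/
noncomputable def scaleHom (χ : Multiplicative Λ →* T) : AddMonoidAlgebra T Λ →ₐ[k] AddMonoidAlgebra T Λ :=
  AddMonoidAlgebra.liftNCAlgHom (cst (k := k) (Λ := Λ))
    { toFun := fun m => AddMonoidAlgebra.single (Multiplicative.toAdd m) (χ m)
      map_one' := by rw [map_one χ]; rfl
      map_mul' := fun a b => by rw [AddMonoidAlgebra.single_mul_single, map_mul χ]; rfl }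
    fun _ _ => .all _ _

theorem scaleHom_single (χ : Multiplicative Λ →* T) (m : Λ) (t : T) :
    scaleHom (k := k) χ (AddMonoidAlgebra.single m t) =
      AddMonoidAlgebra.single m (t * χ (Multiplicative.ofAdd m)) := by
  refine (AddMonoidAlgebra.liftNC_single _ _ _ _).trans ?_
  show AddMonoidAlgebra.single (0 : Λ) t * AddMonoidAlgebra.single m (χ (Multiplicative.ofAdd m)) = _
  rw [AddMonoidAlgebra.single_mul_single, zero_add]

theorem coeff_scaleHom (χ : Multiplicative Λ →* T) (f : AddMonoidAlgebra T Λ) (m : Λ) :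
    (scaleHom (k := k) χ f).coeff m = f.coeff m * χ (Multiplicative.ofAdd m) := by
  classical
  induction f using AddMonoidAlgebra.induction_linear with
  | zero => simp
  | add f g hf hg => simp only [map_add, AddMonoidAlgebra.coeff_add, Finsupp.add_apply, hf, hg, add_mul]
  | single a t =>
    rw [scaleHom_single, AddMonoidAlgebra.coeff_single, AddMonoidAlgebra.coeff_single, Finsupp.single_apply,
      Finsupp.single_apply]
    split_ifs with h
    · rw [h]
    · rw [zero_mul]

theorem torR_eq_scaleHom (χ : Multiplicative Λ →* T) (h h' : GB n k →ₐ[k] T) (w : Fin n → Λ)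
    (e : matP h' = matP h * Matrix.diagonal fun i => χ (Multiplicative.ofAdd (w i))) :
    torR h' w = (scaleHom χ).comp (torR h w) := by
  refine algHom_ext' (Matrix.ext fun i j => ?_)
  rw [matP_apply, matP_apply, AlgHom.comp_apply, torR_X, torR_X, scaleHom_single, ← matP_apply h', e,
    Matrix.mul_diagonal, matP_apply]

end Scale

section Weights

variable (a : Fin n → ℤ)

/-- The component of weight `w`. -/
noncomputable def comp (w : ℤ) (f : GB n k) : GB n k := (torR (AlgHom.id k (GB n k)) a f).coeff w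

theorem torR_comp {T : Type v} [CommRing T] [Algebra k T] (φ : GB n k →ₐ[k] T) (f : GB n k) (w : ℤ) :
    φ (comp a w f) = (torR φ a f).coeff w := by
  have h : (AddMonoidAlgebra.mapAlgHom ℤ φ).comp (torR (AlgHom.id k (GB n k)) a) = torR φ a := by
    refine algHom_ext' (Matrix.ext fun i j => ?_)
    rw [matP_apply, matP_apply, AlgHom.comp_apply, torR_X, torR_X]
    exact AddMonoidAlgebra.map_single _ _ _
  rw [← h, AlgHom.comp_apply]
  rfl

/-- The diagonal matrix of a value of the one parameter subgroup. -/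
noncomputable def dMat (s : kˣ) : Matrix (Fin n) (Fin n) k := Matrix.diagonal fun i => ((s ^ a i : kˣ) : k)

theorem isUnit_det_dMat (s : kˣ) : IsUnit (dMat a s).det := by
  rw [dMat, Matrix.det_diagonal]
  exact IsUnit.prod_iff.mpr fun i _ => Units.isUnit _

theorem dMat_mul (s t : kˣ) : dMat a s * dMat a t = dMat a (s * t) := by
  simp only [dMat, Matrix.diagonal_mul_diagonal, ← Units.val_mul, ← mul_zpow]

theorem dMat_one : dMat a (1 : kˣ) = 1 := by
  simp only [dMat, one_zpow, Units.val_one, Matrix.diagonal_one]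

theorem eval_torR (φ : GB n k →ₐ[k] k) (s : kˣ) :
    matP ((evalHom (zpowHom s)).comp (torR φ a)) = matP φ * dMat a s := by
  rw [evalHom_torR]
  rfl

/-- Homogeneous functions for right translations by the one parameter subgroup. -/
def IsWt (w : ℤ) (f : GB n k) : Prop :=
  ∀ (φ φ' : GB n k →ₐ[k] k) (s : kˣ), matP φ' = matP φ * dMat a s → φ' f = ((s ^ w : kˣ) : k) * φ f

theorem isWt_comp (w : ℤ) (f : GB n k) : IsWt a w (comp a w f) := fun φ φ' s e => by
  rw [torR_comp, torR_comp, torR_eq_scaleHom (zpowHom s) φ φ' a e, AlgHom.comp_apply, coeff_scaleHom,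
    zpowHom_apply, _root_.mul_comm]

variable [IsAlgClosed k] [CharZero k]

theorem torR_of_isWt {w : ℤ} {f : GB n k} (h : IsWt a w f) (φ : GB n k →ₐ[k] k) :
    torR φ a f = AddMonoidAlgebra.single w (φ f) := by
  refine eq_of_forall_evalHom fun s => ?_
  rw [evalHom_single, zpowHom_apply, ← AlgHom.comp_apply, h φ _ s (eval_torR a φ s), _root_.mul_comm]

theorem apply_eq_sum_comp (φ : GB n k →ₐ[k] k) (f : GB n k) :
    φ f = (torR φ a f).coeff.sum fun _ t => t := by
  have h : (evalHom (zpowHom (1 : kˣ))).comp (torR φ a) = φ :=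
    algHom_ext' (by rw [eval_torR, dMat_one, Matrix.mul_one])
  conv_lhs => rw [← h, AlgHom.comp_apply, evalHom_apply]
  exact Finsupp.sum_congr fun m _ => by rw [zpowHom_apply, one_zpow, Units.val_one, _root_.mul_one]

/-- A matrix supported above the blocks of `a`, with identity diagonal blocks, has determinant one. -/
theorem det_eq_one {R : Type v} [CommRing R] (M : Matrix (Fin n) (Fin n) R)
    (hM : ∀ i j, ¬ a i < a j → M i j = if i = j then 1 else 0) : M.det = 1 := by
  classical
  have ht : M.BlockTriangular a := fun i j (hij : a j < a i) => by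
    rw [hM i j (by omega), if_neg (fun e => by rw [e] at hij; exact lt_irrefl _ hij)]
  rw [ht.det]
  refine Finset.prod_eq_one fun c _ => ?_
  rw [show M.toSquareBlock a c = 1 from Matrix.ext fun i j => ?_, Matrix.det_one]
  show M i.1 j.1 = _
  rw [hM i.1 j.1 (by rw [i.2, j.2]; exact lt_irrefl _), Matrix.one_apply]
  simp [Subtype.ext_iff]

/-- The curve `t ↦ λ(t)⁻¹ u λ(t)`. -/
noncomputable def curveMat (U : Matrix (Fin n) (Fin n) k) : Matrix (Fin n) (Fin n) k[X] :=
  fun i j => if a i < a j then Polynomial.C (U i j) * Polynomial.X ^ (a j - a i).toNat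
    else if i = j then 1 else 0

theorem det_curveMat (U : Matrix (Fin n) (Fin n) k) : (curveMat a U).det = 1 :=
  det_eq_one a _ fun i j h => if_neg h

/-- The curve as a point. -/
noncomputable def curvePt (U : Matrix (Fin n) (Fin n) k) : GB n k →ₐ[k] k[X] :=
  glPt (curveMat a U) (by rw [det_curveMat]; exact isUnit_one)

/-- The matrices of the attracting group. -/
def IsU (U : Matrix (Fin n) (Fin n) k) : Prop := ∀ i j, ¬ a i < a j → U i j = if i = j then 1 else 0

/-- The point of a matrix of the attracting group. -/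
noncomputable def uPt {U : Matrix (Fin n) (Fin n) k} (hU : IsU a U) : GB n k →ₐ[k] k :=
  glPt U (by rw [det_eq_one a U hU]; exact isUnit_one)

theorem curveMat_eval_zero (U : Matrix (Fin n) (Fin n) k) (i j : Fin n) :
    (curveMat a U i j).eval 0 = if i = j then 1 else 0 := by
  unfold curveMat
  split_ifs with h h'
  · exact absurd h (by rw [h']; exact lt_irrefl _)
  · rw [Polynomial.eval_mul, Polynomial.eval_pow, Polynomial.eval_X, zero_pow (by omega), mul_zero]
  · exact Polynomial.eval_one
  · exact Polynomial.eval_zero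

theorem curvePt_zero (U : Matrix (Fin n) (Fin n) k) (f : GB n k) : (curvePt a U f).eval 0 = ev1 f := by
  have h : ((Polynomial.aeval (0 : k)).comp (curvePt a U)) = ev1 := by
    refine algHom_ext' ?_
    rw [matP_comp, curvePt, matP_glPt, matP_ev1]
    refine Matrix.ext fun i j => ?_
    rw [Matrix.map_apply, Matrix.one_apply, Polynomial.coe_aeval_eq_eval, curveMat_eval_zero]
  rw [← h, AlgHom.comp_apply, Polynomial.coe_aeval_eq_eval]

variable {a} {C : Subalgebra k (GB n k)}
  (hL : ∀ f ∈ C, ∀ (φ φ' : GB n k →ₐ[k] k) (s : kˣ), matP φ' = dMat a s * matP φ → φ' f = φ f)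

include hL

theorem curvePt_eval {U : Matrix (Fin n) (Fin n) k} (hU : IsU a U) {w : ℤ} {f : GB n k} (hf : f ∈ C)
    (hw : IsWt a w f) (s : kˣ) : (curvePt a U f).eval (s : k) = ((s ^ w : kˣ) : k) * uPt a hU f := by
  let φ : GB n k →ₐ[k] k := glPt (dMat a s⁻¹ * U) (isUnit_det_mul (isUnit_det_dMat a _)
    (by rw [det_eq_one a U hU]; exact isUnit_one))
  have hφ : φ f = uPt a hU f := (hL f hf φ (uPt a hU) s (by
    rw [uPt, matP_glPt, matP_glPt, ← Matrix.mul_assoc, dMat_mul, mul_inv_cancel, dMat_one, Matrix.one_mul])).symm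
  rw [← hφ, ← hw φ ((Polynomial.aeval (s : k)).comp (curvePt a U)) s ?_, AlgHom.comp_apply,
    Polynomial.coe_aeval_eq_eval]
  rw [matP_comp, curvePt, matP_glPt, matP_glPt]
  refine Matrix.ext fun i j => ?_
  rw [dMat, dMat, Matrix.map_apply, Matrix.mul_diagonal, Matrix.diagonal_mul, Polynomial.coe_aeval_eq_eval]
  by_cases h : a i < a j
  · rw [curveMat, if_pos h, Polynomial.eval_mul, Polynomial.eval_C, Polynomial.eval_pow, Polynomial.eval_X,
      _root_.mul_comm (((s⁻¹) ^ a i : kˣ) : k) (U i j), _root_.mul_assoc, ← Units.val_mul, inv_zpow,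
      ← zpow_neg, ← zpow_add, ← Units.val_pow_eq_pow_val, ← zpow_natCast]
    congr 3
    omega
  · rw [curveMat, if_neg h, hU i j h]
    split_ifs with e
    · subst e
      rw [_root_.mul_one, ← Units.val_mul, ← mul_zpow, inv_mul_cancel, one_zpow, Units.val_one, Polynomial.eval_one]
    · rw [mul_zero, zero_mul, Polynomial.eval_zero]

theorem curvePt_eq {U : Matrix (Fin n) (Fin n) k} (hU : IsU a U) (w : ℕ) {f : GB n k} (hf : f ∈ C)
    (hw : IsWt a w f) : curvePt a U f = Polynomial.C (uPt a hU f) * Polynomial.X ^ w := by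
  refine mul_right_cancel₀ (Polynomial.X_ne_zero (R := k)) (Polynomial.funext fun x => ?_)
  rcases eq_or_ne x 0 with rfl | hx
  · simp
  · have h := curvePt_eval hL hU hf hw (Units.mk0 x hx)
    rw [Units.val_mk0, zpow_natCast, Units.val_pow_eq_pow_val, Units.val_mk0] at h
    simp only [Polynomial.eval_mul, Polynomial.eval_C, Polynomial.eval_pow, Polynomial.eval_X, h]
    ring

theorem uPt_of_nonpos {U : Matrix (Fin n) (Fin n) k} (hU : IsU a U) {w : ℤ} (hw0 : w ≤ 0) {f : GB n k}
    (hf : f ∈ C) (hw : IsWt a w f) : uPt a hU f = if w = 0 then ev1 f else 0 := by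
  obtain ⟨m, rfl⟩ := Int.exists_eq_neg_ofNat hw0
  have hpoly : curvePt a U f * Polynomial.X ^ m = Polynomial.C (uPt a hU f) := by
    refine mul_right_cancel₀ (Polynomial.X_ne_zero (R := k)) (Polynomial.funext fun x => ?_)
    rcases eq_or_ne x 0 with rfl | hx
    · simp
    · have h := curvePt_eval hL hU hf hw (Units.mk0 x hx)
      rw [Units.val_mk0] at h
      simp only [Polynomial.eval_mul, Polynomial.eval_C, Polynomial.eval_pow, Polynomial.eval_X, h]
      rw [zpow_neg, zpow_natCast, Units.val_inv_eq_inv_val, Units.val_pow_eq_pow_val, Units.val_mk0]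
      field_simp
  have h := congrArg (Polynomial.eval 0) hpoly
  rw [Polynomial.eval_mul, Polynomial.eval_C, curvePt_zero, Polynomial.eval_pow, Polynomial.eval_X] at h
  rcases Nat.eq_zero_or_pos m with rfl | hm
  · rw [pow_zero, _root_.mul_one] at h
    rw [← h]
    simp
  · rw [zero_pow hm.ne', mul_zero] at h
    rw [← h, if_neg (by omega)]

/-- The derivatives of a homogeneous function of weight `w` sit in weight `w`. -/
theorem grad_eq_zero {w : ℤ} {f : GB n k} (hf : f ∈ C) (hw : IsWt a w f) (i j : Fin n) (hne : a j - a i ≠ w) :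
    grad f (i, j) = 0 := by
  have hgen : IsUnit (CoordGrp.GLn.genMat n k).det := by
    rw [← CoordGrp.GLn.det_eq]; exact IsUnit.of_mul_eq_one _ CoordGrp.GLn.det_mul_Dinv
  have key : ∀ s : kˣ, ((s ^ (a j - a i) : kˣ) : k) * grad f (i, j) = ((s ^ w : kˣ) : k) * grad f (i, j) := by
    intro s
    let c : GB n k →ₐ[k] GB n k :=
      glPt ((dMat a s⁻¹).map (algebraMap k (GB n k)) * CoordGrp.GLn.genMat n k * (dMat a s).map (algebraMap k (GB n k)))
        (isUnit_det_mul (isUnit_det_mul (isUnit_det_map (Algebra.ofId k _) (isUnit_det_dMat a _)) hgen)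
          (isUnit_det_map (Algebra.ofId k _) (isUnit_det_dMat a _)))
    have hc : c f = ((s ^ w : kˣ) : k) • f := eq_of_forall_point fun φ => by
      let φ₁ : GB n k →ₐ[k] k := glPt (dMat a s⁻¹ * matP φ) (isUnit_det_mul (isUnit_det_dMat a _) (isUnit_det_matP φ))
      have h1 : φ₁ f = φ f := (hL f hf φ₁ φ s (by
        rw [matP_glPt, ← Matrix.mul_assoc, dMat_mul, mul_inv_cancel, dMat_one, Matrix.one_mul])).symm
      rw [map_smul, smul_eq_mul, ← h1, ← hw φ₁ (φ.comp c) s ?_, AlgHom.comp_apply]
      rw [matP_comp, matP_glPt, matP_glPt, Matrix.map_mul, Matrix.map_mul]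
      congr 2 <;> exact Matrix.ext fun i' j' => φ.commutes _
    have h := apply_eq_add_grad ((Algebra.ofId k (DualNumber k)).comp ev1) ((dualPt (i, j)).comp c)
      (fun p => if p = (i, j) then ((s ^ (a j - a i) : kˣ) : k) • DualNumber.eps else 0)
      (fun p p' => by split_ifs <;> simp [DualNumber.eps_mul_eps])
      (fun p b => by
        rw [_root_.mul_comm, AlgHom.comp_apply, Algebra.ofId_apply, ← Algebra.smul_def])
      (fun i' j' => ?_) f
    · rw [AlgHom.comp_apply, hc, map_smul] at h
      have h' := congrArg TrivSqZeroExt.snd h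
      rw [TrivSqZeroExt.snd_smul, TrivSqZeroExt.snd_add] at h'
      rw [Finset.sum_eq_single (i, j) (fun p _ hp => by rw [if_neg hp, smul_zero])
        (fun h => absurd (Finset.mem_univ _) h), if_pos rfl, smul_smul, TrivSqZeroExt.snd_smul,
        DualNumber.snd_eps, smul_eq_mul, smul_eq_mul] at h'
      have h0 : TrivSqZeroExt.snd (((Algebra.ofId k (DualNumber k)).comp ev1) f) = 0 :=
        TrivSqZeroExt.snd_inl _ _
      rw [h0, zero_add, _root_.mul_one, _root_.mul_comm (grad f (i, j))] at h'
      exact h'.symm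
    · have e1' : ∀ M : Matrix (Fin n) (Fin n) k,
          (M.map (algebraMap k (GB n k))).map (dualPt (n := n) (i, j)) = M.map (algebraMap k (DualNumber k)) :=
        fun M => Matrix.ext fun p p' => (dualPt (n := n) (i, j)).commutes _
      rw [matP_comp, matP_glPt, Matrix.map_mul, Matrix.map_mul, e1', e1',
        show (CoordGrp.GLn.genMat n k).map (dualPt (i, j)) = matP (dualPt (i, j)) from rfl, dualPt, matP_glPt,
        matP_comp, matP_ev1]
      rw [Matrix.mul_add, Matrix.mul_one, Matrix.add_mul, ← Matrix.map_mul, dMat_mul, inv_mul_cancel, dMat_one,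
        Matrix.add_apply, dMat, dMat, Matrix.diagonal_map (map_zero _), Matrix.diagonal_map (map_zero _),
        Matrix.mul_diagonal, Matrix.diagonal_mul, Matrix.map_apply, Matrix.map_apply]
      refine congrArg₂ (· + ·) rfl ?_
      by_cases hp : (i', j') = (i, j)
      · simp only [Prod.mk.injEq] at hp
        obtain ⟨rfl, rfl⟩ := hp
        rw [if_pos rfl, Matrix.single_apply, if_pos ⟨rfl, rfl⟩, Algebra.smul_def]
        show algebraMap k (DualNumber k) _ * _ * algebraMap k (DualNumber k) _ = _
        rw [mul_right_comm, ← map_mul, ← Units.val_mul, inv_zpow, ← zpow_neg, ← zpow_add]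
        congr 4
        omega
      · rw [if_neg hp, Matrix.single_apply, if_neg (fun e => hp (Prod.ext e.1.symm e.2.symm)), mul_zero, zero_mul]
  by_contra hne0
  exact hne (zpow_injective_units fun s => Units.ext (mul_right_cancel₀ hne0 (key s)))

/-- The effect of a change of the weight `w` coordinates. -/
theorem uPt_update {U U' : Matrix (Fin n) (Fin n) k} (hU : IsU a U) (hU' : IsU a U') {w : ℕ} (hw0 : 0 < w)
    (x : Fin n × Fin n → k) (hU'eq : ∀ i j, U' i j = U i j + if a j - a i = (w : ℤ) then x (i, j) else 0)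
    {v : ℕ} (hv : v ≤ w) {f : GB n k} (hf : f ∈ C) (hfw : IsWt a v f) :
    uPt a hU' f = uPt a hU f +
      if v = w then ∑ p : Fin n × Fin n, grad f p * (if a p.2 - a p.1 = (w : ℤ) then x p else 0) else 0 := by
  let J : Ideal k[X] := Ideal.span {Polynomial.X ^ (w + 1)}
  let π : k[X] →ₐ[k] k[X] ⧸ J := Ideal.Quotient.mkₐ k J
  let c : Fin n × Fin n → k := fun p => if a p.2 - a p.1 = (w : ℤ) then x p else 0
  have hsq : π (Polynomial.X ^ w) * π (Polynomial.X ^ w) = 0 := by
    rw [← map_mul, ← pow_add]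
    exact Ideal.Quotient.eq_zero_iff_mem.mpr (Ideal.mem_span_singleton.mpr (pow_dvd_pow _ (by omega)))
  have hlin : ∀ q : k[X], π (Polynomial.X ^ w) * π q = q.eval 0 • π (Polynomial.X ^ w) := fun q => by
    rw [← map_mul, ← map_smul]
    refine Ideal.Quotient.eq.mpr (Ideal.mem_span_singleton.mpr ?_)
    rw [Polynomial.smul_eq_C_mul, _root_.mul_comm (Polynomial.C _), ← mul_sub, pow_succ]
    refine mul_dvd_mul_left _ ?_
    rw [Polynomial.X_dvd_iff, Polynomial.coeff_sub, Polynomial.coeff_C_zero, Polynomial.coeff_zero_eq_eval_zero,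
      sub_self]
  have h := apply_eq_add_grad (π.comp (curvePt a U)) (π.comp (curvePt a U'))
    (fun p => c p • π (Polynomial.X ^ w))
    (fun p p' => by rw [smul_mul_smul_comm, hsq, smul_zero])
    (fun p b => by
      rw [AlgHom.comp_apply, smul_mul_assoc, hlin, curvePt_zero, smul_comm])
    (fun i j => ?_) f
  · rw [AlgHom.comp_apply, AlgHom.comp_apply, curvePt_eq hL hU v hf hfw, curvePt_eq hL hU' v hf hfw] at h
    simp only [smul_smul] at h
    rw [← Finset.sum_smul, ← map_smul, ← map_add] at h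
    have h' := Polynomial.X_pow_dvd_iff.mp (Ideal.mem_span_singleton.mp (Ideal.Quotient.eq.mp h)) v (by omega)
    rw [Polynomial.coeff_sub, Polynomial.coeff_add, Polynomial.smul_eq_C_mul, Polynomial.coeff_C_mul_X_pow,
      Polynomial.coeff_C_mul_X_pow, Polynomial.coeff_C_mul_X_pow, if_pos rfl, if_pos rfl, sub_eq_zero] at h'
    exact h'
  · show π (curvePt a U' _) = π (curvePt a U _) + c (i, j) • π (Polynomial.X ^ w)
    rw [curvePt, curvePt, ← matP_apply, ← matP_apply, matP_glPt, matP_glPt, ← map_smul, ← map_add]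
    congr 1
    by_cases h : a i < a j
    · simp only [curveMat, if_pos h, hU'eq, c]
      rw [map_add, add_mul, Polynomial.smul_eq_C_mul]
      by_cases hij : a j - a i = (w : ℤ)
      · simp only [if_pos hij, hij, Int.toNat_natCast]
      · simp [hij]
    · simp only [curveMat, if_neg h, c]
      have hne : ¬ a j - a i = (w : ℤ) := by omega
      simp [hne]

omit hL in
theorem coeff_mul_eq {f f' g g' : AddMonoidAlgebra k ℤ} {w : ℤ}
    (h1 : ∀ i, i ≤ 0 → f'.coeff i = 0) (h2 : ∀ i, i ≤ 0 → g.coeff i = 0)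
    (h3 : ∀ i, i < w → f.coeff i = f'.coeff i) (h4 : ∀ i, i < w → g.coeff i = g'.coeff i) :
    (f * g).coeff w = (f' * g').coeff w := by
  classical
  have key : ∀ p q : AddMonoidAlgebra k ℤ, (∀ i, i < w → p.coeff i = 0) → (∀ i, i ≤ 0 → q.coeff i = 0) →
      (p * q).coeff w = 0 := by
    intro p q hp hq
    rw [AddMonoidAlgebra.coeff_mul]
    refine Finset.sum_eq_zero fun i hi => Finset.sum_eq_zero fun j hj => if_neg fun hij => ?_
    rw [Finsupp.mem_support_iff] at hi hj
    have h5 : w ≤ i := not_lt.mp fun h => hi (hp i h)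
    have h6 : 0 < j := not_le.mp fun h => hj (hq j h)
    omega
  rw [← sub_eq_zero, ← Finsupp.sub_apply, ← AddMonoidAlgebra.coeff_sub,
    show f * g - f' * g' = (f - f') * g + (g - g') * f' by ring, AddMonoidAlgebra.coeff_add, Finsupp.add_apply,
    key _ _ (fun i hi => by rw [AddMonoidAlgebra.coeff_sub, Finsupp.sub_apply, h3 i hi, sub_self]) h2,
    key _ _ (fun i hi => by rw [AddMonoidAlgebra.coeff_sub, Finsupp.sub_apply, h4 i hi, sub_self]) h1, add_zero]

omit hL in
/-- The subspace of homogeneous members of weight `w`. -/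
def wtSub (C : Subalgebra k (GB n k)) (a : Fin n → ℤ) (w : ℤ) : Submodule k (GB n k) where
  carrier := {f | f ∈ C ∧ IsWt a w f}
  add_mem' := fun {x y} hx hy => ⟨C.add_mem hx.1 hy.1, fun φ φ' s e => by
    rw [map_add, map_add, hx.2 φ φ' s e, hy.2 φ φ' s e, mul_add]⟩
  zero_mem' := ⟨C.zero_mem, fun φ φ' s _ => by rw [map_zero, map_zero, mul_zero]⟩
  smul_mem' := fun c x hx => ⟨C.smul_mem hx.1 c, fun φ φ' s e => by
    rw [map_smul, map_smul, hx.2 φ φ' s e, smul_eq_mul, smul_eq_mul, mul_left_comm]⟩

variable (hcomp : ∀ f ∈ C, ∀ w, comp a w f ∈ C)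
  (hsq : ∀ f ∈ C, ev1 f = 0 → grad f = 0 →
    f ∈ Submodule.span k {z : GB n k | ∃ x y, x ∈ C ∧ ev1 x = 0 ∧ y ∈ C ∧ ev1 y = 0 ∧ z = x * y})

theorem comp_ev1 {f : GB n k} (hf : f ∈ C) (w : ℤ) : ev1 (comp a w f) = if w = 0 then ev1 f else 0 := by
  have h : torR ev1 a f = AddMonoidAlgebra.single (0 : ℤ) (ev1 f) := by
    refine eq_of_forall_evalHom fun s => ?_
    rw [evalHom_single, zpowHom_apply, zpow_zero, Units.val_one, _root_.mul_one, ← AlgHom.comp_apply]
    exact hL f hf ev1 _ s (by rw [eval_torR, matP_ev1, Matrix.one_mul, Matrix.mul_one])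
  rw [torR_comp, h, AddMonoidAlgebra.coeff_single, Finsupp.single_apply]
  by_cases hw : w = 0
  · rw [if_pos hw.symm, if_pos hw]
  · rw [if_neg (Ne.symm hw), if_neg hw]

include hcomp hsq

/-- A homogeneous function with vanishing derivatives is determined by lower weights. -/
theorem apply_eq_of_lower {φ φ' : GB n k →ₐ[k] k} {w : ℤ} (hw0 : 0 < w)
    (hlow : ∀ v, v < w → ∀ f ∈ C, IsWt a v f → φ f = φ' f)
    (hneg : ∀ v, v < 0 → ∀ f ∈ C, IsWt a v f → φ' f = 0)
    (hzero : ∀ f ∈ C, IsWt a 0 f → φ' f = ev1 f)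
    {f : GB n k} (hf : f ∈ C) (hfw : IsWt a w f) (hd : grad f = 0) : φ f = φ' f := by
  have h1 : ev1 f = 0 := by
    have := comp_ev1 hL hf w
    rw [torR_comp, torR_of_isWt a hfw ev1, AddMonoidAlgebra.coeff_single, Finsupp.single_eq_same,
      if_neg hw0.ne'] at this
    exact this
  have hc : ∀ ψ : GB n k →ₐ[k] k, ψ f = (torR ψ a f).coeff w := fun ψ => by
    rw [torR_of_isWt a hfw ψ, AddMonoidAlgebra.coeff_single, Finsupp.single_eq_same]
  rw [hc φ, hc φ']
  have hlow' : ∀ z ∈ C, ev1 z = 0 → (∀ i, i < w → (torR φ a z).coeff i = (torR φ' a z).coeff i) ∧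
      ∀ i, i ≤ 0 → (torR φ' a z).coeff i = 0 := by
    intro z hz hz0
    refine ⟨fun i hi => ?_, fun i hi => ?_⟩
    · rw [← torR_comp, ← torR_comp]
      exact hlow i hi _ (hcomp z hz i) (isWt_comp a i z)
    · rw [← torR_comp]
      rcases eq_or_lt_of_le hi with rfl | hi'
      · rw [hzero _ (hcomp z hz 0) (isWt_comp a 0 z), comp_ev1 hL hz, if_pos rfl, hz0]
      · exact hneg i hi' _ (hcomp z hz i) (isWt_comp a i z)
  have hspan := hsq f hf h1 hd
  clear hf hfw hd h1 hc
  induction hspan using Submodule.span_induction with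
  | zero => simp
  | add x y _ _ hx hy => simp only [map_add, AddMonoidAlgebra.coeff_add, Finsupp.add_apply, hx, hy]
  | smul c x _ hx => simp only [map_smul, AddMonoidAlgebra.coeff_smul, Finsupp.smul_apply, hx]
  | mem z hz =>
    obtain ⟨x, y, hx, hx0, hy, hy0, rfl⟩ := hz
    rw [map_mul, map_mul]
    obtain ⟨hx1, hx2⟩ := hlow' x hx hx0
    obtain ⟨hy1, hy2⟩ := hlow' y hy hy0
    refine coeff_mul_eq hx2 ?_ hx1 hy1
    intro i hi
    rw [hy1 i (by omega), hy2 i hi]

/-- The attracted points of the orbit lie in the orbit of the attracting group. -/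
theorem exists_attract (b : GB n k →ₐ[k] k) (hneg : ∀ f ∈ C, ∀ i, i < 0 → b (comp a i f) = 0)
    (hzero : ∀ f ∈ C, b (comp a 0 f) = ev1 f) :
    ∃ (U : Matrix (Fin n) (Fin n) k) (hU : IsU a U), ∀ f ∈ C, uPt a hU f = b f := by
  classical
  have hself : ∀ (w : ℤ) (f : GB n k), IsWt a w f → ∀ ψ : GB n k →ₐ[k] k, ψ (comp a w f) = ψ f := fun w f hf ψ => by
    rw [torR_comp, torR_of_isWt a hf ψ, AddMonoidAlgebra.coeff_single, Finsupp.single_eq_same]
  have hbneg : ∀ v, v < 0 → ∀ f ∈ C, IsWt a v f → b f = 0 := fun v hv f hf hfw => by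
    rw [← hself v f hfw b]; exact hneg f hf v hv
  have hbzero : ∀ f ∈ C, IsWt a 0 f → b f = ev1 f := fun f hf hfw => by
    rw [← hself 0 f hfw b]; exact hzero f hf
  have step : ∀ N : ℕ, ∃ (U : Matrix (Fin n) (Fin n) k) (hU : IsU a U),
      ∀ v : ℤ, v ≤ (N : ℤ) → ∀ f ∈ C, IsWt a v f → uPt a hU f = b f := by
    intro N
    induction N with
    | zero =>
      refine ⟨1, fun i j _ => Matrix.one_apply, fun v hv f hf hfw => ?_⟩
      rw [uPt_of_nonpos hL _ (by simpa using hv) hf hfw]
      rcases eq_or_lt_of_le (show v ≤ 0 by simpa using hv) with rfl | hv'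
      · rw [if_pos rfl, hbzero f hf hfw]
      · rw [if_neg hv'.ne, hbneg v hv' f hf hfw]
    | succ N ih =>
      obtain ⟨U, hU, hih⟩ := ih
      set w : ℕ := N + 1
      let L : wtSub C a (w : ℤ) →ₗ[k] (Fin n × Fin n → k) := grad.comp (wtSub C a (w : ℤ)).subtype
      let T : wtSub C a (w : ℤ) →ₗ[k] k :=
        (b.toLinearMap - (uPt a hU).toLinearMap).comp (wtSub C a (w : ℤ)).subtype
      have hker : LinearMap.ker L ≤ LinearMap.ker T := fun f hf => by
        rw [LinearMap.mem_ker]
        refine sub_eq_zero.mpr (apply_eq_of_lower hL hcomp hsq (w := (w : ℤ)) (by omega)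
          (fun v hv g hg hgw => (hih v (by omega) g hg hgw)) (fun v hv g hg hgw => hbneg v hv g hg hgw) hbzero
          f.2.1 f.2.2 hf).symm
      obtain ⟨G, hG⟩ := LinearMap.exists_extend
        ((LinearMap.ker L).liftQ T hker ∘ₗ L.quotKerEquivRange.symm.toLinearMap)
      have hGL : ∀ f, G (L f) = T f := fun f => by
        have := LinearMap.congr_fun hG ⟨L f, f, rfl⟩
        rw [LinearMap.comp_apply] at this
        refine this.trans ?_
        rw [LinearMap.comp_apply, LinearEquiv.coe_coe]
        have e : L.quotKerEquivRange.symm ⟨L f, f, rfl⟩ = Submodule.Quotient.mk f :=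
          L.quotKerEquivRange.symm_apply_eq.mpr (Subtype.ext rfl)
        rw [e, Submodule.liftQ_apply]
      let x : Fin n × Fin n → k := fun p => G (Pi.single p 1)
      let U' : Matrix (Fin n) (Fin n) k := fun i j => U i j + if a j - a i = (w : ℤ) then x (i, j) else 0
      have hU' : IsU a U' := fun i j hij => by
        show U i j + _ = _
        have hne : ¬ a j - a i = (w : ℤ) := by omega
        rw [hU i j hij, if_neg hne, add_zero]
      refine ⟨U', hU', fun v hv f hf hfw => ?_⟩
      rcases le_or_gt v 0 with hv0 | hv0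
      · rw [uPt_of_nonpos hL hU' hv0 hf hfw]
        rcases eq_or_lt_of_le hv0 with rfl | hv'
        · rw [if_pos rfl, hbzero f hf hfw]
        · rw [if_neg hv'.ne, hbneg v hv' f hf hfw]
      · obtain ⟨v', rfl⟩ := Int.eq_ofNat_of_zero_le hv0.le
        rw [uPt_update hL hU hU' (show 0 < w by omega) x (fun i j => rfl) (show v' ≤ w by omega) hf hfw]
        by_cases hvw : v' = w
        · subst hvw
          have hsum : ∑ p : Fin n × Fin n, grad f p * (if a p.2 - a p.1 = (w : ℤ) then x p else 0) = G (grad f) := by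
            conv_rhs => rw [pi_eq_sum_univ' (grad f), map_sum]
            refine Finset.sum_congr rfl fun p _ => ?_
            rw [map_smul, smul_eq_mul]
            split_ifs with hp
            · rfl
            · rw [grad_eq_zero hL hf hfw p.1 p.2 hp, zero_mul, zero_mul]
          rw [if_pos rfl, hsum, show grad f = L ⟨f, hf, hfw⟩ from rfl, hGL]
          simp [T]
        · rw [if_neg hvw, add_zero, hih _ (by omega) f hf hfw]
  obtain ⟨U, hU, hUN⟩ := step (∑ p : Fin n × Fin n, (a p.2 - a p.1).natAbs)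
  refine ⟨U, hU, ?_⟩
  have hall : ∀ (m : ℕ) (v : ℤ), v ≤ (m : ℤ) → ∀ f ∈ C, IsWt a v f → uPt a hU f = b f := by
    intro m
    induction m with
    | zero => exact fun v hv => hUN v (by omega)
    | succ m ih =>
      intro v hv f hf hfw
      by_cases hsmall : v ≤ ((∑ p : Fin n × Fin n, (a p.2 - a p.1).natAbs : ℕ) : ℤ)
      · exact hUN v hsmall f hf hfw
      · refine apply_eq_of_lower hL hcomp hsq (by omega) (fun u hu g hg hgw => ih u (by omega) g hg hgw)
          (fun u hu g hg hgw => hbneg u hu g hg hgw) hbzero hf hfw ?_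
        funext p
        refine grad_eq_zero hL hf hfw p.1 p.2 ?_
        have hle := Finset.single_le_sum (f := fun q : Fin n × Fin n => (a q.2 - a q.1).natAbs)
          (fun _ _ => Nat.zero_le _) (Finset.mem_univ p)
        omega
  intro f hf
  rw [apply_eq_sum_comp a (uPt a hU) f, apply_eq_sum_comp a b f]
  have e : torR (uPt a hU) a f = torR b a f := by
    refine AddMonoidAlgebra.coeff_inj.mp (Finsupp.ext fun v => ?_)
    rw [← torR_comp, ← torR_comp]
    exact hall v.toNat v (Int.self_le_toNat v) _ (hcomp f hf v) (isWt_comp a v f)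
  rw [e]

end Weights

end Groth.Agent.HMCrit
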