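import Groth.Agent.ComodLib.CartierChar0
import Mathlib.RingTheory.Filtration
import Mathlib.RingTheory.Ideal.Maps

/-!
# Functions on a group vanishing on a subgroup and to second order at the identity
-/

set_option autoImplicit false
set_option linter.unusedSectionVars false
set_option linter.style.haveILetI false

universe u

open TensorProduct WithConv

namespace Groth.Agent.HMCrit

open ComodLib ComodLib.Cartier0

variable {k : Type u} [Field k] [CharZero k] {A B : Type u} [CommRing A] [HopfAlgebra k A] [Algebra.FiniteType k A]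
  [CommRing B] [HopfAlgebra k B] [Algebra.FiniteType k B] (q : B →ₐc[k] A)

theorem counit_q (b : B) : Bialgebra.counitAlgHom k A ((q : B →ₐ[k] A) b) = Bialgebra.counitAlgHom k B b :=
  CoalgHomClass.counit_comp_apply q b

/-- A tangent vector of the subgroup, on the group. -/
noncomputable def pushTan (L : Tan k A) : Tan k B :=
  ⟨L.1 ∘ₗ (q : B →ₐ[k] A).toLinearMap, fun a b => by
    simp only [LinearMap.comp_apply, AlgHom.toLinearMap_apply, map_mul, L.2, counit_q]⟩

theorem q_lieOp (L : Tan k A) (b : B) : (q : B →ₐ[k] A) (lieOp (pushTan q L) b) = lieOp L ((q : B →ₐ[k] A) b) := by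
  show (q : B →ₐ[k] A) (slice (pushTan q L).1 (Coalgebra.comul (R := k) b)) =
    slice L.1 (Coalgebra.comul (R := k) ((q : B →ₐ[k] A) b))
  rw [show Coalgebra.comul (R := k) ((q : B →ₐ[k] A) b) = TensorProduct.map (q : B →ₐ[k] A).toLinearMap
    (q : B →ₐ[k] A).toLinearMap (Coalgebra.comul (R := k) b) from (CoalgHomClass.map_comp_comul_apply q b).symm]
  induction Coalgebra.comul (R := k) b using TensorProduct.induction_on with
  | zero => simp
  | tmul x y => simp [pushTan]
  | add x y hx hy => simp only [map_add, hx, hy]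

theorem counit_lieOp (L : Tan k A) (v : A) : Bialgebra.counitAlgHom k A (lieOp L v) = L.1 v := by
  have : ∀ y : A ⊗[k] A, Bialgebra.counitAlgHom k A (slice (L.1) y) =
      L.1 (TensorProduct.lid k A ((Coalgebra.counit (R := k)).rTensor A y)) := fun y => by
    induction y using TensorProduct.induction_on with
    | zero => simp
    | tmul p q => simp [mul_comm]
    | add p q hp hq => simp only [map_add, hp, hq]
  refine (this _).trans ?_
  rw [show HopfRep.Comod.coact (k := k) (A := A) v = Coalgebra.comul (R := k) v from rfl,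
    Coalgebra.rTensor_counit_comul]
  simp

theorem map_aug (hq : Function.Surjective (q : B →ₐ[k] A)) :
    Ideal.map (q : B →ₐ[k] A) (aug k B) = aug k A := by
  refine le_antisymm (Ideal.map_le_iff_le_comap.mpr fun b hb => ?_) fun a ha => ?_
  · show Bialgebra.counitAlgHom k A _ = 0
    rw [counit_q]; exact hb
  · obtain ⟨b, rfl⟩ := hq a
    refine Ideal.mem_map_of_mem _ ?_
    show Bialgebra.counitAlgHom k B b = 0
    rw [← counit_q q]; exact ha

/-- A function vanishing on the subgroup and to second order at `1` lies in `I · m`. -/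
theorem mem_mul_aug (hq : Function.Surjective (q : B →ₐ[k] A)) {f : B} (hf : (q : B →ₐ[k] A) f = 0)
    (hf2 : f ∈ aug k B ^ 2) : f ∈ RingHom.ker (q : B →ₐ[k] A) * aug k B := by
  classical
  let I : Ideal B := RingHom.ker (q : B →ₐ[k] A)
  let m : Ideal B := aug k B
  obtain ⟨N, x, L, hx, hy⟩ := exists_dual_system (k := k) (A := A)
  choose X hX using fun i => hq (x i)
  have hXm : ∀ i, X i ∈ m := fun i => by
    show Bialgebra.counitAlgHom k B _ = 0
    rw [← counit_q q, hX]; exact hx i
  let E : B →ₗ[k] B := ∑ i, LinearMap.mulLeft k (X i) ∘ₗ lieOp (pushTan q (L i))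
  have hE : ∀ b, E b = ∑ i, X i * lieOp (pushTan q (L i)) b := fun b => by simp [E]
  have hEmul : ∀ u v, E (u * v) = u * E v + v * E u := fun u v => by
    simp only [hE, lieOp_mul, Finset.mul_sum, ← Finset.sum_add_distrib]
    exact Finset.sum_congr rfl fun i _ => by ring
  have hEI : ∀ b ∈ I, E b ∈ m * I := fun b hb => by
    rw [hE]
    refine Ideal.sum_mem _ fun i _ => Ideal.mul_mem_mul (hXm i) ?_
    show (q : B →ₐ[k] A) _ = 0
    rw [q_lieOp, show (q : B →ₐ[k] A) b = 0 from hb, map_zero]
  have hEm : ∀ v ∈ m, E v - v ∈ I ⊔ m ^ 2 := by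
    intro v hv
    have h1 : (q : B →ₐ[k] A) (E v - v) ∈ aug k A ^ 2 := by
      have hqv : (q : B →ₐ[k] A) v ∈ aug k A := by
        show Bialgebra.counitAlgHom k A _ = 0
        rw [counit_q]; exact hv
      have h2 : ∑ i, (x i * lieOp (L i) ((q : B →ₐ[k] A) v) - (L i).1 ((q : B →ₐ[k] A) v) • x i) ∈ aug k A ^ 2 := by
        rw [pow_two]
        refine Ideal.sum_mem _ fun i _ => ?_
        rw [Algebra.smul_def, mul_comm (algebraMap k A _), ← mul_sub]
        refine Ideal.mul_mem_mul (hx i) ?_
        rw [← counit_lieOp]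
        exact sub_counit_mem _
      have h3 := Ideal.sub_mem _ h2 (hy _ hqv)
      rw [Finset.sum_sub_distrib] at h3
      rw [map_sub, hE, map_sum]
      simp only [map_mul, hX, q_lieOp]
      convert h3 using 1
      abel
    rw [← map_aug q hq, ← Ideal.map_pow] at h1
    obtain ⟨w, hw, hwe⟩ := (Ideal.mem_map_iff_of_surjective _ hq).mp h1
    rw [show E v - v = (E v - v - w) + w by abel]
    refine Submodule.add_mem_sup ?_ hw
    show (q : B →ₐ[k] A) _ = 0
    rw [map_sub, hwe, sub_self]
  have hEn : ∀ j : ℕ, ∀ u ∈ m ^ (j + 1), E u - ((j + 1 : ℕ) : B) * u ∈ I * m ^ j ⊔ m ^ (j + 2) := by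
    intro j
    induction j with
    | zero =>
      intro u hu
      rw [zero_add, Nat.cast_one, one_mul, pow_zero, Ideal.one_eq_top, Ideal.mul_top]
      exact hEm u (by simpa using hu)
    | succ j ih =>
      intro u hu
      rw [pow_succ] at hu
      induction hu using Submodule.mul_induction_on' with
      | mem_mul_mem p hp v hv =>
        rw [hEmul, show p * E v + v * E p - ((j + 1 + 1 : ℕ) : B) * (p * v) =
          p * (E v - v) + v * (E p - ((j + 1 : ℕ) : B) * p) by push_cast; ring]
        refine Ideal.add_mem _ ?_ ?_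
        · have h : p * (E v - v) ∈ m ^ (j + 1) * (I ⊔ m ^ 2) := Ideal.mul_mem_mul hp (hEm v hv)
          rw [Ideal.mul_sup, ← pow_add, mul_comm (m ^ (j + 1)) I] at h
          exact h
        · have h : v * (E p - ((j + 1 : ℕ) : B) * p) ∈ m * (I * m ^ j ⊔ m ^ (j + 2)) :=
            Ideal.mul_mem_mul hv (ih p hp)
          rw [Ideal.mul_sup, mul_left_comm, ← pow_succ', ← pow_succ'] at h
          exact h
      | add p _ v _ hp hv =>
        rw [map_add, mul_add, add_sub_add_comm]
        exact Ideal.add_mem _ hp hv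
  have hfI : f ∈ I := hf
  have hfm : f ∈ m ^ 2 := hf2
  show f ∈ I * m
  clear_value I m
  have step : ∀ j : ℕ, ∀ u ∈ I, u ∈ m ^ (j + 2) → u ∈ I * m ⊔ (I ⊓ m ^ (j + 3)) := by
    intro j u hu hum
    have h1 : ((j + 2 : ℕ) : B) * u ∈ I * m ⊔ m ^ (j + 3) := by
      have ha : E u ∈ I * m ⊔ m ^ (j + 3) := Submodule.mem_sup_left (by rw [mul_comm]; exact hEI u hu)
      have hb : E u - ((j + 2 : ℕ) : B) * u ∈ I * m ⊔ m ^ (j + 3) := by
        have hle : I * m ^ (j + 1) ⊔ m ^ (j + 3) ≤ I * m ⊔ m ^ (j + 3) :=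
          sup_le_sup_right (Ideal.mul_mono le_rfl (Ideal.pow_le_self (Nat.succ_ne_zero j))) _
        exact hle (hEn (j + 1) u hum)
      have := Ideal.sub_mem _ ha hb
      rwa [sub_sub_cancel] at this
    have hunit : IsUnit ((j + 2 : ℕ) : B) := by
      rw [← map_natCast (algebraMap k B)]
      exact (IsUnit.mk0 _ (by exact_mod_cast Nat.succ_ne_zero (j + 1))).map _
    obtain ⟨a, ha, b, hb, hab⟩ := Submodule.mem_sup.mp ((Ideal.unit_mul_mem_iff_mem _ hunit).mp h1)
    refine Submodule.mem_sup.mpr ⟨a, ha, b, ⟨?_, hb⟩, hab⟩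
    rw [show b = u - a by rw [← hab]; abel]
    exact Ideal.sub_mem I hu ((Ideal.mul_le_left : I * m ≤ I) ha)
  have main : ∀ j : ℕ, f ∈ I * m ⊔ (I ⊓ m ^ (j + 2)) := by
    intro j
    induction j with
    | zero => exact Submodule.mem_sup_right ⟨hfI, hfm⟩
    | succ j ih =>
      obtain ⟨a, ha, b, hb, hab⟩ := Submodule.mem_sup.mp ih
      rw [← hab]
      exact Ideal.add_mem _ (Submodule.mem_sup_left ha) (step j b hb.1 hb.2)
  haveI : IsNoetherianRing B := Algebra.FiniteType.isNoetherianRing k B
  obtain ⟨c, hc⟩ := m.exists_pow_inf_eq_pow_smul (M := B) I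
  obtain ⟨a, ha, b, hb, hab⟩ := Submodule.mem_sup.mp (main c)
  rw [← hab]
  refine Ideal.add_mem _ ha ?_
  have hb' : b ∈ m ^ (c + 2) • (⊤ : Submodule B B) ⊓ I := by
    refine ⟨?_, hb.1⟩
    simpa using hb.2
  rw [hc (c + 2) (by omega), Nat.add_sub_cancel_left] at hb'
  rw [mul_comm]
  exact Submodule.smul_mono (Ideal.pow_le_self two_ne_zero) inf_le_right hb'

end Groth.Agent.HMCrit
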