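import Groth.Agent.HMCrit.Inv
import Groth.Agent.HMCrit.LieInd
import Groth.Agent.ComodLib.StableOrbit
import Mathlib.LinearAlgebra.TensorProduct.RightExactness
import Mathlib.RingTheory.Nakayama
import Mathlib.LinearAlgebra.FiniteDimensional.Basic
import Mathlib.Algebra.DualNumber

/-!
# The subgroup inside the general linear group: cosets and conormal
-/

set_option autoImplicit false
set_option linter.unusedSectionVars false
set_option linter.style.haveILetI false

universe u v

open TensorProduct WithConv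

namespace Groth.Agent.HMCrit

open ComodLib

section Tangent

variable {k : Type u} [Field k] {n : ℕ}

/-- The dual number point `1 + ε E_ij`. -/
noncomputable def dualPt (ij : Fin n × Fin n) : GB n k →ₐ[k] DualNumber k :=
  glPt (1 + Matrix.single ij.1 ij.2 DualNumber.eps) (by
    refine TrivSqZeroExt.isUnit_iff_isUnit_fst.mpr ?_
    rw [← TrivSqZeroExt.fstHom_apply (S := k)]
    rw [AlgHom.map_det]
    have : (TrivSqZeroExt.fstHom k k k).mapMatrix
        (1 + Matrix.single ij.1 ij.2 (DualNumber.eps : DualNumber k)) = 1 := by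
      rw [map_add, map_one, add_eq_left]
      refine Matrix.ext fun a b => ?_
      rw [AlgHom.mapMatrix_apply, Matrix.map_apply, Matrix.single_apply]
      split_ifs <;> simp
    rw [this, Matrix.det_one]
    exact isUnit_one)

/-- The first derivatives at the identity. -/
noncomputable def grad : GB n k →ₗ[k] (Fin n × Fin n → k) where
  toFun f ij := TrivSqZeroExt.snd (dualPt ij f)
  map_add' a b := by funext ij; simp
  map_smul' c a := by funext ij; simp

/-- The value at the identity. -/
noncomputable def ev1 : GB n k →ₐ[k] k := Bialgebra.counitAlgHom k (GB n k)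

theorem matP_ev1 : matP (ev1 (k := k) (n := n)) = 1 := by
  refine Matrix.ext fun i j => ?_
  show Coalgebra.counit (R := k) (CoordGrp.GLn.X i j : GB n k) = _
  rw [CoordGrp.GLn.counit_X, Matrix.one_apply]

theorem fst_dualPt (ij : Fin n × Fin n) (f : GB n k) : TrivSqZeroExt.fst (dualPt ij f) = ev1 f := by
  have h : (TrivSqZeroExt.fstHom k k k).comp (dualPt ij) = ev1 := by
    refine algHom_ext' ?_
    rw [matP_comp, dualPt, matP_glPt, matP_ev1]
    refine Matrix.ext fun a b => ?_
    simp only [Matrix.map_apply, Matrix.add_apply, Matrix.single_apply, Matrix.one_apply]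
    split_ifs <;> simp
  exact AlgHom.congr_fun h f

theorem grad_mul (a b : GB n k) : grad (a * b) = ev1 a • grad b + ev1 b • grad a := by
  funext ij
  show TrivSqZeroExt.snd (dualPt ij (a * b)) = _
  rw [map_mul, TrivSqZeroExt.snd_mul, fst_dualPt, fst_dualPt]
  simp [grad, _root_.mul_comm]

theorem grad_algebraMap (c : k) : grad (algebraMap k (GB n k) c) = 0 := by
  funext ij
  show TrivSqZeroExt.snd (dualPt ij (algebraMap k _ c)) = 0
  rw [AlgHom.commutes]
  rfl

theorem grad_X (a b : Fin n) (ij : Fin n × Fin n) :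
    grad (CoordGrp.GLn.X a b : GB n k) ij = if ij = (a, b) then 1 else 0 := by
  show TrivSqZeroExt.snd (dualPt ij (CoordGrp.GLn.X a b)) = _
  rw [← matP_apply, dualPt, matP_glPt]
  obtain ⟨i, j⟩ := ij
  by_cases h : i = a ∧ j = b
  · obtain ⟨rfl, rfl⟩ := h
    rw [if_pos rfl, Matrix.add_apply, Matrix.single_apply, if_pos ⟨rfl, rfl⟩, Matrix.one_apply]
    split_ifs <;> simp
  · rw [if_neg (fun e => h ⟨congrArg Prod.fst e, congrArg Prod.snd e⟩), Matrix.add_apply, Matrix.single_apply,
      if_neg h, add_zero, Matrix.one_apply]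
    split_ifs <;> simp

variable {T : Type v} [CommRing T] [Algebra k T]

/-- A first order change of a point is given by the derivatives at the identity. -/
theorem apply_eq_add_grad (φ φ' : GB n k →ₐ[k] T) (e : Fin n × Fin n → T) (he : ∀ p p', e p * e p' = 0)
    (heφ : ∀ p b, e p * φ b = ev1 b • e p) (hmat : ∀ i j, matP φ' i j = matP φ i j + e (i, j)) (b : GB n k) :
    φ' b = φ b + ∑ p, grad b p • e p := by
  let ψ : GB n k →ₐ[k] T :=
    { toFun := fun b => φ b + ∑ p, grad b p • e p
      map_one' := by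
        show φ 1 + ∑ p, grad (1 : GB n k) p • e p = 1
        rw [map_one, ← map_one (algebraMap k (GB n k)), grad_algebraMap]
        simp
      map_mul' := fun a c => by
        show φ (a * c) + ∑ p, grad (a * c) p • e p = (φ a + ∑ p, grad a p • e p) * (φ c + ∑ p, grad c p • e p)
        have h0 : (∑ p, grad a p • e p) * (∑ p, grad c p • e p) = 0 := by
          rw [Finset.sum_mul_sum]
          simp [he]
        have h1 : ∀ (d : GB n k) (v : Fin n × Fin n → k),
            (∑ p, v p • e p) * φ d = ∑ p, (ev1 d * v p) • e p := fun d v => by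
          rw [Finset.sum_mul]
          exact Finset.sum_congr rfl fun p _ => by rw [smul_mul_assoc, heφ, smul_smul, _root_.mul_comm]
        rw [map_mul, add_mul, mul_add, mul_add, h0, _root_.mul_comm (φ a) (∑ p, grad c p • e p), h1, h1, add_zero,
          grad_mul]
        simp only [Pi.add_apply, Pi.smul_apply, smul_eq_mul, add_smul, Finset.sum_add_distrib]
        abel
      map_zero' := by simp
      map_add' := fun a c => by
        simp only [map_add, Pi.add_apply, add_smul, Finset.sum_add_distrib]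
        abel
      commutes' := fun c => by simp [grad_algebraMap] }
  have : φ' = ψ := by
    refine algHom_ext' (Matrix.ext fun i j => ?_)
    rw [hmat]
    show matP φ i j + e (i, j) = φ (CoordGrp.GLn.X i j) + ∑ p, grad (CoordGrp.GLn.X i j : GB n k) p • e p
    rw [Finset.sum_eq_single (i, j) (fun p _ hp => by rw [grad_X, if_neg hp, zero_smul])
      (fun h => absurd (Finset.mem_univ _) h), grad_X, if_pos rfl, one_smul, matP_apply]
  exact AlgHom.congr_fun this b

theorem ev1_eq : (ev1 : GB n k →ₐ[k] k) = Bialgebra.counitAlgHom k (GB n k) := rfl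

/-- Functions vanishing to second order. -/
theorem mem_aug_sq {f : GB n k} (h0 : ev1 f = 0) (h1 : grad f = 0) : f ∈ Cartier0.aug k (GB n k) ^ 2 := by
  set m := Cartier0.aug k (GB n k)
  have hX : ∀ p : Fin n × Fin n,
      (CoordGrp.GLn.X p.1 p.2 : GB n k) - algebraMap k (GB n k) (ev1 (CoordGrp.GLn.X p.1 p.2)) ∈ m :=
    fun p => Cartier0.sub_counit_mem _
  let Q := GB n k ⧸ (m ^ 2)
  let π : GB n k →ₐ[k] Q := Ideal.Quotient.mkₐ k _
  have key := apply_eq_add_grad ((Algebra.ofId k Q).comp ev1) π
    (fun p => π ((CoordGrp.GLn.X p.1 p.2 : GB n k) - algebraMap k _ (ev1 (CoordGrp.GLn.X p.1 p.2))))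
    (fun p p' => by
      rw [← map_mul]
      exact Ideal.Quotient.eq_zero_iff_mem.mpr (by rw [pow_two]; exact Ideal.mul_mem_mul (hX p) (hX p')))
    (fun p b => by
      rw [Algebra.smul_def, _root_.mul_comm]
      rfl)
    (fun i j => by
      rw [matP_apply, matP_apply, map_sub, AlgHom.commutes]
      exact (add_sub_cancel _ _).symm) f
  rw [h1, AlgHom.comp_apply, h0, map_zero] at key
  simp only [Pi.zero_apply, zero_smul, Finset.sum_const_zero, add_zero] at key
  exact Ideal.Quotient.eq_zero_iff_mem.mp key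

end Tangent

variable {k : Type u} [Field k] [IsAlgClosed k] [CharZero k] {n : ℕ} {A : Type u} [CommRing A] [HopfAlgebra k A]
  [Algebra.FiniteType k A] (q : GB n k →ₐc[k] A)

/-- The matrix of a point of the subgroup. -/
noncomputable def Gq {T : Type v} [CommRing T] [Algebra k T] (g : A →ₐ[k] T) : Matrix (Fin n) (Fin n) T :=
  matP (g.comp (qH q))

theorem isUnit_det_Gq {T : Type v} [CommRing T] [Algebra k T] (g : A →ₐ[k] T) : IsUnit (Gq q g).det :=
  isUnit_det_matP _

theorem Gq_mulPt {T : Type v} [CommRing T] [Algebra k T] (g g' : A →ₐ[k] T) :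
    Gq q (mulPt g g') = Gq q g * Gq q g' := by
  rw [Gq, qH, mulPt_comp q g g', matP_mulPt]
  rfl

theorem Gq_antipode {T : Type v} [CommRing T] [Algebra k T] (g : A →ₐ[k] T) :
    Gq q (g.comp (HopfAlgebra.antipodeAlgHom k A)) * Gq q g = 1 := by
  rw [Gq, AlgHom.comp_assoc]
  exact matP_antipode_mul q g

theorem Gq_mul_antipode {T : Type v} [CommRing T] [Algebra k T] (g : A →ₐ[k] T) :
    Gq q g * Gq q (g.comp (HopfAlgebra.antipodeAlgHom k A)) = 1 :=
  mul_eq_one_comm.mp (Gq_antipode q g)

theorem Gq_counit {T : Type v} [CommRing T] [Algebra k T] :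
    Gq q ((Algebra.ofId k T).comp (Bialgebra.counitAlgHom k A)) = 1 := by
  refine Eq.trans ?_ (matP_counit (k := k) (n := n) (T := T))
  refine congrArg matP (AlgHom.ext fun b => ?_)
  show algebraMap k T (Coalgebra.counit (R := k) (qH q b)) = algebraMap k T (Coalgebra.counit (R := k) b)
  exact congrArg _ (CoalgHomClass.counit_comp_apply q b)

/-- The functions on the quotient by the subgroup. -/
def InvC (f : GB n k) : Prop := toLB q f ∈ GLin.invariants k A (LB q)

theorem isReduced_GB : _root_.IsReduced (GB n k) :=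
  haveI : Algebra.FiniteType k (GB n k) := finiteType_GB
  Cartier0.isReduced (k := k) (A := GB n k)

theorem eq_of_forall_point {f f' : GB n k} (h : ∀ φ : GB n k →ₐ[k] k, φ f = φ f') : f = f' := by
  haveI := isReduced_GB (k := k) (n := n)
  haveI : Algebra.FiniteType k (GB n k) := finiteType_GB
  by_contra hne
  obtain ⟨φ, hφ⟩ := exists_point_ne_zero (k := k) (a := f - f')
    (fun hn => hne (sub_eq_zero.mp hn.eq_zero))
  exact hφ (by rw [map_sub, h, sub_self])

theorem eq_of_forall_point_A {f f' : A} (h : ∀ φ : A →ₐ[k] k, φ f = φ f') : f = f' := by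
  haveI := Cartier0.isReduced (k := k) (A := A)
  by_contra hne
  obtain ⟨φ, hφ⟩ := exists_point_ne_zero (k := k) (a := f - f')
    (fun hn => hne (sub_eq_zero.mp hn.eq_zero))
  exact hφ (by rw [map_sub, h, sub_self])

theorem act_lb (g : A →ₐ[k] k) (f : GB n k) (φ : GB n k →ₐ[k] k) :
    φ ((toLB q).symm (HopfRep.Comod.act k A (LB q) g (toLB q f))) =
      glPt (Gq q (g.comp (HopfAlgebra.antipodeAlgHom k A)) * matP φ)
        (isUnit_det_mul (isUnit_det_Gq q _) (isUnit_det_matP φ)) f := by
  have h : (Algebra.TensorProduct.lift φ g fun _ _ => .all _ _).comp (beta q) =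
      glPt (Gq q (g.comp (HopfAlgebra.antipodeAlgHom k A)) * matP φ)
        (isUnit_det_mul (isUnit_det_Gq q _) (isUnit_det_matP φ)) :=
    algHom_ext' (by rw [matP_glPt, matP_mvB, Gq, AlgHom.comp_assoc])
  rw [← AlgHom.congr_fun h f, AlgHom.comp_apply]
  show φ (TensorProduct.rid k (GB n k) (g.toLinearMap.lTensor (GB n k) (beta q f))) = _
  induction beta q f using TensorProduct.induction_on with
  | zero => simp
  | add a b ha hb => simp only [map_add, ha, hb]
  | tmul a b => simp [_root_.mul_comm]

theorem invC_iff {f : GB n k} : InvC q f ↔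
    ∀ (g : A →ₐ[k] k) (φ φ' : GB n k →ₐ[k] k), matP φ' = Gq q g * matP φ → φ' f = φ f := by
  constructor
  · intro hf g φ φ' e
    have h1 : HopfRep.Comod.act k A (LB q) g (toLB q f) = toLB q f := act_fixed hf g
    have h2 := act_lb q g f φ'
    rw [h1, AlgEquiv.symm_apply_apply] at h2
    rw [h2]
    refine AlgHom.congr_fun (algHom_ext' ?_) f
    rw [matP_glPt, e, ← Matrix.mul_assoc, Gq_antipode, Matrix.one_mul]
  · intro h
    haveI := Cartier0.isReduced (k := k) (A := A)
    refine mem_fixedPts_of_forall_act fun g => (toLB q).symm.injective ?_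
    rw [AlgEquiv.symm_apply_apply]
    refine eq_of_forall_point fun φ => ?_
    rw [act_lb]
    refine (h g _ φ ?_).symm
    rw [matP_glPt, ← Matrix.mul_assoc, Gq_mul_antipode, Matrix.one_mul]

theorem InvC.add {f f' : GB n k} (h : InvC q f) (h' : InvC q f') : InvC q (f + f') :=
  (GLin.invariants k A (LB q)).add_mem h h'

theorem InvC.mul {f f' : GB n k} (h : InvC q f) (h' : InvC q f') : InvC q (f * f') :=
  (GLin.invariants k A (LB q)).mul_mem h h'

theorem InvC.sub {f f' : GB n k} (h : InvC q f) (h' : InvC q f') : InvC q (f - f') :=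
  (GLin.invariants k A (LB q)).sub_mem h h'

theorem InvC.smul (c : k) {f : GB n k} (h : InvC q f) : InvC q (c • f) :=
  (GLin.invariants k A (LB q)).smul_mem h c

theorem invC_algebraMap (c : k) : InvC q (algebraMap k (GB n k) c) :=
  (GLin.invariants k A (LB q)).algebraMap_mem c

theorem qH_eq_zero_iff {f : GB n k} : qH q f = 0 ↔ ∀ g : A →ₐ[k] k, g (qH q f) = 0 :=
  ⟨fun h g => by rw [h, map_zero], fun h => eq_of_forall_point_A fun g => by rw [h g, map_zero]⟩

theorem qH_invC {f : GB n k} (hf : InvC q f) (h0 : ev1 f = 0) : qH q f = 0 := by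
  refine (qH_eq_zero_iff q).mpr fun g => ?_
  have := (invC_iff q).mp hf g ev1 (g.comp (qH q)) (by rw [matP_ev1, Matrix.mul_one]; rfl)
  rw [AlgHom.comp_apply, h0] at this
  exact this

/-- The averaging operator on functions on the group. -/
noncomputable def reyC (α : A →ₗ[k] k) : GB n k →ₗ[k] GB n k :=
  (toLB q).symm.toLinearMap ∘ₗ (rey α : LB q →ₗ[k] LB q) ∘ₗ (toLB q).toLinearMap

theorem invC_reyC {α : A →ₗ[k] k} (hα : IsIntegral k α) (f : GB n k) : InvC q (reyC q α f) :=
  rey_mem_fixedPts hα _

theorem reyC_of_invC {α : A →ₗ[k] k} (h1 : α 1 = 1) {f : GB n k} (hf : InvC q f) : reyC q α f = f :=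
  congrArg (toLB q).symm (rey_of_fixed (A := A) (V := LB q) h1 (show toLB q f ∈ HopfRep.fixedPts k A (LB q) from hf))

theorem reyC_mul {α : A →ₗ[k] k} (f : GB n k) {c : GB n k} (hc : InvC q c) :
    reyC q α (f * c) = reyC q α f * c :=
  congrArg (toLB q).symm (rey_mul_invariant (α := α) (toLB q f) hc)

/-- The functions vanishing on a right coset form a subcomodule. -/
theorem reyC_vanish (α : A →ₗ[k] k) (M : Matrix (Fin n) (Fin n) k) (hM : IsUnit M.det) {f : GB n k}
    (hf : ∀ g : A →ₐ[k] k, glPt (Gq q g * M) (isUnit_det_mul (isUnit_det_Gq q g) hM) f = 0) (g : A →ₐ[k] k) :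
    glPt (Gq q g * M) (isUnit_det_mul (isUnit_det_Gq q g) hM) (reyC q α f) = 0 := by
  haveI := Cartier0.isReduced (k := k) (A := A)
  let U : Submodule k (LB q) :=
    { carrier := {b | ∀ g : A →ₐ[k] k,
        glPt (Gq q g * M) (isUnit_det_mul (isUnit_det_Gq q g) hM) ((toLB q).symm b) = 0}
      add_mem' := fun {a b} ha hb g => by rw [map_add, map_add, ha g, hb g, add_zero]
      zero_mem' := fun g => by rw [map_zero, map_zero]
      smul_mem' := fun c b hb g => by rw [map_smul, map_smul, hb g, smul_zero] }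
  have hU : HopfRep.IsSubcomod (k := k) (A := A) U := by
    refine isSubcomod_of_forall_act fun g b hb g' => ?_
    obtain ⟨b, rfl⟩ := (toLB q).surjective b
    rw [act_lb]
    have h := hb (mulPt (g.comp (HopfAlgebra.antipodeAlgHom k A)) g')
    rw [AlgEquiv.symm_apply_apply] at h
    refine Eq.trans (AlgHom.congr_fun (algHom_ext' ?_) b) h
    rw [matP_glPt, matP_glPt, matP_glPt, Gq_mulPt, Matrix.mul_assoc]
  exact rey_mem_of_isSubcomod (v := toLB q f) hU (fun g => hf g) g

theorem qH_reyC_eq_zero (α : A →ₗ[k] k) {f : GB n k} (hf : qH q f = 0) : qH q (reyC q α f) = 0 := by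
  refine (qH_eq_zero_iff q).mpr fun g => ?_
  have e : ∀ g : A →ₐ[k] k, glPt (Gq q g * 1) (isUnit_det_mul (isUnit_det_Gq q g) (by simp)) = g.comp (qH q) :=
    fun g => algHom_ext' (by rw [matP_glPt, Matrix.mul_one]; rfl)
  have h := reyC_vanish q α 1 (by simp) (f := f) (fun g => by rw [e, AlgHom.comp_apply, hf, map_zero]) g
  rwa [e, AlgHom.comp_apply] at h

theorem ev1_reyC {α : A →ₗ[k] k} (h1 : α 1 = 1) {f : GB n k} (hf : qH q f = 1) : ev1 (reyC q α f) = 1 := by
  have h := qH_reyC_eq_zero q α (f := f - 1) (by rw [map_sub, hf, map_one, sub_self])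
  rw [map_sub, reyC_of_invC q h1 (show InvC q 1 from (GLin.invariants k A (LB q)).one_mem), map_sub, map_one,
    sub_eq_zero] at h
  rw [ev1_eq, Bialgebra.counitAlgHom_apply,
    ← show Coalgebra.counit (R := k) (qH q (reyC q α f)) = Coalgebra.counit (R := k) (reyC q α f) from
      CoalgHomClass.counit_comp_apply q _, h, Bialgebra.counit_one]

variable {α : A →ₗ[k] k} (hα : IsIntegral k α) (h1 : α 1 = 1) (hq : Function.Surjective (qH q))

include hα h1 hq

/-- A point with the values of the identity on invariant functions lies in the subgroup. -/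
theorem exists_eq_Gq {φ : GB n k →ₐ[k] k} (hφ : ∀ f, InvC q f → φ f = ev1 f) :
    ∃ g : A →ₐ[k] k, matP φ = Gq q g := by
  classical
  haveI : Algebra.FiniteType k (GB n k) := finiteType_GB
  let rt : GB n k →ₐ[k] GB n k :=
    glPt (CoordGrp.GLn.genMat n k * (matP φ).map (algebraMap k (GB n k)))
      (isUnit_det_mul (by rw [← CoordGrp.GLn.det_eq]; exact IsUnit.of_mul_eq_one _ CoordGrp.GLn.det_mul_Dinv)
        (isUnit_det_map (Algebra.ofId k _) (isUnit_det_matP φ)))
  let I : Ideal (GB n k) := RingHom.ker (qH q)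
  let I' : Ideal (GB n k) := RingHom.ker ((qH q).comp rt)
  have hev : ∀ (g : A →ₐ[k] k), matP ((g.comp (qH q)).comp rt) = Gq q g * matP φ := by
    intro g
    rw [matP_comp, show matP rt = _ from matP_glPt _ _, Matrix.map_mul]
    congr 1
    refine Matrix.ext fun i j => ?_
    rw [Matrix.map_apply, Matrix.map_apply]
    exact (g.comp (qH q)).commutes _
  by_cases htop : I ⊔ I' = ⊤
  · exfalso
    obtain ⟨a, ha, b, hb, hab⟩ := Submodule.mem_sup.mp ((Ideal.eq_top_iff_one _).mp htop)
    have hr := congrArg (reyC q α) hab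
    rw [map_add, reyC_of_invC q h1 (show InvC q 1 from (GLin.invariants k A (LB q)).one_mem)] at hr
    have hb1 : ev1 (reyC q α b) = 1 := by
      refine ev1_reyC q h1 ?_
      have := congrArg (qH q) hab
      rwa [map_add, show qH q a = 0 from ha, zero_add, map_one] at this
    have hφb : φ (reyC q α b) = 0 := by
      have h := reyC_vanish q α (matP φ) (isUnit_det_matP φ) (f := b) (fun g => ?_)
        ((Algebra.ofId k k).comp (Bialgebra.counitAlgHom k A))
      · refine Eq.trans (AlgHom.congr_fun (algHom_ext' ?_) _) h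
        rw [matP_glPt, Gq_counit, Matrix.one_mul]
      · refine Eq.trans (AlgHom.congr_fun (algHom_ext' ?_) b) (show ((g.comp (qH q)).comp rt) b = 0 from ?_)
        · rw [matP_glPt, hev]
        · rw [AlgHom.comp_apply, AlgHom.comp_apply]
          rw [show qH q (rt b) = 0 from hb, map_zero]
    rw [hφ _ (invC_reyC q hα b), hb1] at hφb
    exact one_ne_zero hφb
  · obtain ⟨w, hw⟩ := exists_point (k := k) _ htop
    have hsurj : Function.Surjective ((qH q).comp rt) := by
      refine hq.comp fun b => ?_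
      let rt' : GB n k →ₐ[k] GB n k :=
        glPt (CoordGrp.GLn.genMat n k * ((matP φ)⁻¹).map (algebraMap k (GB n k)))
          (isUnit_det_mul (by rw [← CoordGrp.GLn.det_eq]; exact IsUnit.of_mul_eq_one _ CoordGrp.GLn.det_mul_Dinv)
            (isUnit_det_map (Algebra.ofId k _) ((Matrix.isUnit_nonsing_inv_det_iff).mpr (isUnit_det_matP φ))))
      refine ⟨rt' b, ?_⟩
      show (rt.comp rt') b = b
      refine (AlgHom.congr_fun (algHom_ext' (ψ := AlgHom.id k (GB n k)) ?_) b)
      rw [matP_comp, show matP rt' = _ from matP_glPt _ _, Matrix.map_mul,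
        show (CoordGrp.GLn.genMat n k).map rt = _ from matP_glPt _ _, Matrix.mul_assoc,
        show (((matP φ)⁻¹).map (algebraMap k (GB n k))).map rt = ((matP φ)⁻¹).map (algebraMap k (GB n k)) from
          Matrix.ext fun i j => rt.commutes _, ← Matrix.map_mul, Matrix.mul_nonsing_inv _ (isUnit_det_matP φ),
        Matrix.map_one _ (map_zero _) (map_one _), Matrix.mul_one]
      rfl
    obtain ⟨g1, hg1⟩ : ∃ g : A →ₐ[k] k, g.comp (qH q) = w :=
      ⟨AlgHom.liftOfSurjective (qH q) hq w (le_sup_left.trans hw), AlgHom.liftOfSurjective_comp _ _ _ _⟩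
    obtain ⟨g2, hg2⟩ : ∃ g : A →ₐ[k] k, g.comp ((qH q).comp rt) = w :=
      ⟨AlgHom.liftOfSurjective _ hsurj w (le_sup_right.trans hw), AlgHom.liftOfSurjective_comp _ _ _ _⟩
    refine ⟨mulPt (g2.comp (HopfAlgebra.antipodeAlgHom k A)) g1, ?_⟩
    rw [Gq_mulPt]
    have e : Gq q g1 = Gq q g2 * matP φ := by
      rw [← hev, AlgHom.comp_assoc, hg2, ← hg1]
      rfl
    rw [e, ← Matrix.mul_assoc, Gq_antipode, Matrix.one_mul]

/-- An invariant function congruent to a given one modulo `I · m`. -/
theorem exists_invC_sub_mem {i : GB n k} (hi : qH q i = 0) :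
    ∃ P : GB n k, InvC q P ∧ i - P ∈ RingHom.ker (qH q) * Cartier0.aug k (GB n k) := by
  classical
  haveI : Algebra.FiniteType k (GB n k) := finiteType_GB
  choose σ hσ using hq
  obtain ⟨σl, hσl⟩ := (qH q).toLinearMap.exists_rightInverse_of_surjective
    (LinearMap.range_eq_top.mpr fun a => ⟨σ a, hσ a⟩)
  have hσl' : ∀ a, qH q (σl a) = a := LinearMap.congr_fun hσl
  let Θ := theta q (LB q) α σl (toLB q i)
  let f : LB q →ₐ[k] A := (qH q).comp (toLB q).symm.toAlgHom
  let γ : A →ₐ[k] A ⊗[k] A := (Algebra.TensorProduct.map (AlgHom.id k A) (HopfAlgebra.antipodeAlgHom k A)).comp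
    ((Algebra.TensorProduct.comm k A A).toAlgHom.comp (Bialgebra.comulAlgHom k A))
  have hf : (Algebra.TensorProduct.map f (AlgHom.id k A)).comp (GLin.coactAlgHom k A (LB q)) = γ.comp f := by
    refine AlgHom.ext fun b => ?_
    obtain ⟨b, rfl⟩ := (toLB q).surjective b
    simp only [AlgHom.comp_apply, GLin.coactAlgHom_apply, coact_lb]
    show _ = Algebra.TensorProduct.map _ _ (Algebra.TensorProduct.comm k A A (Coalgebra.comul (R := k) (qH q b)))
    rw [show Coalgebra.comul (R := k) (qH q b) = TensorProduct.map (qH q).toLinearMap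
      (qH q).toLinearMap (Coalgebra.comul (R := k) b) from (CoalgHomClass.map_comp_comul_apply q _).symm]
    show Algebra.TensorProduct.map f _ (Algebra.TensorProduct.map _ _ (Algebra.TensorProduct.map _ _
      (Algebra.TensorProduct.comm k _ _ (Coalgebra.comul (R := k) b)))) = _
    induction Coalgebra.comul (R := k) b using TensorProduct.induction_on with
    | zero => simp
    | add x y hx hy => simp only [map_add, hx, hy]
    | tmul x y => simp [f]
  have hker : Algebra.TensorProduct.map f (AlgHom.id k (LB q)) Θ = 0 :=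
    map_theta_eq_zero q f γ hf α σl (by show qH q i = 0; exact hi)
  have he1 : e1 q Θ = toLB q i := e1_theta q h1 hσl' _
  let μ : LB q ⊗[k] LB q →ₐ[k] LB q := Algebra.TensorProduct.lmul' k
  have hμ : Hoch.IsComodHom A μ.toLinearMap := by
    refine LinearMap.ext fun F => ?_
    show HopfRep.Comod.coact (k := k) (A := A) (μ F) =
      μ.toLinearMap.rTensor A (HopfRep.Comod.coact (k := k) (A := A) F)
    rw [coact_mix]
    have h : (GLin.coactAlgHom k A (LB q)).comp μ =
        (Algebra.TensorProduct.map μ (AlgHom.id k A)).comp (GLinEt.coactP A (LB q) (LB q)) := by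
      refine Algebra.TensorProduct.ext' fun a b => ?_
      simp only [AlgHom.comp_apply, GLinEt.coactP, Algebra.TensorProduct.productMap_apply_tmul, map_mul, μ,
        Algebra.TensorProduct.lmul'_apply_tmul]
      congr 1
      · induction GLin.coactAlgHom k A (LB q) a using TensorProduct.induction_on with
        | zero => simp
        | add x y hx hy => rw [map_add, map_add, ← hx, ← hy]
        | tmul x y => simp only [Algebra.TensorProduct.map_tmul, AlgHom.id_apply, Algebra.TensorProduct.includeLeft_apply, Algebra.TensorProduct.lmul'_apply_tmul, _root_.mul_one]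
      · induction GLin.coactAlgHom k A (LB q) b using TensorProduct.induction_on with
        | zero => simp
        | add x y hx hy => rw [map_add, map_add, ← hx, ← hy]
        | tmul x y => simp only [Algebra.TensorProduct.map_tmul, AlgHom.id_apply, Algebra.TensorProduct.includeRight_apply, Algebra.TensorProduct.lmul'_apply_tmul, _root_.one_mul]
    exact AlgHom.congr_fun h F
  refine ⟨(toLB q).symm (μ Θ), map_mem_fixedPts hμ (theta_mem q hα σl _), ?_⟩
  have hmem : Θ ∈ Ideal.map (Algebra.TensorProduct.includeLeft : LB q →ₐ[k] LB q ⊗[k] LB q) (RingHom.ker f) := by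
    rw [← Algebra.TensorProduct.rTensor_ker f (fun a => ⟨toLB q (σ a), hσ a⟩)]
    exact hker
  have hgoal : ∀ w : (Submodule.restrictScalars k (RingHom.ker f)) ⊗[k] LB q,
      (toLB q).symm (e1 q ((Submodule.restrictScalars k (RingHom.ker f)).subtype.rTensor (LB q) w)) -
        (toLB q).symm (μ ((Submodule.restrictScalars k (RingHom.ker f)).subtype.rTensor (LB q) w)) ∈
        RingHom.ker (qH q) * Cartier0.aug k (GB n k) := by
    intro w
    induction w using TensorProduct.induction_on with
    | zero => simp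
    | add x y hx hy =>
      simp only [map_add]
      rw [add_sub_add_comm]
      exact Ideal.add_mem _ hx hy
    | tmul a b =>
      obtain ⟨b, rfl⟩ := (toLB q).surjective b
      rw [LinearMap.rTensor_tmul, e1, pev_tmul]
      show (toLB q).symm ((a : LB q) * algebraMap k (LB q) (ev1 b)) -
        (toLB q).symm (Algebra.TensorProduct.lmul' k ((a : LB q) ⊗ₜ[k] toLB q b)) ∈ _
      rw [Algebra.TensorProduct.lmul'_apply_tmul, map_mul, map_mul, AlgEquiv.symm_apply_apply, AlgEquiv.commutes,
        ← mul_sub]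
      refine Ideal.mul_mem_mul a.2 ?_
      rw [← neg_sub]
      exact neg_mem (Cartier0.sub_counit_mem b)
  have hmem' : Θ ∈ (Submodule.restrictScalars k
      (Ideal.map (Algebra.TensorProduct.includeLeft : LB q →ₐ[k] LB q ⊗[k] LB q) (RingHom.ker f))) := hmem
  rw [Ideal.map_includeLeft_eq] at hmem'
  obtain ⟨w, hw⟩ := hmem'
  have := hgoal w
  rwa [hw, he1, AlgEquiv.symm_apply_apply] at this

/-- Invariant functions with independent derivatives generate the ideal of the subgroup near it. -/
theorem exists_localizer : ∃ (r : ℕ) (P : Fin r → GB n k) (δ : GB n k),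
    (∀ j, InvC q (P j) ∧ ev1 (P j) = 0) ∧ LinearIndependent k (fun j => grad (P j)) ∧ qH q δ = 1 ∧
      ∀ i, qH q i = 0 → δ * i ∈ Ideal.span (Set.range P) := by
  classical
  haveI : Algebra.FiniteType k (GB n k) := finiteType_GB
  haveI : IsNoetherianRing (GB n k) := Algebra.FiniteType.isNoetherianRing k _
  let V0 : Submodule k (GB n k) :=
    { carrier := {f | InvC q f ∧ ev1 f = 0}
      add_mem' := fun {a b} ha hb => ⟨ha.1.add q hb.1, by rw [map_add, ha.2, hb.2, add_zero]⟩
      zero_mem' := ⟨(GLin.invariants k A (LB q)).zero_mem, map_zero _⟩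
      smul_mem' := fun c a ha => ⟨ha.1.smul q c, by rw [map_smul, ha.2, smul_zero]⟩ }
  let W := Submodule.map grad V0
  let bW := Module.finBasis k W
  choose P hP hPe using fun j => (bW j).2
  have hind : LinearIndependent k (fun j => grad (P j)) := by
    have := bW.linearIndependent.map' W.subtype (Submodule.ker_subtype _)
    rwa [show (fun j => grad (P j)) = W.subtype ∘ bW from funext hPe]
  let I : Ideal (GB n k) := RingHom.ker (qH q)
  let J : Ideal (GB n k) := Ideal.span (Set.range P)
  let m1 : Ideal (GB n k) := Cartier0.aug k (GB n k)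
  have hJI : J ≤ I := Ideal.span_le.mpr (by rintro _ ⟨j, rfl⟩; exact qH_invC q (hP j).1 (hP j).2)
  have key1 : I ≤ J ⊔ I * m1 := by
    intro i hi
    obtain ⟨Q, hQ, hiQ⟩ := exists_invC_sub_mem q hα h1 hq (i := i) hi
    have hiQI : i - Q ∈ I := (Ideal.mul_le_left : I * m1 ≤ I) hiQ
    have hQI : Q ∈ I := by
      have := I.sub_mem hi hiQI
      rwa [sub_sub_cancel] at this
    have hQ0 : ev1 Q = 0 := by
      rw [ev1_eq, ← counit_q q Q, show (q : GB n k →ₐ[k] A) Q = 0 from hQI, map_zero]
    obtain ⟨c, hc⟩ : ∃ c : Fin (Module.finrank k W) → k, grad Q = ∑ j, c j • grad (P j) := by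
      refine ⟨fun j => bW.repr ⟨grad Q, Q, ⟨hQ, hQ0⟩, rfl⟩ j, ?_⟩
      have := congrArg W.subtype (bW.sum_repr ⟨grad Q, Q, ⟨hQ, hQ0⟩, rfl⟩)
      rw [map_sum] at this
      refine this.symm.trans (Finset.sum_congr rfl fun j _ => ?_)
      rw [map_smul, hPe]
      rfl
    have hsum : ∑ j, c j • P j ∈ J := Submodule.sum_mem _ fun j _ => by
      rw [Algebra.smul_def]; exact J.mul_mem_left _ (Ideal.subset_span ⟨j, rfl⟩)
    have h2 : Q - ∑ j, c j • P j ∈ I * m1 := by
      refine mem_mul_aug q hq (I.sub_mem hQI (hJI hsum)) (mem_aug_sq ?_ ?_)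
      · rw [map_sub, hQ0, map_sum, Finset.sum_eq_zero (fun j _ => by rw [map_smul, (hP j).2, smul_zero]), sub_zero]
      · rw [map_sub, map_sum, hc]
        simp [map_smul]
    rw [show i = ∑ j, c j • P j + ((i - Q) + (Q - ∑ j, c j • P j)) by abel]
    exact Submodule.add_mem_sup hsum (Ideal.add_mem _ hiQ h2)
  have key2 : ∀ g : A →ₐ[k] k, I ≤ J ⊔ I * RingHom.ker (g.comp (qH q)) := by
    intro g i hi
    have hgen : IsUnit (CoordGrp.GLn.genMat n k).det := by
      rw [← CoordGrp.GLn.det_eq]; exact IsUnit.of_mul_eq_one _ CoordGrp.GLn.det_mul_Dinv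
    let lt (g : A →ₐ[k] k) : GB n k →ₐ[k] GB n k :=
      glPt ((Gq q g).map (algebraMap k (GB n k)) * CoordGrp.GLn.genMat n k)
        (isUnit_det_mul (isUnit_det_map (Algebra.ofId k _) (isUnit_det_Gq q g)) hgen)
    have hlt : ∀ (g : A →ₐ[k] k) (φ : GB n k →ₐ[k] k), matP (φ.comp (lt g)) = Gq q g * matP φ := fun g φ => by
      rw [matP_comp, show matP (lt g) = _ from matP_glPt _ _, Matrix.map_mul]
      congr 1
      exact Matrix.ext fun i j => φ.commutes _
    have hltI : ∀ (g : A →ₐ[k] k) (b : GB n k), b ∈ I → lt g b ∈ I := fun g b hb => by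
      refine (qH_eq_zero_iff q).mpr fun g' => ?_
      have : (g'.comp (qH q)).comp (lt g) = (mulPt g g').comp (qH q) :=
        algHom_ext' (by rw [hlt]; exact (Gq_mulPt q g g').symm)
      rw [← AlgHom.comp_apply, ← AlgHom.comp_apply, this, AlgHom.comp_apply, show qH q b = 0 from hb, map_zero]
    have hltP : ∀ (g : A →ₐ[k] k) j, lt g (P j) = P j := fun g j =>
      eq_of_forall_point fun φ => (invC_iff q).mp (hP j).1 g φ (φ.comp (lt g)) (hlt g φ)
    let g' := g.comp (HopfAlgebra.antipodeAlgHom k A)
    have hinv : ∀ b, lt g' (lt g b) = b := fun b => eq_of_forall_point fun φ => by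
      refine AlgHom.congr_fun (algHom_ext' (φ := (φ.comp (lt g')).comp (lt g)) ?_) b
      rw [hlt, hlt, ← Matrix.mul_assoc, Gq_mul_antipode, Matrix.one_mul]
    have h := key1 (hltI g i hi)
    have hmap : Ideal.map (lt g') (J ⊔ I * m1) ≤ J ⊔ I * RingHom.ker (g.comp (qH q)) := by
      rw [Ideal.map_sup, Ideal.map_mul, Ideal.map_span]
      refine sup_le_sup (Ideal.span_le.mpr ?_) (Ideal.mul_mono (Ideal.map_le_iff_le_comap.mpr (hltI g')) ?_)
      · rintro _ ⟨_, ⟨j, rfl⟩, rfl⟩
        rw [hltP]
        exact Ideal.subset_span ⟨j, rfl⟩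
      · refine Ideal.map_le_iff_le_comap.mpr fun b hb => ?_
        show g.comp (qH q) (lt g' b) = 0
        have : (g.comp (qH q)).comp (lt g') = ev1 :=
          algHom_ext' (by rw [hlt, matP_ev1]; exact Gq_antipode q g)
        rw [← AlgHom.comp_apply, this]
        exact hb
    have h' := hmap (Ideal.mem_map_of_mem _ h)
    rwa [hinv] at h'
  let 𝔠 : Ideal (GB n k) :=
    { carrier := {c | ∀ i ∈ I, c * i ∈ J}
      add_mem' := fun {a b} ha hb i hi => by rw [add_mul]; exact J.add_mem (ha i hi) (hb i hi)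
      zero_mem' := fun i _ => by rw [zero_mul]; exact J.zero_mem
      smul_mem' := fun c a ha i hi => by rw [smul_eq_mul, _root_.mul_assoc]; exact J.mul_mem_left _ (ha i hi) }
  have htop : 𝔠 ⊔ I = ⊤ := by
    by_contra hne
    obtain ⟨w, hw⟩ := exists_point (k := k) _ hne
    obtain ⟨g, hg⟩ : ∃ g : A →ₐ[k] k, g.comp (qH q) = w :=
      ⟨AlgHom.liftOfSurjective (qH q) hq w (le_sup_right.trans hw), AlgHom.liftOfSurjective_comp _ _ _ _⟩
    let M := RingHom.ker (g.comp (qH q))
    let N : Submodule (GB n k) (GB n k ⧸ J) := Submodule.map (Submodule.mkQ J) I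
    have hN : N ≤ M • N := by
      rintro _ ⟨i, hi, rfl⟩
      obtain ⟨a, ha, b, hb, hab⟩ := Submodule.mem_sup.mp (key2 g hi)
      rw [← hab, map_add, show Submodule.mkQ J a = 0 from (Submodule.Quotient.mk_eq_zero J).mpr ha, zero_add]
      rw [← Submodule.map_smul'' M I (Submodule.mkQ J)]
      exact Submodule.mem_map_of_mem (by rw [smul_eq_mul, _root_.mul_comm]; exact hb)
    obtain ⟨r, hr1, hr2⟩ := Submodule.exists_sub_one_mem_and_smul_eq_zero_of_fg_of_le_smul M N
      ((IsNoetherian.noetherian I).map _) hN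
    have hr : r ∈ 𝔠 := fun i hi => by
      have := hr2 _ (Submodule.mem_map_of_mem (f := Submodule.mkQ J) hi)
      rw [← map_smul, smul_eq_mul] at this
      exact (Submodule.Quotient.mk_eq_zero J).mp this
    have h3 : w r = 0 := hw (Submodule.mem_sup_left hr)
    have h4 : w (r - 1) = 0 := by rw [← hg]; exact hr1
    rw [map_sub, h3, map_one, zero_sub, neg_eq_zero] at h4
    exact one_ne_zero h4
  obtain ⟨δ, hδ, i, hi, hδi⟩ := Submodule.mem_sup.mp ((Ideal.eq_top_iff_one _).mp htop)
  refine ⟨_, P, δ, hP, hind, ?_, hδ⟩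
  have := congrArg (qH q) hδi
  rwa [map_add, show qH q i = 0 from hi, add_zero, map_one] at this

/-- An invariant function vanishing to second order is a combination of products of invariant functions vanishing
at the identity. -/
theorem mem_sq_of_grad {f : GB n k} (hf : InvC q f) (h0 : ev1 f = 0) (hd : grad f = 0) :
    f ∈ Submodule.span k {z : GB n k | ∃ a b, InvC q a ∧ ev1 a = 0 ∧ InvC q b ∧ ev1 b = 0 ∧ z = a * b} := by
  classical
  obtain ⟨r, P, δ, hP, hind, hδ, hJ⟩ := exists_localizer q hα h1 hq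
  obtain ⟨u, hu⟩ := (Submodule.mem_span_range_iff_exists_fun (GB n k)).mp (hJ f (qH_invC q hf h0))
  set e := reyC q α δ with he
  have he1 : ev1 e = 1 := ev1_reyC q h1 hδ
  have hef : e * f = ∑ j, reyC q α (u j) * P j := by
    rw [he, ← reyC_mul q δ hf, ← hu, map_sum]
    exact Finset.sum_congr rfl fun j _ => by rw [smul_eq_mul, reyC_mul q _ (hP j).1]
  have hc : ∀ j, ev1 (reyC q α (u j)) = 0 := by
    have h := congrArg grad hef
    rw [grad_mul, he1, h0, one_smul, zero_smul, add_zero, hd, map_sum] at h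
    simp only [grad_mul, (hP _).2, zero_smul, add_zero] at h
    exact fun j => Fintype.linearIndependent_iff.mp hind (fun j => ev1 (reyC q α (u j))) h.symm j
  rw [show f = ∑ j, reyC q α (u j) * P j + (1 - e) * f by rw [← hef]; ring]
  refine Submodule.add_mem _ (Submodule.sum_mem _ fun j _ => Submodule.subset_span
    ⟨_, _, invC_reyC q hα _, hc j, (hP j).1, (hP j).2, rfl⟩) (Submodule.subset_span
    ⟨_, _, (show InvC q 1 from (GLin.invariants k A (LB q)).one_mem).sub q (invC_reyC q hα _), ?_, hf, h0, rfl⟩)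
  rw [map_sub, map_one, he1, sub_self]

end Groth.Agent.HMCrit
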