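import Groth.Prelude.Def_GLin
import Groth.Prelude.Def_GLin4
import Mathlib.RingTheory.Derivation.Basic
import Mathlib.RingTheory.Derivation.Lie
import Mathlib.Algebra.DualNumber
import Mathlib.Algebra.TrivSqZeroExt.Basic
import Mathlib.Algebra.MonoidAlgebra.Basic
import Mathlib.RingTheory.Bialgebra.MonoidAlgebra
import Mathlib.RingTheory.FiniteType
import Mathlib.LinearAlgebra.LinearIndependent.Defs
import Mathlib.GroupTheory.SpecificGroups.Cyclic
import Mathlib.RingTheory.IntegralDomain
import Mathlib.FieldTheory.IsAlgClosed.Basic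

/-!
# Points of the general linear group as matrices
-/

set_option autoImplicit false
set_option linter.style.haveILetI false

universe u v w

open TensorProduct

namespace Groth.Agent.HMCrit

variable {k : Type u} [Field k] {n : ℕ}

/-- The coordinate ring of the general linear group. -/
abbrev GB (n : ℕ) (k : Type u) [Field k] : Type u := CoordGrp.GLn n k

section Points

variable {T : Type v} [CommRing T] [Algebra k T] {T' : Type w} [CommRing T'] [Algebra k T']

/-- The matrix of a point. -/
noncomputable def matP (φ : GB n k →ₐ[k] T) : Matrix (Fin n) (Fin n) T := fun i j => φ (CoordGrp.GLn.X i j)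

theorem matP_apply (φ : GB n k →ₐ[k] T) (i j : Fin n) : matP φ i j = φ (CoordGrp.GLn.X i j) := rfl

theorem det_matP (φ : GB n k →ₐ[k] T) : (matP φ).det = φ CoordGrp.GLn.det := by
  rw [CoordGrp.GLn.det_eq, AlgHom.map_det]
  rfl

theorem isUnit_det_matP (φ : GB n k →ₐ[k] T) : IsUnit (matP φ).det :=
  IsUnit.of_mul_eq_one (φ CoordGrp.GLn.Dinv) (by
    rw [det_matP, ← map_mul, CoordGrp.GLn.det_mul_Dinv, map_one])

theorem algHom_ext' {φ ψ : GB n k →ₐ[k] T} (h : matP φ = matP ψ) : φ = ψ := by
  refine CoordGrp.GLn.algHom_ext (fun i j => congrFun (congrFun h i) j) ?_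
  have e : ∀ χ : GB n k →ₐ[k] T, (matP χ).det * χ CoordGrp.GLn.Dinv = 1 := fun χ => by
    rw [det_matP, ← map_mul, CoordGrp.GLn.det_mul_Dinv, map_one]
  have h1 := e φ
  rw [h] at h1
  exact left_inv_eq_right_inv (by rwa [mul_comm] at h1) (e ψ)

/-- The point of an invertible matrix. -/
noncomputable def glPt (M : Matrix (Fin n) (Fin n) T) (h : IsUnit M.det) : GB n k →ₐ[k] T :=
  CoordGrp.GLn.pt n k M (↑h.unit⁻¹ : T) h.mul_val_inv

theorem matP_glPt (M : Matrix (Fin n) (Fin n) T) (h : IsUnit M.det) : matP (glPt (k := k) M h) = M :=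
  Matrix.ext fun i j => CoordGrp.GLn.pt_X _ _ _ i j

theorem glPt_matP (φ : GB n k →ₐ[k] T) : glPt (matP φ) (isUnit_det_matP φ) = φ :=
  algHom_ext' (matP_glPt _ _)

theorem matP_comp (f : T →ₐ[k] T') (φ : GB n k →ₐ[k] T) : matP (f.comp φ) = (matP φ).map f := rfl

theorem eq_glPt {φ : GB n k →ₐ[k] T} {M : Matrix (Fin n) (Fin n) T} (h : IsUnit M.det) (e : matP φ = M) :
    φ = glPt M h :=
  algHom_ext' (by rw [matP_glPt, e])

theorem comp_glPt (f : T →ₐ[k] T') (M : Matrix (Fin n) (Fin n) T) (h : IsUnit M.det)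
    (h' : IsUnit (M.map f).det) : f.comp (glPt (k := k) M h) = glPt (M.map f) h' :=
  algHom_ext' (by rw [matP_comp, matP_glPt, matP_glPt])

theorem isUnit_det_map (f : T →ₐ[k] T') {M : Matrix (Fin n) (Fin n) T} (h : IsUnit M.det) :
    IsUnit (M.map f).det := by
  have : (M.map f).det = f M.det := (AlgHom.map_det f M).symm
  rw [this]
  exact h.map f

theorem isUnit_det_mul {M N : Matrix (Fin n) (Fin n) T} (h : IsUnit M.det) (h' : IsUnit N.det) :
    IsUnit (M * N).det := by
  rw [Matrix.det_mul]
  exact h.mul h'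

end Points

section Conv

variable {A : Type v} [CommRing A] [Bialgebra k A] {T : Type w} [CommRing T] [Algebra k T]

/-- The product of two points. -/
noncomputable def mulPt (g h : A →ₐ[k] T) : A →ₐ[k] T :=
  (Algebra.TensorProduct.lift g h fun _ _ => .all _ _).comp (Bialgebra.comulAlgHom k A)

theorem mulPt_comp {A' : Type*} [CommRing A'] [Bialgebra k A'] (q : A' →ₐc[k] A) (g h : A →ₐ[k] T) :
    (mulPt g h).comp (q : A' →ₐ[k] A) = mulPt (g.comp (q : A' →ₐ[k] A)) (h.comp (q : A' →ₐ[k] A)) := by
  refine AlgHom.ext fun a => ?_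
  show Algebra.TensorProduct.lift g h (fun _ _ => .all _ _) (Coalgebra.comul (R := k) ((q : A' →ₐ[k] A) a)) =
    Algebra.TensorProduct.lift (g.comp (q : A' →ₐ[k] A)) (h.comp (q : A' →ₐ[k] A)) (fun _ _ => .all _ _) (Coalgebra.comul (R := k) a)
  rw [show Coalgebra.comul (R := k) ((q : A' →ₐ[k] A) a) = TensorProduct.map (q : A' →ₐ[k] A).toLinearMap
    (q : A' →ₐ[k] A).toLinearMap (Coalgebra.comul (R := k) a) from (CoalgHomClass.map_comp_comul_apply q a).symm]
  induction Coalgebra.comul (R := k) a using TensorProduct.induction_on with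
  | zero => simp
  | tmul x y => simp
  | add x y hx hy => simp only [map_add, hx, hy]

theorem matP_mulPt (g h : GB n k →ₐ[k] T) : matP (mulPt g h) = matP g * matP h := by
  refine Matrix.ext fun i j => ?_
  show Algebra.TensorProduct.lift g h (fun _ _ => .all _ _) (Coalgebra.comul (R := k) (CoordGrp.GLn.X i j)) = _
  rw [CoordGrp.GLn.comul_X, map_sum, Matrix.mul_apply]
  exact Finset.sum_congr rfl fun l _ => Algebra.TensorProduct.lift_tmul _ _ _ _ _

theorem matP_counit : matP ((Algebra.ofId k T).comp (Bialgebra.counitAlgHom k (GB n k))) = 1 := by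
  refine Matrix.ext fun i j => ?_
  show algebraMap k T (Coalgebra.counit (R := k) (CoordGrp.GLn.X i j : GB n k)) = _
  rw [CoordGrp.GLn.counit_X, Matrix.one_apply]
  split_ifs <;> simp

end Conv

section Torus

variable {T : Type v} [CommRing T] [Algebra k T] {Λ : Type} [AddCommGroup Λ]

/-- The diagonal matrix of monomials. -/
noncomputable def torMat (w : Fin n → Λ) : Matrix (Fin n) (Fin n) (AddMonoidAlgebra T Λ) :=
  Matrix.diagonal fun i => AddMonoidAlgebra.single (w i) 1

theorem isUnit_det_torMat (w : Fin n → Λ) : IsUnit (torMat (T := T) w).det := by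
  rw [torMat, Matrix.det_diagonal]
  refine IsUnit.prod_iff.mpr fun i _ => IsUnit.of_mul_eq_one (AddMonoidAlgebra.single (-w i) 1) ?_
  rw [AddMonoidAlgebra.single_mul_single, add_neg_cancel, _root_.mul_one]
  rfl

/-- Constants. -/
noncomputable def cst : T →ₐ[k] AddMonoidAlgebra T Λ := AddMonoidAlgebra.singleZeroAlgHom

theorem cst_apply (t : T) : cst (k := k) (Λ := Λ) t = AddMonoidAlgebra.single (0 : Λ) t := rfl

theorem map_cst_mul_torMat (H : Matrix (Fin n) (Fin n) T) (w : Fin n → Λ) (i j : Fin n) :
    (H.map (cst (k := k) (Λ := Λ)) * torMat (T := T) w : Matrix (Fin n) (Fin n) (AddMonoidAlgebra T Λ)) i j = AddMonoidAlgebra.single (w j) (H i j) := by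
  rw [torMat, Matrix.mul_diagonal, Matrix.map_apply, cst_apply, AddMonoidAlgebra.single_mul_single, zero_add,
    _root_.mul_one]

theorem torMat_mul_map_cst (H : Matrix (Fin n) (Fin n) T) (w : Fin n → Λ) (i j : Fin n) :
    (torMat (T := T) w * H.map (cst (k := k) (Λ := Λ)) : Matrix (Fin n) (Fin n) (AddMonoidAlgebra T Λ)) i j = AddMonoidAlgebra.single (w i) (H i j) := by
  rw [torMat, Matrix.diagonal_mul, Matrix.map_apply, cst_apply, AddMonoidAlgebra.single_mul_single, add_zero,
    _root_.one_mul]

/-- A point moved on the right by the torus of weights `w`. -/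
noncomputable def torR (h : GB n k →ₐ[k] T) (w : Fin n → Λ) : GB n k →ₐ[k] AddMonoidAlgebra T Λ :=
  glPt ((matP h).map (cst (k := k) (Λ := Λ)) * torMat w)
    (isUnit_det_mul (isUnit_det_map _ (isUnit_det_matP h)) (isUnit_det_torMat w))

theorem torR_X (h : GB n k →ₐ[k] T) (w : Fin n → Λ) (i j : Fin n) :
    torR h w (CoordGrp.GLn.X i j) = AddMonoidAlgebra.single (w j) (h (CoordGrp.GLn.X i j)) := by
  rw [← matP_apply, torR, matP_glPt, map_cst_mul_torMat, matP_apply]

/-- A point moved on the left by the torus of weights `w`. -/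
noncomputable def torL (h : GB n k →ₐ[k] T) (w : Fin n → Λ) : GB n k →ₐ[k] AddMonoidAlgebra T Λ :=
  glPt (torMat w * (matP h).map (cst (k := k) (Λ := Λ)))
    (isUnit_det_mul (isUnit_det_torMat w) (isUnit_det_map _ (isUnit_det_matP h)))

theorem torL_X (h : GB n k →ₐ[k] T) (w : Fin n → Λ) (i j : Fin n) :
    torL h w (CoordGrp.GLn.X i j) = AddMonoidAlgebra.single (w i) (h (CoordGrp.GLn.X i j)) := by
  rw [← matP_apply, torL, matP_glPt, torMat_mul_map_cst, matP_apply]

/-- Evaluation of monomials. -/
noncomputable def evalHom (χ : Multiplicative Λ →* T) : AddMonoidAlgebra T Λ →ₐ[k] T :=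
  AddMonoidAlgebra.liftNCAlgHom (AlgHom.id k T) χ fun _ _ => .all _ _

theorem evalHom_single (χ : Multiplicative Λ →* T) (m : Λ) (t : T) :
    evalHom (k := k) χ (AddMonoidAlgebra.single m t) = t * χ (Multiplicative.ofAdd m) :=
  AddMonoidAlgebra.liftNC_single _ _ _ _

theorem evalHom_apply (χ : Multiplicative Λ →* T) (f : AddMonoidAlgebra T Λ) :
    evalHom (k := k) χ f = f.coeff.sum fun m t => t * χ (Multiplicative.ofAdd m) := by
  conv_lhs => rw [← AddMonoidAlgebra.sum_coeff_single f, map_finsuppSum]
  exact Finsupp.sum_congr fun m _ => evalHom_single χ m _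

/-- The diagonal matrix of a character. -/
theorem evalHom_torR (χ : Multiplicative Λ →* T) (h : GB n k →ₐ[k] T) (w : Fin n → Λ) :
    matP ((evalHom χ).comp (torR h w)) = matP h * Matrix.diagonal fun i => χ (Multiplicative.ofAdd (w i)) := by
  refine Matrix.ext fun i j => ?_
  rw [matP_apply, AlgHom.comp_apply, torR_X, evalHom_single, Matrix.mul_diagonal, matP_apply]

theorem evalHom_torL (χ : Multiplicative Λ →* T) (h : GB n k →ₐ[k] T) (w : Fin n → Λ) :
    matP ((evalHom χ).comp (torL h w)) = (Matrix.diagonal fun i => χ (Multiplicative.ofAdd (w i))) * matP h := by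
  refine Matrix.ext fun i j => ?_
  rw [matP_apply, AlgHom.comp_apply, torL_X, evalHom_single, Matrix.diagonal_mul, matP_apply, _root_.mul_comm]

end Torus

section Separation

variable [IsAlgClosed k]

/-- The character `m ↦ s ^ m`. -/
noncomputable def zpowHom {F : Type v} [Field F] (s : Fˣ) : Multiplicative ℤ →* F :=
  (Units.coeHom F).comp (zpowersHom Fˣ s)

theorem zpowHom_apply {F : Type v} [Field F] (s : Fˣ) (m : ℤ) :
    zpowHom s (Multiplicative.ofAdd m) = ((s ^ m : Fˣ) : F) := rfl

/-- The characters of the multiplicative group are separated by points. -/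
theorem zpow_injective_units {i j : ℤ} (h : ∀ s : kˣ, s ^ i = s ^ j) : i = j := by
  by_contra hne
  have hd : (i - j).natAbs ≠ 0 := by simpa [sub_eq_zero] using hne
  haveI : NeZero (i - j).natAbs := ⟨hd⟩
  haveI : Infinite kˣ := by
    haveI : Infinite {a : k // a ≠ 0} := ((Set.finite_singleton (0 : k)).infinite_compl).to_subtype
    exact Infinite.of_injective unitsEquivNeZero.symm unitsEquivNeZero.symm.injective
  obtain ⟨u, hu⟩ := Set.Infinite.nonempty ((Set.infinite_univ (α := kˣ)).sdiff
    (Set.finite_coe_iff.1 (inferInstanceAs (Finite (rootsOfUnity (i - j).natAbs k))) :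
      ((rootsOfUnity (i - j).natAbs k : Set kˣ)).Finite))
  refine hu.2 ((mem_rootsOfUnity _ _).2 ?_)
  have h2 : u ^ (i - j) = 1 := by rw [zpow_sub, h, mul_inv_cancel]
  rcases Int.natAbs_eq (i - j) with h3 | h3 <;> rw [h3] at h2 <;> simpa using h2

/-- A Laurent polynomial vanishing at all points vanishes. -/
theorem eq_zero_of_forall_evalHom {f : AddMonoidAlgebra k ℤ}
    (h : ∀ s : kˣ, evalHom (k := k) (zpowHom s) f = 0) : f = 0 := by
  have hinj : Function.Injective fun m : ℤ =>
      ((Units.coeHom k).comp (zpowGroupHom m) : kˣ →* k) := fun i j hij =>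
    zpow_injective_units fun s => Units.ext (DFunLike.congr_fun hij s)
  have hli := (linearIndependent_monoidHom kˣ k).comp _ hinj
  rw [← AddMonoidAlgebra.coeff_inj]
  refine linearIndependent_iff.mp hli f.coeff ?_
  funext s
  have := h s
  rw [evalHom_apply] at this
  rw [Finsupp.linearCombination_apply, Finsupp.sum, Finset.sum_apply]
  exact this

theorem eq_of_forall_evalHom {f g : AddMonoidAlgebra k ℤ}
    (h : ∀ s : kˣ, evalHom (k := k) (zpowHom s) f = evalHom (k := k) (zpowHom s) g) : f = g :=
  sub_eq_zero.mp (eq_zero_of_forall_evalHom fun s => by rw [map_sub, h s, sub_self])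

end Separation

section Generators

/-- A property holding for the entries and the inverse determinant, stable under sums and products, holds
everywhere. -/
theorem gb_induction {p : GB n k → Prop} (f : GB n k) (hC : ∀ c : k, p (algebraMap k _ c))
    (hX : ∀ i j, p (CoordGrp.GLn.X i j)) (hD : p CoordGrp.GLn.Dinv) (hadd : ∀ a b, p a → p b → p (a + b))
    (hmul : ∀ a b, p a → p b → p (a * b)) : p f := by
  let Φ : MvPolynomial (CoordGrp.GLPoly.Idx n) k →ₐ[k] GB n k := CoordGrp.GLn.mk n k
  obtain ⟨g, rfl⟩ : ∃ g, Φ g = f := Ideal.Quotient.mk_surjective f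
  induction g using MvPolynomial.induction_on with
  | C c =>
    rw [show Φ (MvPolynomial.C c) = algebraMap k (GB n k) c from Φ.commutes c]
    exact hC c
  | add a b ha hb =>
    rw [map_add]
    exact hadd _ _ ha hb
  | mul_X a s ha =>
    rw [map_mul]
    refine hmul _ _ ha ?_
    rcases s with ⟨i, j⟩ | ⟨⟩
    · exact hX i j
    · exact hD

theorem finiteType_GB : Algebra.FiniteType k (GB n k) :=
  Algebra.FiniteType.of_surjective
    (show MvPolynomial (CoordGrp.GLPoly.Idx n) k →ₐ[k] GB n k from CoordGrp.GLn.mk n k)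
    Ideal.Quotient.mk_surjective

/-- Derivations agreeing on the entries are equal. -/
theorem derivation_ext {M : Type v} [AddCommGroup M] [Module k M] [Module (GB n k) M]
    [IsScalarTower k (GB n k) M] {D D' : Derivation k (GB n k) M}
    (h : ∀ i j, D (CoordGrp.GLn.X i j) = D' (CoordGrp.GLn.X i j)) : D = D' := by
  let S : Subalgebra k (GB n k) :=
    { carrier := {f | D f = D' f}
      mul_mem' := fun {a b} (ha : D a = D' a) (hb : D b = D' b) => by
        show D (a * b) = D' (a * b)
        rw [Derivation.leibniz, Derivation.leibniz, ha, hb]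
      add_mem' := fun {a b} (ha : D a = D' a) (hb : D b = D' b) => by
        show D (a + b) = D' (a + b)
        rw [map_add, map_add, ha, hb]
      algebraMap_mem' := fun c => by
        show D (algebraMap k _ c) = D' (algebraMap k _ c)
        rw [Derivation.map_algebraMap, Derivation.map_algebraMap] }
  have hdet : (CoordGrp.GLn.det : GB n k) ∈ S := by
    rw [CoordGrp.GLn.det_eq, Matrix.det_apply]
    exact Subalgebra.sum_mem _ fun σ _ => by
      rcases Int.units_eq_one_or (Equiv.Perm.sign σ) with hs | hs <;> rw [hs]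
      · rw [one_smul]; exact Subalgebra.prod_mem _ fun i _ => h _ _
      · rw [Units.neg_smul, one_smul]; exact Subalgebra.neg_mem _ (Subalgebra.prod_mem _ fun i _ => h _ _)
  have hD : (CoordGrp.GLn.Dinv : GB n k) ∈ S := by
    have e : ∀ E : Derivation k (GB n k) M, E (CoordGrp.GLn.Dinv) =
        - ((CoordGrp.GLn.Dinv : GB n k) * CoordGrp.GLn.Dinv) • E CoordGrp.GLn.det := fun E => by
      have h1 := congrArg E (CoordGrp.GLn.Dinv_mul_det (n := n) (k := k))
      rw [Derivation.leibniz, Derivation.map_one_eq_zero] at h1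
      have h2 := congrArg (fun m => (CoordGrp.GLn.Dinv : GB n k) • m) h1
      simp only [smul_add, smul_smul, smul_zero, CoordGrp.GLn.Dinv_mul_det, one_smul] at h2
      rw [neg_smul]
      exact eq_neg_of_add_eq_zero_right h2
    show D _ = D' _
    rw [e D, e D', show D CoordGrp.GLn.det = D' CoordGrp.GLn.det from hdet]
  exact Derivation.ext fun f => gb_induction (p := fun x => x ∈ S) f (fun c => S.algebraMap_mem c) h hD
    (fun a b => S.add_mem) (fun a b => S.mul_mem)

end Generators

end Groth.Agent.HMCrit
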