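import Groth.Agent.HMCrit.GL
import Groth.Agent.GLinEt.Slice
import Groth.Agent.ComodLib.Invariants
import Mathlib.LinearAlgebra.Basis.VectorSpace

/-!
# The mixed product of an action with the general linear group
-/

set_option autoImplicit false
set_option linter.unusedSectionVars false
set_option linter.unusedSimpArgs false
set_option linter.deprecated false

universe u v

open TensorProduct WithConv

namespace Groth.Agent.HMCrit

open ComodLib

variable {k : Type u} [Field k] {n : ℕ} {A : Type u} [CommRing A] [HopfAlgebra k A] (q : GB n k →ₐc[k] A)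

/-- The map on functions of the inclusion of the subgroup. -/
noncomputable abbrev qH : GB n k →ₐ[k] A := (q : GB n k →ₐ[k] A)

/-- The general linear group with the action of the subgroup by `h ↦ g⁻¹ h`. -/
def LB (_q : GB n k →ₐc[k] A) : Type u := GB n k

noncomputable instance : CommRing (LB q) := inferInstanceAs (CommRing (GB n k))
noncomputable instance : Algebra k (LB q) := inferInstanceAs (Algebra k (GB n k))
instance : Algebra.FiniteType k (LB q) := finiteType_GB (k := k) (n := n)

/-- The identification of `LB` with the group. -/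
noncomputable def toLB : GB n k ≃ₐ[k] LB q := AlgEquiv.refl

/-- A point of `LB`. -/
noncomputable def lbPt {T : Type v} [CommRing T] [Algebra k T] (h : GB n k →ₐ[k] T) : LB q →ₐ[k] T :=
  h.comp (toLB q).symm.toAlgHom

/-- The coaction `b ↦ b₂ ⊗ S (q b₁)`. -/
noncomputable def beta : GB n k →ₐ[k] GB n k ⊗[k] A :=
  (Algebra.TensorProduct.map (AlgHom.id k _) ((HopfAlgebra.antipodeAlgHom k A).comp (qH q))).comp
    ((Algebra.TensorProduct.comm k (GB n k) (GB n k)).toAlgHom.comp (Bialgebra.comulAlgHom k (GB n k)))

theorem beta_X (i j : Fin n) : beta q (CoordGrp.GLn.X i j) =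
    ∑ l, CoordGrp.GLn.X l j ⊗ₜ[k] HopfAlgebra.antipode k (qH q (CoordGrp.GLn.X i l)) := by
  show Algebra.TensorProduct.map (AlgHom.id k _) _ (Algebra.TensorProduct.comm k _ _
    (Coalgebra.comul (R := k) (CoordGrp.GLn.X i j))) = _
  rw [CoordGrp.GLn.comul_X, map_sum, map_sum]
  exact Finset.sum_congr rfl fun l _ => by
    rw [Algebra.TensorProduct.comm_tmul, Algebra.TensorProduct.map_tmul]
    rfl

theorem comul_antipode_q (i j : Fin n) :
    Coalgebra.comul (R := k) (HopfAlgebra.antipode k (qH q (CoordGrp.GLn.X i j))) =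
      ∑ l, HopfAlgebra.antipode k (qH q (CoordGrp.GLn.X l j)) ⊗ₜ[k]
        HopfAlgebra.antipode k (qH q (CoordGrp.GLn.X i l)) := by
  rw [ComodLib.comul_antipode]
  rw [show Coalgebra.comul (R := k) (qH q (CoordGrp.GLn.X i j)) = TensorProduct.map (qH q).toLinearMap
    (qH q).toLinearMap (Coalgebra.comul (R := k) (CoordGrp.GLn.X i j)) from
      (CoalgHomClass.map_comp_comul_apply q _).symm, CoordGrp.GLn.comul_X]
  simp [map_sum]

/-- The coaction as a comodule structure. -/
noncomputable instance lbComod : HopfRep.Comod k A (LB q) where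
  coact := (show LB q →ₗ[k] LB q ⊗[k] A from (beta q).toLinearMap)
  coassoc := by
    have h : (Algebra.TensorProduct.assoc k k k (GB n k) A A).toAlgHom.comp
        ((Algebra.TensorProduct.map (beta q) (AlgHom.id k A)).comp (beta q)) =
        (Algebra.TensorProduct.map (AlgHom.id k (GB n k)) (Bialgebra.comulAlgHom k A)).comp (beta q) := by
      refine algHom_ext' (Matrix.ext fun i j => ?_)
      simp only [matP_apply, AlgHom.comp_apply, beta_X, map_sum, Algebra.TensorProduct.map_tmul, AlgHom.id_apply,
        TensorProduct.sum_tmul, AlgEquiv.toAlgHom_eq_coe, AlgHom.coe_coe, Algebra.TensorProduct.assoc_tmul,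
        Bialgebra.comulAlgHom_apply, comul_antipode_q, TensorProduct.tmul_sum]
      exact Finset.sum_comm
    exact LinearMap.ext fun b => AlgHom.congr_fun h b
  counit_comp := by
    have h : (Algebra.TensorProduct.map (AlgHom.id k (GB n k)) (Bialgebra.counitAlgHom k A)).comp (beta q) =
        (Algebra.TensorProduct.rid k k (GB n k)).symm.toAlgHom := by
      refine algHom_ext' (Matrix.ext fun i j => ?_)
      simp only [matP_apply, AlgHom.comp_apply, beta_X, map_sum, Algebra.TensorProduct.map_tmul, AlgHom.id_apply,
        Bialgebra.counitAlgHom_apply, HopfAlgebra.counit_antipode]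
      rw [Finset.sum_eq_single i]
      · rw [show Coalgebra.counit (R := k) (qH q (CoordGrp.GLn.X i i)) =
          Coalgebra.counit (R := k) (CoordGrp.GLn.X i i : GB n k) from CoalgHomClass.counit_comp_apply q _,
          CoordGrp.GLn.counit_X, if_pos rfl]
        rfl
      · intro l _ hl
        rw [show Coalgebra.counit (R := k) (qH q (CoordGrp.GLn.X i l)) =
          Coalgebra.counit (R := k) (CoordGrp.GLn.X i l : GB n k) from CoalgHomClass.counit_comp_apply q _,
          CoordGrp.GLn.counit_X, if_neg (Ne.symm hl), TensorProduct.tmul_zero]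
      · exact fun h => absurd (Finset.mem_univ _) h
    exact LinearMap.ext fun b => AlgHom.congr_fun h b

instance lbCoactAlg : GLin.IsCoactAlg k A (LB q) :=
  ⟨map_one (beta q), fun f g => map_mul (beta q) (show GB n k from f) (show GB n k from g)⟩

theorem coact_lb (b : GB n k) :
    HopfRep.Comod.coact (k := k) (A := A) (toLB q b) =
      Algebra.TensorProduct.map (toLB q).toAlgHom (AlgHom.id k A) (beta q b) := by
  show beta q b = _
  have h : Algebra.TensorProduct.map (toLB q).toAlgHom (AlgHom.id k A) =
      (AlgHom.id k (GB n k ⊗[k] A) : GB n k ⊗[k] A →ₐ[k] GB n k ⊗[k] A) :=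
    Algebra.TensorProduct.ext' fun x a => rfl
  exact (AlgHom.congr_fun h _).symm

variable (R : Type u) [CommRing R] [Algebra k R] [HopfRep.Comod k A R] [GLin.IsCoactAlg k A R]

noncomputable instance mixComod : HopfRep.Comod k A (R ⊗[k] LB q) := GLinEt.prodComod A R (LB q)

instance mixCoactAlg : GLin.IsCoactAlg k A (R ⊗[k] LB q) := GLinEt.isCoactAlg_prod A R (LB q)

theorem coact_mix (F : R ⊗[k] LB q) :
    HopfRep.Comod.coact (k := k) (A := A) F = GLinEt.coactP A R (LB q) F := GLinEt.coact_prodComod A R (LB q) F

variable {R} {T : Type v} [CommRing T] [Algebra k T]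

/-- A point of `R` moved by a point of the group. -/
noncomputable def mv (ξ : R →ₐ[k] T) (g : A →ₐ[k] T) : R →ₐ[k] T :=
  (Algebra.TensorProduct.lift ξ g fun _ _ => .all _ _).comp (GLin.coactAlgHom k A R)

theorem mv_orbit (x : R →ₐ[k] k) (g : A →ₐ[k] T) :
    mv ((Algebra.ofId k T).comp x) g = g.comp (GLin.orbitHom k A x) := by
  refine AlgHom.ext fun f => ?_
  show Algebra.TensorProduct.lift ((Algebra.ofId k T).comp x) g (fun _ _ => .all _ _) (HopfRep.Comod.coact (k := k) (A := A) f) =
    g (Algebra.TensorProduct.lid k A (Algebra.TensorProduct.map x (AlgHom.id k A)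
      (HopfRep.Comod.coact (k := k) (A := A) f)))
  induction HopfRep.Comod.coact (k := k) (A := A) f using TensorProduct.induction_on with
  | zero => simp
  | add a b ha hb => simp only [map_add, ha, hb]
  | tmul a b => simp [Algebra.smul_def]

/-- Evaluation of functions on the product at a pair of points. -/
noncomputable def pev (ξ : R →ₐ[k] T) (h : GB n k →ₐ[k] T) : R ⊗[k] LB q →ₐ[k] T :=
  Algebra.TensorProduct.lift ξ (lbPt q h) fun _ _ => .all _ _

theorem pev_tmul (ξ : R →ₐ[k] T) (h : GB n k →ₐ[k] T) (r : R) (b : GB n k) :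
    pev q ξ h (r ⊗ₜ[k] toLB q b) = ξ r * h b :=
  Algebra.TensorProduct.lift_tmul _ _ _ _ _

theorem pev_toAlgHom (ξ : R →ₐ[k] T) (h : GB n k →ₐ[k] T) (r : R) (b : GB n k) :
    pev q ξ h (r ⊗ₜ[k] (toLB q).toAlgHom b) = ξ r * h b :=
  pev_tmul q ξ h r b

theorem comp_pev {T' : Type*} [CommRing T'] [Algebra k T'] (φ : T →ₐ[k] T') (ξ : R →ₐ[k] T)
    (h : GB n k →ₐ[k] T) : φ.comp (pev q ξ h) = pev q (φ.comp ξ) (φ.comp h) := by
  refine Algebra.TensorProduct.ext' fun r b => ?_
  obtain ⟨b, rfl⟩ := (toLB q).surjective b
  rw [AlgHom.comp_apply, pev_tmul, pev_tmul, map_mul]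
  rfl

theorem matP_mvB (h : GB n k →ₐ[k] T) (g : A →ₐ[k] T) :
    matP ((Algebra.TensorProduct.lift h g fun _ _ => .all _ _).comp (beta q)) =
      matP (g.comp ((HopfAlgebra.antipodeAlgHom k A).comp (qH q))) * matP h := by
  refine Matrix.ext fun i j => ?_
  rw [matP_apply, AlgHom.comp_apply, beta_X, map_sum, Matrix.mul_apply]
  refine Finset.sum_congr rfl fun l _ => ?_
  rw [Algebra.TensorProduct.lift_tmul, _root_.mul_comm]
  rfl

theorem matP_antipode_mul (g : A →ₐ[k] T) :
    matP (g.comp ((HopfAlgebra.antipodeAlgHom k A).comp (qH q))) * matP (g.comp (qH q)) = 1 := by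
  refine Matrix.ext fun i j => ?_
  have h := congrArg g (HopfAlgebra.mul_antipode_rTensor_comul_apply (R := k) (A := A)
    (qH q (CoordGrp.GLn.X i j)))
  rw [show Coalgebra.comul (R := k) (qH q (CoordGrp.GLn.X i j)) = TensorProduct.map (qH q).toLinearMap
    (qH q).toLinearMap (Coalgebra.comul (R := k) (CoordGrp.GLn.X i j)) from
      (CoalgHomClass.map_comp_comul_apply q _).symm, CoordGrp.GLn.comul_X,
    show Coalgebra.counit (R := k) (qH q (CoordGrp.GLn.X i j)) =
      Coalgebra.counit (R := k) (CoordGrp.GLn.X i j : GB n k) from CoalgHomClass.counit_comp_apply q _,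
    CoordGrp.GLn.counit_X, AlgHom.commutes] at h
  simp only [map_sum, TensorProduct.map_tmul, LinearMap.rTensor_tmul, LinearMap.mul'_apply, map_mul,
    AlgHom.toLinearMap_apply] at h
  rw [Matrix.mul_apply, Matrix.one_apply]
  refine Eq.trans ?_ (h.trans ?_)
  · exact Finset.sum_congr rfl fun l _ => rfl
  · split_ifs <;> simp

/-- The defining property of invariant functions, on points. -/
theorem pev_inv {F : R ⊗[k] LB q} (hF : F ∈ GLin.invariants k A (R ⊗[k] LB q)) (ξ : R →ₐ[k] T)
    (g : A →ₐ[k] T) {h h' : GB n k →ₐ[k] T} (e : matP h' = matP (g.comp (qH q)) * matP h) :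
    pev q (mv ξ g) h F = pev q ξ h' F := by
  have key : (Algebra.TensorProduct.lift (pev q ξ h') g fun _ _ => .all _ _).comp (GLinEt.coactP A R (LB q)) =
      pev q (mv ξ g) h := by
    refine Algebra.TensorProduct.ext' fun r b => ?_
    obtain ⟨b, rfl⟩ := (toLB q).surjective b
    have hb : (Algebra.TensorProduct.lift h' g fun _ _ => .all _ _).comp (beta q) = h :=
      algHom_ext' (by rw [matP_mvB, e, ← Matrix.mul_assoc, matP_antipode_mul, Matrix.one_mul])
    rw [AlgHom.comp_apply, GLinEt.coactP, Algebra.TensorProduct.productMap_apply_tmul, map_mul, pev_tmul]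
    congr 1
    · show _ = Algebra.TensorProduct.lift ξ g (fun _ _ => .all _ _) (HopfRep.Comod.coact (k := k) (A := A) r)
      rw [AlgHom.comp_apply, GLin.coactAlgHom_apply]
      induction HopfRep.Comod.coact (k := k) (A := A) r using TensorProduct.induction_on with
      | zero => simp
      | add a b ha hb => simp only [map_add, ha, hb]
      | tmul a c =>
        rw [Algebra.TensorProduct.map_tmul, Algebra.TensorProduct.lift_tmul, Algebra.TensorProduct.lift_tmul,
          Algebra.TensorProduct.includeLeft_apply, show (1 : LB q) = toLB q 1 from rfl, pev_tmul, map_one,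
          _root_.mul_one]
        rfl
    · rw [AlgHom.comp_apply, GLin.coactAlgHom_apply, coact_lb, ← AlgHom.congr_fun hb b, AlgHom.comp_apply]
      induction beta q b using TensorProduct.induction_on with
      | zero => simp
      | add a c ha hc => simp only [map_add, ha, hc]
      | tmul a c =>
        rw [Algebra.TensorProduct.map_tmul, Algebra.TensorProduct.map_tmul, Algebra.TensorProduct.lift_tmul,
          Algebra.TensorProduct.lift_tmul, Algebra.TensorProduct.includeRight_apply]
        show pev q ξ h' ((1 : R) ⊗ₜ[k] toLB q a) * g c = _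
        rw [pev_tmul, map_one, _root_.one_mul]
  rw [← key, AlgHom.comp_apply, ← coact_mix,
    show HopfRep.Comod.coact (k := k) (A := A) F = F ⊗ₜ[k] (1 : A) from hF, Algebra.TensorProduct.lift_tmul,
    map_one, _root_.mul_one]

variable (R) in
/-- A linear section of the restriction of functions, tensored with `R`. -/
noncomputable def spread (σ : A →ₗ[k] GB n k) : R →ₗ[k] R ⊗[k] LB q :=
  ((toLB q).toLinearMap ∘ₗ σ).lTensor R ∘ₗ HopfRep.Comod.coact (k := k) (A := A)

variable (R) in
/-- The averaged invariant extension of a function. -/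
noncomputable def theta (α : A →ₗ[k] k) (σ : A →ₗ[k] GB n k) : R →ₗ[k] R ⊗[k] LB q :=
  rey α ∘ₗ spread q R σ

theorem theta_mem {α : A →ₗ[k] k} (hα : IsIntegral k α) (σ : A →ₗ[k] GB n k) (r : R) :
    theta q R α σ r ∈ GLin.invariants k A (R ⊗[k] LB q) :=
  rey_mem_fixedPts hα _

/-- Evaluation at the identity of the group. -/
noncomputable def e1 : R ⊗[k] LB q →ₐ[k] R :=
  pev q (AlgHom.id k R) ((Algebra.ofId k R).comp (Bialgebra.counitAlgHom k (GB n k)))

theorem e1_theta {α : A →ₗ[k] k} (h1 : α 1 = 1) {σ : A →ₗ[k] GB n k} (hσ : ∀ a, qH q (σ a) = a) (r : R) :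
    e1 q (theta q R α σ r) = r := by
  classical
  let Ψ : R ⊗[k] LB q →ₐ[k] R ⊗[k] A :=
    Algebra.TensorProduct.productMap (GLin.coactAlgHom k A R)
      ((Algebra.TensorProduct.includeRight (A := R)).comp
        (((HopfAlgebra.antipodeAlgHom k A).comp (qH q)).comp (toLB q).symm.toAlgHom))
  have hkey : (Algebra.TensorProduct.map (e1 q) (AlgHom.id k A)).comp (GLinEt.coactP A R (LB q)) = Ψ := by
    refine Algebra.TensorProduct.ext' fun r b => ?_
    obtain ⟨b, rfl⟩ := (toLB q).surjective b
    rw [AlgHom.comp_apply, GLinEt.coactP, Algebra.TensorProduct.productMap_apply_tmul, map_mul]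
    simp only [Ψ, Algebra.TensorProduct.productMap_apply_tmul]
    congr 1
    · rw [AlgHom.comp_apply, GLin.coactAlgHom_apply]
      induction HopfRep.Comod.coact (k := k) (A := A) r using TensorProduct.induction_on with
      | zero => simp
      | add a b ha hb => simp only [map_add, ha, hb]
      | tmul a c =>
        rw [Algebra.TensorProduct.map_tmul, Algebra.TensorProduct.map_tmul, Algebra.TensorProduct.includeLeft_apply,
          show (1 : LB q) = toLB q 1 from rfl, e1, pev_tmul, map_one, _root_.mul_one]
        rfl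
    · rw [AlgHom.comp_apply, GLin.coactAlgHom_apply, coact_lb]
      have h2 : ((Algebra.TensorProduct.map (e1 q (R := R)) (AlgHom.id k A)).comp
          ((Algebra.TensorProduct.map (Algebra.TensorProduct.includeRight) (AlgHom.id k A)).comp
            ((Algebra.TensorProduct.map (toLB q).toAlgHom (AlgHom.id k A)).comp (beta q)))) =
          (Algebra.TensorProduct.includeRight (A := R)).comp ((HopfAlgebra.antipodeAlgHom k A).comp (qH q)) := by
        refine algHom_ext' (Matrix.ext fun i j => ?_)
        simp only [matP_apply, AlgHom.comp_apply, beta_X, map_sum, Algebra.TensorProduct.map_tmul, AlgHom.id_apply,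
          Algebra.TensorProduct.includeRight_apply, pev_toAlgHom, e1, map_one,
          _root_.one_mul, Bialgebra.counitAlgHom_apply, Algebra.ofId_apply, CoordGrp.GLn.counit_X]
        rw [Finset.sum_eq_single j (fun l _ hl => by rw [if_neg hl, map_zero, TensorProduct.zero_tmul])
          (fun h => absurd (Finset.mem_univ _) h), if_pos rfl, map_one]
        rfl
      exact AlgHom.congr_fun h2 b
  have hu : Ψ (spread q R σ r) = r ⊗ₜ[k] (1 : A) := by
    let M : R ⊗[k] (A ⊗[k] A) →ₗ[k] R ⊗[k] A :=
      (LinearMap.mul' k A ∘ₗ (HopfAlgebra.antipode k).lTensor A).lTensor R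
    have e : ∀ z : R ⊗[k] A, Ψ (((toLB q).toLinearMap ∘ₗ σ).lTensor R z) =
        M (TensorProduct.assoc k R A A ((HopfRep.Comod.coact (k := k) (A := A)).rTensor A z)) := fun z => by
      induction z using TensorProduct.induction_on with
      | zero => simp
      | add a b ha hb => simp only [map_add, ha, hb]
      | tmul a c =>
        rw [LinearMap.lTensor_tmul, LinearMap.rTensor_tmul]
        simp only [Ψ, LinearMap.comp_apply, AlgEquiv.toLinearMap_apply, Algebra.TensorProduct.productMap_apply_tmul,
          AlgHom.comp_apply, GLin.coactAlgHom_apply]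
        rw [show (toLB q).symm.toAlgHom (toLB q (σ c)) = σ c from rfl, hσ]
        induction HopfRep.Comod.coact (k := k) (A := A) a using TensorProduct.induction_on with
        | zero => simp
        | add x y hx hy => simp only [map_add, add_mul, TensorProduct.add_tmul, hx, hy]
        | tmul x y =>
          simp [M, Algebra.TensorProduct.tmul_mul_tmul]
    rw [spread, LinearMap.comp_apply, e]
    have hc := LinearMap.congr_fun (HopfRep.Comod.coassoc (k := k) (A := A) (V := R)) r
    simp only [LinearMap.comp_apply, LinearEquiv.coe_coe] at hc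
    rw [hc]
    have hM : ∀ z : R ⊗[k] A, M ((CoalgebraStruct.comul (R := k) (A := A)).lTensor R z) =
        ((Algebra.linearMap k A) ∘ₗ CoalgebraStruct.counit (R := k) (A := A)).lTensor R z := fun z => by
      induction z using TensorProduct.induction_on with
      | zero => simp
      | add a b ha hb => simp only [map_add, ha, hb]
      | tmul a c =>
        simp only [M, LinearMap.lTensor_tmul, LinearMap.comp_apply]
        rw [HopfAlgebra.mul_antipode_lTensor_comul_apply]
        rfl
    rw [hM, LinearMap.lTensor_comp, LinearMap.comp_apply]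
    have h2 := LinearMap.congr_fun (HopfRep.Comod.counit_comp (k := k) (A := A) (V := R)) r
    simp only [LinearMap.comp_apply, LinearMap.flip_apply, TensorProduct.mk_apply] at h2
    rw [h2, LinearMap.lTensor_tmul, Algebra.linearMap_apply, map_one]
  have hs : ∀ (φ : A →ₗ[k] k) (z : (R ⊗[k] LB q) ⊗[k] A),
      e1 q (slice φ z) = slice φ (Algebra.TensorProduct.map (e1 q) (AlgHom.id k A) z) := fun φ z => by
    induction z using TensorProduct.induction_on with
    | zero => simp
    | add a b ha hb => simp only [map_add, ha, hb]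
    | tmul a c => simp
  show e1 q (actF (α ∘ₗ HopfAlgebra.antipode k) (spread q R σ r)) = r
  rw [actF_apply, hs, coact_mix, ← AlgHom.comp_apply, hkey, hu, slice_tmul]
  simp [h1]

/-- The averaged extension respects equivariant kernels. -/
theorem map_theta_eq_zero {R' : Type u} [CommRing R'] [Algebra k R'] (f : R →ₐ[k] R')
    (γ : R' →ₐ[k] R' ⊗[k] A)
    (hf : (Algebra.TensorProduct.map f (AlgHom.id k A)).comp (GLin.coactAlgHom k A R) = γ.comp f)
    (α : A →ₗ[k] k) (σ : A →ₗ[k] GB n k) {r : R} (hr : f r = 0) :
    Algebra.TensorProduct.map f (AlgHom.id k (LB q)) (theta q R α σ r) = 0 := by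
  let fm := Algebra.TensorProduct.map f (AlgHom.id k (LB q))
  let Ξ : R' ⊗[k] LB q →ₐ[k] (R' ⊗[k] LB q) ⊗[k] A :=
    Algebra.TensorProduct.productMap
      ((Algebra.TensorProduct.map Algebra.TensorProduct.includeLeft (AlgHom.id k A)).comp γ)
      ((Algebra.TensorProduct.map Algebra.TensorProduct.includeRight (AlgHom.id k A)).comp
        (GLin.coactAlgHom k A (LB q)))
  have hkey : (Algebra.TensorProduct.map fm (AlgHom.id k A)).comp (GLinEt.coactP A R (LB q)) = Ξ.comp fm := by
    refine Algebra.TensorProduct.ext' fun r b => ?_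
    simp only [AlgHom.comp_apply, GLinEt.coactP, Ξ, fm, Algebra.TensorProduct.map_tmul, AlgHom.id_apply,
      Algebra.TensorProduct.productMap_apply_tmul, map_mul]
    congr 1
    · rw [← AlgHom.comp_apply γ f, ← hf, AlgHom.comp_apply]
      induction GLin.coactAlgHom k A R r using TensorProduct.induction_on with
      | zero => simp
      | add a b ha hb => simp only [map_add, ha, hb]
      | tmul a c => simp
    · induction GLin.coactAlgHom k A (LB q) b using TensorProduct.induction_on with
      | zero => simp
      | add a b ha hb => simp only [map_add, ha, hb]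
      | tmul a c => simp
  have hs : ∀ (φ : A →ₗ[k] k) (z : (R ⊗[k] LB q) ⊗[k] A),
      fm (slice φ z) = slice φ (Algebra.TensorProduct.map fm (AlgHom.id k A) z) := fun φ z => by
    induction z using TensorProduct.induction_on with
    | zero => simp
    | add a b ha hb => simp only [map_add, ha, hb]
    | tmul a c => simp
  have hl : ∀ z : R ⊗[k] A, fm (((toLB q).toLinearMap ∘ₗ σ).lTensor R z) =
      ((toLB q).toLinearMap ∘ₗ σ).lTensor R' (Algebra.TensorProduct.map f (AlgHom.id k A) z) := fun z => by
    induction z using TensorProduct.induction_on with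
    | zero => simp
    | add a b ha hb => simp only [map_add, ha, hb]
    | tmul a c => simp [fm]
  show fm (actF (α ∘ₗ HopfAlgebra.antipode k) (spread q R σ r)) = 0
  rw [actF_apply, hs, coact_mix, ← AlgHom.comp_apply, hkey, AlgHom.comp_apply, spread, LinearMap.comp_apply, hl,
    ← GLin.coactAlgHom_apply, ← AlgHom.comp_apply, hf, AlgHom.comp_apply, hr]
  simp

end Groth.Agent.HMCrit
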