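import Groth.Agent.HMCrit.Orbit
import Groth.Agent.HMCrit.Attract
import Groth.Prelude.Def_SGA3t2b
import Mathlib.RingTheory.Bialgebra.MonoidAlgebra
import Mathlib.LinearAlgebra.Matrix.Adjugate

/-!
# One parameter subgroups of the subgroup from curves in the general linear group
-/

set_option autoImplicit false
set_option linter.unusedSectionVars false
set_option linter.unusedVariables false
set_option linter.style.haveILetI false

universe u v

open TensorProduct WithConv
open scoped Polynomial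

namespace Groth.Agent.HMCrit

open ComodLib

variable {k : Type u} [Field k] {n : ℕ}

section Translate

theorem isUnit_det_genMat : IsUnit (CoordGrp.GLn.genMat n k).det := by
  rw [← CoordGrp.GLn.det_eq]
  exact IsUnit.of_mul_eq_one _ CoordGrp.GLn.det_mul_Dinv

/-- Right translation of functions on the group. -/
noncomputable def rtB (M : Matrix (Fin n) (Fin n) k) (hM : IsUnit M.det) : GB n k →ₐ[k] GB n k :=
  glPt (CoordGrp.GLn.genMat n k * M.map (algebraMap k (GB n k)))
    (isUnit_det_mul isUnit_det_genMat (isUnit_det_map (Algebra.ofId k _) hM))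

/-- Left translation of functions on the group. -/
noncomputable def ltB (M : Matrix (Fin n) (Fin n) k) (hM : IsUnit M.det) : GB n k →ₐ[k] GB n k :=
  glPt (M.map (algebraMap k (GB n k)) * CoordGrp.GLn.genMat n k)
    (isUnit_det_mul (isUnit_det_map (Algebra.ofId k _) hM) isUnit_det_genMat)

variable {T : Type v} [CommRing T] [Algebra k T]

theorem matP_comp_rtB (M : Matrix (Fin n) (Fin n) k) (hM : IsUnit M.det) (ψ : GB n k →ₐ[k] T) :
    matP (ψ.comp (rtB M hM)) = matP ψ * M.map (algebraMap k T) := by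
  rw [matP_comp, rtB, matP_glPt, Matrix.map_mul]
  congr 1
  exact Matrix.ext fun i j => ψ.commutes _

theorem matP_comp_ltB (M : Matrix (Fin n) (Fin n) k) (hM : IsUnit M.det) (ψ : GB n k →ₐ[k] T) :
    matP (ψ.comp (ltB M hM)) = M.map (algebraMap k T) * matP ψ := by
  rw [matP_comp, ltB, matP_glPt, Matrix.map_mul]
  congr 1
  exact Matrix.ext fun i j => ψ.commutes _

theorem map_algebraMap_self (M : Matrix (Fin n) (Fin n) k) : M.map (algebraMap k k) = M :=
  Matrix.ext fun i j => rfl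

end Translate

section InvTranslate

variable [IsAlgClosed k] [CharZero k] {A : Type u} [CommRing A] [HopfAlgebra k A] [Algebra.FiniteType k A]
  (q : GB n k →ₐc[k] A)

theorem invC_rtB {f : GB n k} (hf : InvC q f) (M : Matrix (Fin n) (Fin n) k) (hM : IsUnit M.det) :
    InvC q (rtB M hM f) := (invC_iff q).mpr fun g φ φ' e => by
  rw [← AlgHom.comp_apply, ← AlgHom.comp_apply]
  exact (invC_iff q).mp hf g (φ.comp (rtB M hM)) (φ'.comp (rtB M hM))
    (by rw [matP_comp_rtB, matP_comp_rtB, e, Matrix.mul_assoc])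

theorem invC_comp {f : GB n k} (hf : InvC q f) (a : Fin n → ℤ) (w : ℤ) : InvC q (comp a w f) :=
  (invC_iff q).mpr fun g φ φ' e => by
    rw [torR_comp, torR_comp]
    refine congrArg (fun z : AddMonoidAlgebra k ℤ => z.coeff w) (eq_of_forall_evalHom fun s => ?_)
    rw [← AlgHom.comp_apply, ← AlgHom.comp_apply]
    exact (invC_iff q).mp hf g _ _ (by rw [eval_torR, eval_torR, e, Matrix.mul_assoc])

end InvTranslate

section Laurent

/-- Reading `t ^ m` for monomials, for polynomial coefficients. -/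
noncomputable def diagHom : AddMonoidAlgebra k[X] ℤ →ₐ[k] AddMonoidAlgebra k ℤ :=
  AddMonoidAlgebra.liftNCAlgHom (Polynomial.toLaurentAlg (R := k))
    (AddMonoidAlgebra.of k ℤ) fun _ _ => .all _ _

theorem diagHom_single (m : ℤ) (p : k[X]) :
    diagHom (AddMonoidAlgebra.single m p) =
      Polynomial.toLaurentAlg (R := k) p * AddMonoidAlgebra.single m 1 :=
  AddMonoidAlgebra.liftNC_single _ _ _ _

theorem single_natCast_eq (m : ℕ) :
    (AddMonoidAlgebra.single (m : ℤ) (1 : k)) = Polynomial.toLaurentAlg (R := k) (Polynomial.X ^ m) := by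
  rw [Polynomial.toLaurentAlg_apply, Polynomial.toLaurent_X_pow]
  rfl

theorem exists_poly_of_coeff (G : AddMonoidAlgebra k[X] ℤ) (h : ∀ i, i < 0 → G.coeff i = 0) :
    ∃ p : k[X], Polynomial.toLaurentAlg (R := k) p = diagHom G ∧ p.eval 0 = (G.coeff 0).eval 0 := by
  classical
  refine ⟨∑ m ∈ G.coeff.support, G.coeff m * Polynomial.X ^ m.toNat, ?_, ?_⟩
  · conv_rhs => rw [← AddMonoidAlgebra.sum_coeff_single G, Finsupp.sum, map_sum]
    rw [map_sum]
    refine Finset.sum_congr rfl fun m hm => ?_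
    obtain ⟨m', rfl⟩ := Int.eq_ofNat_of_zero_le (not_lt.mp fun hlt => Finsupp.mem_support_iff.mp hm (h m hlt))
    rw [diagHom_single, map_mul, Int.toNat_natCast, single_natCast_eq]
  · rw [Polynomial.eval_finsetSum, Finset.sum_eq_single (0 : ℤ)]
    · simp
    · intro m hm hm0
      obtain ⟨m', rfl⟩ := Int.eq_ofNat_of_zero_le (not_lt.mp fun hlt => Finsupp.mem_support_iff.mp hm (h m hlt))
      rw [Polynomial.eval_mul, Int.toNat_natCast, Polynomial.eval_pow, Polynomial.eval_X,
        zero_pow (by simpa using hm0), mul_zero]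
    · intro hn
      rw [Finsupp.notMem_support_iff.mp hn]
      simp

end Laurent

variable [IsAlgClosed k] [CharZero k] {A : Type u} [CommRing A] [HopfAlgebra k A] [Algebra.FiniteType k A]
  (q : GB n k →ₐc[k] A)
variable {α : A →ₗ[k] k} (hα : IsIntegral k α) (h1 : α 1 = 1) (hq : Function.Surjective (qH q))
variable {R : Type u} [CommRing R] [Algebra k R] [Algebra.FiniteType k R] [HopfRep.Comod k A R]
  [GLin.IsCoactAlg k A R]

/-- A constant point. -/
noncomputable abbrev constPt {S : Type*} [CommRing S] [Algebra k S] (T : Type*) [CommRing T] [Algebra k T]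
    (x : S →ₐ[k] k) : S →ₐ[k] T :=
  (Algebra.ofId k T).comp x

/-- The values of a function on the product along the line `t ↦ (x, φ λ(t))`. -/
noncomputable def lineHom (x : R →ₐ[k] k) (φ : GB n k →ₐ[k] k) (a : Fin n → ℤ) :
    R ⊗[k] LB q →ₐ[k] AddMonoidAlgebra k ℤ :=
  pev q (constPt _ x) (torR φ a)

theorem matP_torR (φ : GB n k →ₐ[k] k) (a : Fin n → ℤ) :
    matP (torR φ a) = (matP φ).map (algebraMap k (AddMonoidAlgebra k ℤ)) * torMat a := by
  refine (matP_glPt _ _).trans ?_
  congr 1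

theorem lineHom_rtP_dMat (x : R →ₐ[k] k) (φ : GB n k →ₐ[k] k) (a : Fin n → ℤ) (s : kˣ) :
    (lineHom q x φ a).comp (rtP q (dMat a s) (isUnit_det_dMat a s)) =
      (scaleHom (zpowHom s)).comp (lineHom q x φ a) := by
  rw [lineHom, pev_rtP, comp_pev]
  refine congrArg₂ (pev q) (AlgHom.ext fun r => ((scaleHom (k := k) (zpowHom s)).commutes _).symm)
    (algHom_ext' (Matrix.ext fun i j => ?_))
  rw [matP_glPt, matP_comp, dMat, Matrix.diagonal_map (map_zero _), Matrix.mul_diagonal, Matrix.map_apply,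
    matP_apply, torR_X, scaleHom_single]
  show AddMonoidAlgebra.single (a j) _ * AddMonoidAlgebra.single (0 : ℤ) ((s ^ a j : kˣ) : k) = _
  rw [AddMonoidAlgebra.single_mul_single, add_zero]
  rfl

include hα h1 hq

/-- The square of the augmentation ideal of translated invariant functions. -/
theorem sq_twist (H1 : Matrix (Fin n) (Fin n) k) (hH1 : IsUnit H1.det) (hH1i : IsUnit (H1⁻¹).det) {f : GB n k}
    (hf : InvC q (ltB H1⁻¹ hH1i f)) (h0 : ev1 f = 0) (hd : grad f = 0) :
    f ∈ Submodule.span k {z : GB n k | ∃ x y, InvC q (ltB H1⁻¹ hH1i x) ∧ ev1 x = 0 ∧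
      InvC q (ltB H1⁻¹ hH1i y) ∧ ev1 y = 0 ∧ z = x * y} := by
  let lt' : GB n k →ₐ[k] GB n k := ltB H1⁻¹ hH1i
  let rt : GB n k →ₐ[k] GB n k := rtB H1 hH1
  let rt' : GB n k →ₐ[k] GB n k := rtB H1⁻¹ hH1i
  let lt : GB n k →ₐ[k] GB n k := ltB H1 hH1
  let cm : GB n k →ₐ[k] GB n k := rt.comp lt'
  have hcm0 : ev1.comp cm = (ev1 : GB n k →ₐ[k] k) := algHom_ext' (by
    rw [← AlgHom.comp_assoc, matP_comp_ltB, matP_comp_rtB,
      map_algebraMap_self, map_algebraMap_self, matP_ev1, Matrix.one_mul, Matrix.nonsing_inv_mul _ hH1])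
  have hd' : grad (cm f) = 0 := by
    funext p
    obtain ⟨i, j⟩ := p
    have h := apply_eq_add_grad ((Algebra.ofId k (DualNumber k)).comp ev1) ((dualPt (i, j)).comp cm)
      (fun p => (H1⁻¹ p.1 i * H1 j p.2) • DualNumber.eps)
      (fun p p' => by simp [smul_mul_smul_comm, DualNumber.eps_mul_eps])
      (fun p b => by rw [_root_.mul_comm, AlgHom.comp_apply, Algebra.ofId_apply, ← Algebra.smul_def])
      (fun i' j' => ?_) f
    · rw [hd] at h
      simp only [Pi.zero_apply, zero_smul, Finset.sum_const_zero, add_zero, AlgHom.comp_apply (R := k), h0, map_zero] at h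
      show TrivSqZeroExt.snd (dualPt (i, j) (cm f)) = 0
      rw [h]
      rfl
    · rw [← AlgHom.comp_assoc,
        matP_comp_ltB, matP_comp_rtB, dualPt, matP_glPt, matP_comp, matP_ev1, Matrix.add_mul, Matrix.one_mul,
        Matrix.mul_add, ← Matrix.map_mul, Matrix.nonsing_inv_mul _ hH1, Matrix.add_apply]
      refine congrArg₂ (· + ·) rfl ?_
      rw [Matrix.mul_apply, Finset.sum_eq_single i]
      · rw [Matrix.mul_apply, Finset.sum_eq_single j]
        · rw [Matrix.single_apply, if_pos ⟨rfl, rfl⟩, Matrix.map_apply, Matrix.map_apply, Algebra.smul_def, map_mul]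
          show algebraMap k (DualNumber k) _ * (DualNumber.eps * algebraMap k (DualNumber k) _) = _
          ring
        · intro l _ hl
          rw [Matrix.single_apply, if_neg (fun e => hl e.2.symm), zero_mul]
        · exact fun h => absurd (Finset.mem_univ _) h
      · intro l _ hl
        rw [Matrix.mul_apply, Finset.sum_eq_zero fun m _ => by
          rw [Matrix.single_apply, if_neg (fun e => hl e.1.symm), zero_mul], mul_zero]
      · exact fun h => absurd (Finset.mem_univ _) h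
  have hspan := mem_sq_of_grad q hα h1 hq (f := cm f) (invC_rtB q (hf) H1 hH1)
    (by rw [← AlgHom.comp_apply, hcm0, h0]) hd'
  let ci : GB n k →ₐ[k] GB n k := lt.comp rt'
  have hci0 : ev1.comp ci = (ev1 : GB n k →ₐ[k] k) := algHom_ext' (by
    rw [← AlgHom.comp_assoc, matP_comp_rtB, matP_comp_ltB,
      map_algebraMap_self, map_algebraMap_self, matP_ev1, Matrix.mul_one, Matrix.mul_nonsing_inv _ hH1])
  have hcimem : ∀ z, InvC q z → InvC q (lt' (ci z)) := fun z hz => by
    rw [show lt' (ci z) = rt' z from eq_of_forall_point fun ψ => ?_]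
    · exact invC_rtB q hz H1⁻¹ hH1i
    · simp only [ci, AlgHom.comp_apply]
      rw [← AlgHom.comp_apply ψ lt', ← AlgHom.comp_apply (ψ.comp lt') lt,
        ← AlgHom.comp_apply ((ψ.comp lt').comp lt) rt', ← AlgHom.comp_apply ψ rt']
      refine AlgHom.congr_fun (algHom_ext' ?_) z
      rw [matP_comp_rtB, matP_comp_ltB, matP_comp_ltB, matP_comp_rtB]
      simp only [map_algebraMap_self]
      rw [← Matrix.mul_assoc H1, Matrix.mul_nonsing_inv _ hH1, Matrix.one_mul]
  have hfe : f = ci (cm f) := (eq_of_forall_point fun ψ => by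
    simp only [ci, cm, AlgHom.comp_apply]
    rw [← AlgHom.comp_apply ψ lt, ← AlgHom.comp_apply (ψ.comp lt) rt',
      ← AlgHom.comp_apply ((ψ.comp lt).comp rt') rt, ← AlgHom.comp_apply (((ψ.comp lt).comp rt').comp rt) lt']
    refine AlgHom.congr_fun (algHom_ext' ?_) f
    rw [matP_comp_ltB, matP_comp_rtB, matP_comp_rtB, matP_comp_ltB]
    simp only [map_algebraMap_self]
    rw [Matrix.mul_assoc, Matrix.mul_assoc, Matrix.nonsing_inv_mul _ hH1, Matrix.mul_one, ← Matrix.mul_assoc,
      Matrix.nonsing_inv_mul _ hH1, Matrix.one_mul]).symm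
  rw [hfe]
  have := Submodule.mem_map_of_mem (f := ci.toLinearMap) hspan
  rw [Submodule.map_span] at this
  refine Submodule.span_mono ?_ this
  rintro _ ⟨_, ⟨u, v, hu, hu0, hv, hv0, rfl⟩, rfl⟩
  exact ⟨ci u, ci v, hcimem u hu, by rw [← AlgHom.comp_apply, hci0, hu0], hcimem v hv,
    by rw [← AlgHom.comp_apply, hci0, hv0], map_mul ci u v⟩

omit hα h1 hq in
/-- Invariant functions transported to the fixed coset. -/
theorem left_dMat_inv (a : Fin n → ℤ) (H1 : Matrix (Fin n) (Fin n) k) (hH1 : IsUnit H1.det)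
    (hH1i : IsUnit (H1⁻¹).det) {e : GB n k → k}
    (hfix : ∀ f, InvC q f → ∀ (s : kˣ) (ψ : GB n k →ₐ[k] k), matP ψ = H1 * dMat a s → ψ f = e f)
    (he : ∀ f (ψ : GB n k →ₐ[k] k), InvC q f → matP ψ = H1 → ψ f = e f)
    {f : GB n k} (hf : InvC q (ltB H1⁻¹ hH1i f)) (φ φ' : GB n k →ₐ[k] k) (s : kˣ)
    (h : matP φ' = dMat a s * matP φ) : φ' f = φ f := by
  let g : GB n k := rtB (matP φ) (isUnit_det_matP φ) (ltB H1⁻¹ hH1i f)
  have hg : InvC q g := invC_rtB q hf _ _
  have key : ∀ (M : Matrix (Fin n) (Fin n) k) (hM : IsUnit M.det) (χ : GB n k →ₐ[k] k),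
      matP χ = M * matP φ → glPt (H1 * M) (isUnit_det_mul hH1 hM) g = χ f := by
    intro M hM χ hχ
    rw [← AlgHom.comp_apply, ← AlgHom.comp_apply]
    refine AlgHom.congr_fun (algHom_ext' ?_) f
    rw [matP_comp_ltB, matP_comp_rtB, map_algebraMap_self, map_algebraMap_self, matP_glPt, hχ,
      ← Matrix.mul_assoc H1⁻¹, ← Matrix.mul_assoc H1⁻¹, Matrix.nonsing_inv_mul _ hH1, Matrix.one_mul]
  rw [← key (dMat a s) (isUnit_det_dMat a s) φ' h,
    ← key 1 (by rw [Matrix.det_one]; exact isUnit_one) φ (Matrix.one_mul _).symm,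
    hfix g hg s _ (matP_glPt _ _), he g _ hg (by rw [matP_glPt, Matrix.mul_one])]

omit hα h1 hq in
theorem comp_ltB (a : Fin n → ℤ) (M : Matrix (Fin n) (Fin n) k) (hM : IsUnit M.det) (f : GB n k) (w : ℤ) :
    ltB M hM (comp a w f) = comp a w (ltB M hM f) := eq_of_forall_point fun ψ => by
  rw [← AlgHom.comp_apply, torR_comp, torR_comp, ← AlgHom.comp_apply (torR ψ a)]
  refine congrArg (fun z : AddMonoidAlgebra k ℤ => z.coeff w) (AlgHom.congr_fun (algHom_ext' ?_) f)
  rw [matP_torR, matP_comp_ltB, map_algebraMap_self, matP_comp_ltB, matP_torR, Matrix.map_mul, Matrix.mul_assoc]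

/-- The attracted point of the coset. -/
theorem exists_coset_decomp (a : Fin n → ℤ) (H1 : Matrix (Fin n) (Fin n) k) (hH1 : IsUnit H1.det)
    (φ₁ φb : GB n k →ₐ[k] k) (hφ₁ : matP φ₁ = H1)
    (hfix : ∀ f, InvC q f → ∀ (s : kˣ) (ψ : GB n k →ₐ[k] k), matP ψ = H1 * dMat a s → ψ f = φ₁ f)
    (hCneg : ∀ f, InvC q f → ∀ i, i < 0 → (torR φb a f).coeff i = 0)
    (hCzero : ∀ f, InvC q f → (torR φb a f).coeff 0 = φ₁ f) :
    ∃ (U : Matrix (Fin n) (Fin n) k) (g₁ : A →ₐ[k] k), IsU a U ∧ matP φb = Gq q g₁ * (H1 * U) := by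
  have hH1i : IsUnit (H1⁻¹).det := Matrix.isUnit_nonsing_inv_det_iff.mpr hH1
  let lt' : GB n k →ₐ[k] GB n k := ltB H1⁻¹ hH1i
  let C' : Subalgebra k (GB n k) :=
    (GLin.invariants k A (LB q)).comap ((toLB q).toAlgHom.comp lt')
  have hC' : ∀ f, f ∈ C' ↔ InvC q (lt' f) := fun f => Iff.rfl
  have hval : ∀ (f : GB n k) (ψ ψ' : GB n k →ₐ[k] k), matP ψ' = H1 * matP ψ → ψ' (lt' f) = ψ f := by
    intro f ψ ψ' e
    rw [← AlgHom.comp_apply]
    refine AlgHom.congr_fun (algHom_ext' ?_) f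
    rw [matP_comp_ltB, map_algebraMap_self, e, ← Matrix.mul_assoc, Matrix.nonsing_inv_mul _ hH1, Matrix.one_mul]
  have hL : ∀ f ∈ C', ∀ (φ φ' : GB n k →ₐ[k] k) (s : kˣ), matP φ' = dMat a s * matP φ → φ' f = φ f :=
    fun f hf φ φ' s h => left_dMat_inv q a H1 hH1 hH1i hfix
      (fun g ψ _ e => AlgHom.congr_fun (algHom_ext' (e.trans hφ₁.symm)) g) ((hC' f).mp hf) φ φ' s h
  have hcomp : ∀ f ∈ C', ∀ w, comp a w f ∈ C' := fun f hf w => by
    rw [hC', show lt' (comp a w f) = comp a w (lt' f) from comp_ltB a _ hH1i f w]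
    exact invC_comp q ((hC' f).mp hf) a w
  have hsq : ∀ f ∈ C', ev1 f = 0 → grad f = 0 →
      f ∈ Submodule.span k {z : GB n k | ∃ x y, x ∈ C' ∧ ev1 x = 0 ∧ y ∈ C' ∧ ev1 y = 0 ∧ z = x * y} :=
    fun f hf h0 hd => sq_twist q hα h1 hq H1 hH1 hH1i ((hC' f).mp hf) h0 hd
  let b' : GB n k →ₐ[k] k := glPt (H1⁻¹ * matP φb) (isUnit_det_mul hH1i (isUnit_det_matP φb))
  have hb' : matP φb = H1 * matP b' := by
    rw [matP_glPt, ← Matrix.mul_assoc, Matrix.mul_nonsing_inv _ hH1, Matrix.one_mul]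
  have hbcomp : ∀ f ∈ C', ∀ i, b' (comp a i f) = (torR φb a (lt' f)).coeff i := fun f hf i => by
    rw [torR_comp, ← AlgHom.comp_apply (torR φb a)]
    refine congrArg (fun z : AddMonoidAlgebra k ℤ => z.coeff i) (AlgHom.congr_fun (algHom_ext' ?_) f)
    rw [matP_torR, matP_comp_ltB, matP_torR, ← Matrix.mul_assoc, ← Matrix.map_mul, matP_glPt]
  obtain ⟨U, hU, hUb⟩ := exists_attract hL hcomp hsq b'
    (fun f hf i hi => by rw [hbcomp f hf i]; exact hCneg _ ((hC' f).mp hf) i hi)
    (fun f hf => by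
      rw [hbcomp f hf 0, hCzero _ ((hC' f).mp hf)]
      exact hval f ev1 φ₁ (by rw [matP_ev1, Matrix.mul_one, hφ₁]))
  have hUdet : IsUnit U.det := by rw [det_eq_one a U hU]; exact isUnit_one
  let φU : GB n k →ₐ[k] k := glPt (H1 * U) (isUnit_det_mul hH1 hUdet)
  have hUC : ∀ F₀, InvC q F₀ → φU F₀ = φb F₀ := by
    intro F₀ hF₀
    have e : lt' (ltB H1 hH1 F₀) = F₀ := eq_of_forall_point fun ψ => by
      show (ψ.comp lt').comp (ltB H1 hH1) F₀ = ψ F₀
      refine AlgHom.congr_fun (algHom_ext' ?_) F₀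
      rw [matP_comp_ltB, matP_comp_ltB, map_algebraMap_self, map_algebraMap_self, ← Matrix.mul_assoc,
        Matrix.mul_nonsing_inv _ hH1, Matrix.one_mul]
    have hf : ltB H1 hH1 F₀ ∈ C' := by rw [hC', e]; exact hF₀
    have h := hUb _ hf
    rwa [← hval _ (uPt a hU) φU (by rw [matP_glPt, uPt, matP_glPt]), ← hval _ b' φb hb', e] at h
  obtain ⟨g₁, hg₁⟩ : ∃ g₁ : A →ₐ[k] k, matP φb = Gq q g₁ * (H1 * U) := by
    have hi : IsUnit ((H1 * U)⁻¹).det := Matrix.isUnit_nonsing_inv_det_iff.mpr (isUnit_det_mul hH1 hUdet)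
    obtain ⟨g, hg⟩ := exists_eq_Gq q hα h1 hq (φ := φb.comp (rtB _ hi)) (fun f hf => by
      rw [AlgHom.comp_apply, ← hUC _ (invC_rtB q hf _ hi), ← AlgHom.comp_apply]
      refine AlgHom.congr_fun (algHom_ext' ?_) f
      rw [matP_comp_rtB, map_algebraMap_self, matP_glPt, matP_ev1,
        Matrix.mul_nonsing_inv _ (isUnit_det_mul hH1 hUdet)])
    refine ⟨g, ?_⟩
    rw [← hg, matP_comp_rtB, map_algebraMap_self, Matrix.mul_assoc,
      Matrix.nonsing_inv_mul _ (isUnit_det_mul hH1 hUdet), Matrix.mul_one]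
  exact ⟨U, g₁, hU, hg₁⟩

omit hα h1 hq

section TorHom

variable (Q : Matrix (Fin n) (Fin n) k) (hQ : IsUnit Q.det) (a : Fin n → ℤ)

/-- A conjugate of a diagonal one parameter subgroup of the general linear group. -/
noncomputable def torHom : GB n k →ₐ[k] AddMonoidAlgebra k ℤ :=
  glPt (Q.map (algebraMap k (AddMonoidAlgebra k ℤ)) * torMat a * (Q⁻¹).map (algebraMap k (AddMonoidAlgebra k ℤ)))
    (isUnit_det_mul (isUnit_det_mul (isUnit_det_map (Algebra.ofId k _) hQ) (isUnit_det_torMat a))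
      (isUnit_det_map (Algebra.ofId k _) (Matrix.isUnit_nonsing_inv_det_iff.mpr hQ)))

theorem matP_torHom : matP (torHom Q hQ a) = Q.map (algebraMap k (AddMonoidAlgebra k ℤ)) * torMat a *
    (Q⁻¹).map (algebraMap k (AddMonoidAlgebra k ℤ)) := matP_glPt _ _

theorem eval_torHom (s : kˣ) : matP ((evalHom (zpowHom s)).comp (torHom Q hQ a)) = Q * dMat a s * Q⁻¹ := by
  have hc : ∀ M : Matrix (Fin n) (Fin n) k,
      (M.map (algebraMap k (AddMonoidAlgebra k ℤ))).map (evalHom (k := k) (zpowHom s)) = M :=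
    fun M => Matrix.ext fun i j => (evalHom (k := k) (zpowHom s)).commutes _
  rw [matP_comp, matP_torHom, Matrix.map_mul, Matrix.map_mul, hc, hc]
  congr 2
  rw [torMat, Matrix.diagonal_map (map_zero _)]
  refine congrArg Matrix.diagonal (funext fun i => ?_)
  rw [evalHom_single, zpowHom_apply, _root_.one_mul]

theorem comul_torHom : (Bialgebra.comulAlgHom k (AddMonoidAlgebra k ℤ)).comp (torHom Q hQ a) =
    (Algebra.TensorProduct.map (torHom Q hQ a) (torHom Q hQ a)).comp (Bialgebra.comulAlgHom k (GB n k)) := by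
  let inl : AddMonoidAlgebra k ℤ →ₐ[k] AddMonoidAlgebra k ℤ ⊗[k] AddMonoidAlgebra k ℤ :=
    Algebra.TensorProduct.includeLeft
  let inr : AddMonoidAlgebra k ℤ →ₐ[k] AddMonoidAlgebra k ℤ ⊗[k] AddMonoidAlgebra k ℤ :=
    Algebra.TensorProduct.includeRight
  have e : (Algebra.TensorProduct.map (torHom Q hQ a) (torHom Q hQ a)).comp (Bialgebra.comulAlgHom k (GB n k)) =
      mulPt (inl.comp (torHom Q hQ a)) (inr.comp (torHom Q hQ a)) := by
    rw [mulPt]
    congr 1
    exact Algebra.TensorProduct.ext' fun u v => by simp [inl, inr]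
  rw [e]
  refine algHom_ext' ?_
  rw [matP_comp, matP_mulPt, matP_comp, matP_comp, matP_torHom]
  let S := AddMonoidAlgebra k ℤ ⊗[k] AddMonoidAlgebra k ℤ
  have hc : ∀ (f : AddMonoidAlgebra k ℤ →ₐ[k] S) (M : Matrix (Fin n) (Fin n) k),
      (M.map (algebraMap k (AddMonoidAlgebra k ℤ))).map f = M.map (algebraMap k S) := fun f M => Matrix.ext fun i j => f.commutes _
  have hdiag : (torMat (T := k) a).map (Bialgebra.comulAlgHom k (AddMonoidAlgebra k ℤ)) =
      (torMat (T := k) a).map inl * (torMat (T := k) a).map inr := by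
    rw [torMat, Matrix.diagonal_map (map_zero _), Matrix.diagonal_map (map_zero _),
      Matrix.diagonal_map (map_zero _), Matrix.diagonal_mul_diagonal]
    refine congrArg Matrix.diagonal (funext fun i => ?_)
    simp only [Function.comp_apply, inl, inr, Algebra.TensorProduct.includeLeft_apply,
      Algebra.TensorProduct.includeRight_apply, Algebra.TensorProduct.tmul_mul_tmul, _root_.one_mul,
      _root_.mul_one, Bialgebra.comulAlgHom_apply]
    rw [AddMonoidAlgebra.comul_single, CommSemiring.comul_apply]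
    rfl
  simp only [Matrix.map_mul, hc, hdiag]
  calc Q.map (algebraMap k S) * ((torMat (T := k) a).map inl * (torMat (T := k) a).map inr) *
        Q⁻¹.map (algebraMap k S)
      = Q.map (algebraMap k S) * (torMat (T := k) a).map inl *
          ((Q⁻¹.map (algebraMap k S)) * (Q.map (algebraMap k S))) *
          (torMat (T := k) a).map inr * Q⁻¹.map (algebraMap k S) := by
        rw [← Matrix.map_mul, Matrix.nonsing_inv_mul _ hQ, Matrix.map_one _ (map_zero _) (map_one _),
          Matrix.mul_one]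
        simp only [Matrix.mul_assoc]
    _ = _ := by simp only [Matrix.mul_assoc]

theorem counit_torHom :
    (Bialgebra.counitAlgHom k (AddMonoidAlgebra k ℤ)).comp (torHom Q hQ a) = Bialgebra.counitAlgHom k (GB n k) := by
  refine algHom_ext' ?_
  have hc : ∀ M : Matrix (Fin n) (Fin n) k,
      (M.map (algebraMap k (AddMonoidAlgebra k ℤ))).map (Bialgebra.counitAlgHom k (AddMonoidAlgebra k ℤ)) = M :=
    fun M => Matrix.ext fun i j => (Bialgebra.counitAlgHom k (AddMonoidAlgebra k ℤ)).commutes _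
  have hd : (torMat (T := k) a).map (Bialgebra.counitAlgHom k (AddMonoidAlgebra k ℤ)) = 1 := by
    rw [torMat, Matrix.diagonal_map (map_zero _), ← Matrix.diagonal_one]
    refine congrArg Matrix.diagonal (funext fun i => ?_)
    rw [Bialgebra.counitAlgHom_apply, AddMonoidAlgebra.counit_single]
    rfl
  rw [matP_comp, matP_torHom, Matrix.map_mul, Matrix.map_mul, hc, hc, hd, Matrix.mul_one,
    Matrix.mul_nonsing_inv _ hQ]
  exact matP_ev1.symm

include hq in
theorem exists_bialgHom (hI : RingHom.ker (qH q) ≤ RingHom.ker (torHom Q hQ a)) :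
    ∃ lam : A →ₐc[k] LaurentPolynomial k, (lam : A →ₐ[k] AddMonoidAlgebra k ℤ).comp (qH q) = torHom Q hQ a := by
  let μA : A →ₐ[k] AddMonoidAlgebra k ℤ := AlgHom.liftOfSurjective (qH q) hq (torHom Q hQ a) hI
  have hμA : μA.comp (qH q) = torHom Q hQ a := AlgHom.liftOfSurjective_comp _ _ _ _
  let lam : A →ₐc[k] LaurentPolynomial k := BialgHom.ofAlgHom μA
    (AlgHom.ext fun z => by
      obtain ⟨b, rfl⟩ := hq z
      have h := AlgHom.congr_fun (counit_torHom Q hQ a) b
      rw [← hμA] at h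
      refine h.trans ?_
      exact (CoalgHomClass.counit_comp_apply q b).symm)
    (AlgHom.ext fun z => by
      obtain ⟨b, rfl⟩ := hq z
      have h := AlgHom.congr_fun (comul_torHom Q hQ a) b
      rw [← hμA] at h
      refine Eq.trans ?_ h.symm
      show Algebra.TensorProduct.map μA μA (Coalgebra.comul (R := k) (qH q b)) =
        Algebra.TensorProduct.map (μA.comp (qH q)) (μA.comp (qH q)) (Coalgebra.comul (R := k) b)
      rw [show Coalgebra.comul (R := k) (qH q b) = TensorProduct.map (qH q).toLinearMap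
        (qH q).toLinearMap (Coalgebra.comul (R := k) b) from (CoalgHomClass.map_comp_comul_apply q _).symm]
      induction Coalgebra.comul (R := k) b using TensorProduct.induction_on with
      | zero => simp
      | add u v hu hv => simp only [map_add, hu, hv]
      | tmul u v => simp)
  exact ⟨lam, hμA⟩

end TorHom

include hα h1 hq in
/-- The conjugate torus lies in the subgroup. -/
theorem ker_le_torHom (a : Fin n → ℤ) (H1 : Matrix (Fin n) (Fin n) k) (hH1 : IsUnit H1.det)
    (φ₁ : GB n k →ₐ[k] k) (hφ₁ : matP φ₁ = H1)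
    (hfix : ∀ f, InvC q f → ∀ (s : kˣ) (ψ : GB n k →ₐ[k] k), matP ψ = H1 * dMat a s → ψ f = φ₁ f)
    (g₁ : A →ₐ[k] k) (hQ : IsUnit (Gq q g₁ * H1).det) :
    RingHom.ker (qH q) ≤ RingHom.ker (torHom (Gq q g₁ * H1) hQ a) := by
  have hH1i : IsUnit (H1⁻¹).det := Matrix.isUnit_nonsing_inv_det_iff.mpr hH1
  intro b hb
  refine eq_zero_of_forall_evalHom fun s => ?_
  let ψ₀ : GB n k →ₐ[k] k := glPt (H1 * dMat a s * H1⁻¹)
    (isUnit_det_mul (isUnit_det_mul hH1 (isUnit_det_dMat a s)) hH1i)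
  obtain ⟨gs, hgs⟩ := exists_eq_Gq q hα h1 hq (φ := ψ₀) (fun f hf => by
    have h := hfix _ (invC_rtB q hf H1⁻¹ hH1i) s
      (glPt (H1 * dMat a s) (isUnit_det_mul hH1 (isUnit_det_dMat a s))) (matP_glPt _ _)
    rw [← AlgHom.comp_apply, ← AlgHom.comp_apply] at h
    refine Eq.trans (AlgHom.congr_fun (algHom_ext' ?_) f) (h.trans (AlgHom.congr_fun (algHom_ext' ?_) f))
    · rw [matP_glPt, matP_comp_rtB, map_algebraMap_self, matP_glPt]
    · rw [matP_comp_rtB, map_algebraMap_self, hφ₁, matP_ev1, Matrix.mul_nonsing_inv _ hH1])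
  have e : (evalHom (zpowHom s)).comp (torHom (Gq q g₁ * H1) hQ a) =
      (mulPt (mulPt g₁ gs) (g₁.comp (HopfAlgebra.antipodeAlgHom k A))).comp (qH q) := by
    refine algHom_ext' ?_
    rw [eval_torHom]
    show _ = Gq q (mulPt (mulPt g₁ gs) (g₁.comp (HopfAlgebra.antipodeAlgHom k A)))
    rw [Gq_mulPt, Gq_mulPt, ← hgs, matP_glPt]
    have hinv : (Gq q g₁)⁻¹ = Gq q (g₁.comp (HopfAlgebra.antipodeAlgHom k A)) :=
      Matrix.inv_eq_right_inv (Gq_mul_antipode q g₁)
    show Gq q g₁ * H1 * dMat a s * (Gq q g₁ * H1)⁻¹ = _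
    rw [Matrix.mul_inv_rev, hinv]
    simp only [Matrix.mul_assoc]
  rw [← AlgHom.comp_apply, e, AlgHom.comp_apply, show qH q b = 0 from hb, map_zero]

section Curve

variable (a : Fin n → ℤ)

theorem diag_curve (Q : Matrix (Fin n) (Fin n) k) (hQ : IsUnit Q.det) {U : Matrix (Fin n) (Fin n) k} (hU : IsU a U)
    (φb : GB n k →ₐ[k] k) (hφb : matP φb = Q * U) (Wm : Matrix (Fin n) (Fin n) k[X])
    (hWm : Wm = (curveMat a U).adjugate * (Q⁻¹).map (algebraMap k k[X]))
    (P2 : GB n k →ₐ[k] AddMonoidAlgebra k[X] ℤ)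
    (hP2 : matP P2 = matP (torR ((Algebra.ofId k k[X]).comp φb) a) * Wm.map (cst (k := k) (Λ := ℤ))) :
    diagHom.comp P2 = torHom Q hQ a := by
  subst hWm
  let cz : k →+* AddMonoidAlgebra k ℤ := algebraMap k _
  let φb' : GB n k →ₐ[k] k[X] := (Algebra.ofId k k[X]).comp φb
  refine algHom_ext' ?_
  rw [matP_comp, hP2, Matrix.map_mul, Matrix.map_mul, matP_torHom]
  have h1' : (matP (torR φb' a)).map (diagHom (k := k)) = (matP φb).map cz * torMat a := by
    refine Matrix.ext fun i j => ?_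
    rw [Matrix.map_apply, matP_apply, torR_X, diagHom_single, torMat, Matrix.mul_diagonal, Matrix.map_apply]
    congr 1
    exact (Polynomial.toLaurentAlg (R := k)).commutes _
  have h2' : ∀ M : Matrix (Fin n) (Fin n) k[X],
      (M.map (cst (k := k) (Λ := ℤ))).map (diagHom (k := k)) = M.map (Polynomial.toLaurentAlg (R := k)) :=
    fun M => Matrix.ext fun i j => by
      simp only [Matrix.map_apply, cst_apply, diagHom_single]
      rw [show AddMonoidAlgebra.single (0 : ℤ) (1 : k) = 1 from rfl, _root_.mul_one]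
  have h3 : ((Q⁻¹).map (algebraMap k k[X])).map (Polynomial.toLaurentAlg (R := k)) = (Q⁻¹).map cz :=
    Matrix.ext fun i j => (Polynomial.toLaurentAlg (R := k)).commutes _
  have hcomm : U.map cz * torMat a = torMat a * (curveMat a U).map (Polynomial.toLaurentAlg (R := k)) := by
    refine Matrix.ext fun i j => ?_
    rw [torMat, Matrix.mul_diagonal, Matrix.diagonal_mul, Matrix.map_apply, Matrix.map_apply]
    show AddMonoidAlgebra.single (0 : ℤ) (U i j) * _ = _
    rw [AddMonoidAlgebra.single_mul_single, zero_add, _root_.mul_one]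
    by_cases h : a i < a j
    · rw [curveMat, if_pos h, map_mul, ← single_natCast_eq,
        show Polynomial.toLaurentAlg (R := k) (Polynomial.C (U i j)) = AddMonoidAlgebra.single (0 : ℤ) (U i j) from
          (Polynomial.toLaurentAlg (R := k)).commutes _,
        AddMonoidAlgebra.single_mul_single, AddMonoidAlgebra.single_mul_single, _root_.one_mul, _root_.mul_one,
        zero_add]
      congr 1
      omega
    · rw [curveMat, if_neg h, hU i j h]
      split_ifs with e
      · subst e; rw [map_one, _root_.mul_one]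
      · rw [map_zero, mul_zero, AddMonoidAlgebra.single_zero]
  rw [h1', Matrix.map_mul, h2', h2', h3, hφb]
  rw [Matrix.map_mul, Matrix.mul_assoc (Q.map cz),
    hcomm, ← Matrix.mul_assoc, ← Matrix.mul_assoc, Matrix.mul_assoc (Q.map cz * torMat a),
    show (curveMat a U).map (Polynomial.toLaurentAlg (R := k)) *
      (curveMat a U).adjugate.map (Polynomial.toLaurentAlg (R := k)) = 1 by
      rw [← Matrix.map_mul, Matrix.mul_adjugate, det_curveMat, one_smul,
        Matrix.map_one _ (map_zero _) (map_one _)], Matrix.mul_one]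

theorem mapCoeff_curve (x : R →ₐ[k] k) (φb : GB n k →ₐ[k] k) (Wm : Matrix (Fin n) (Fin n) k[X])
    (P2 : GB n k →ₐ[k] AddMonoidAlgebra k[X] ℤ)
    (hP2 : matP P2 = matP (torR ((Algebra.ofId k k[X]).comp φb) a) * Wm.map (cst (k := k) (Λ := ℤ)))
    (c : k) (hc : IsUnit (Wm.map (Polynomial.aeval c)).det) :
    (AddMonoidAlgebra.mapAlgHom ℤ (Polynomial.aeval c)).comp (pev q (constPt (AddMonoidAlgebra k[X] ℤ) x) P2) =
      (lineHom q x φb a).comp (rtP q (Wm.map (Polynomial.aeval c)) hc) := by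
  rw [lineHom, pev_rtP, comp_pev]
  refine congrArg₂ (pev q) (AlgHom.ext fun r => by simp only [constPt, AlgHom.comp_apply, Algebra.ofId_apply, AlgHom.commutes])
    (algHom_ext' ?_)
  rw [matP_comp, hP2, matP_glPt, Matrix.map_mul]
  congr 1
  · refine Matrix.ext fun i j => ?_
    rw [Matrix.map_apply, matP_apply, matP_apply, torR_X, torR_X]
    refine (AddMonoidAlgebra.map_single _ _ _).trans ?_
    congr 1
    exact (Polynomial.aeval c).commutes _
  · refine Matrix.ext fun i j => ?_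
    simp only [Matrix.map_apply, cst_apply]
    exact AddMonoidAlgebra.map_single _ _ _

end Curve

include hα h1 hq in
/-- One parameter subgroups from curves. -/
theorem exists_oneParam (x y : R →ₐ[k] k) (hy : GLin.IsClosedOrbit k A y) (φb : GB n k →ₐ[k] k) (a : Fin n → ℤ)
    (p : GLin.invariants k A (R ⊗[k] LB q) →ₐ[k] k)
    (hneg : ∀ F : GLin.invariants k A (R ⊗[k] LB q), ∀ i, i < 0 →
      (lineHom q x φb a (F : R ⊗[k] LB q)).coeff i = 0)
    (hp : ∀ F : GLin.invariants k A (R ⊗[k] LB q), p F = (lineHom q x φb a (F : R ⊗[k] LB q)).coeff 0)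
    (hker : ∀ F : GLin.invariants k A (R ⊗[k] LB q),
      (∀ φ : GB n k →ₐ[k] k, pev q y φ (F : R ⊗[k] LB q) = 0) → p F = 0) :
    ∃ (lam : A →ₐc[k] LaurentPolynomial k) (g : A →ₐ[k] k),
      GLin.IsLimit k A lam x (GLin.actPt k g y) ∧ (a ≠ 0 → ¬ SGA3t2b.IsTrivialBialgHom lam) := by
  classical
  obtain ⟨g₀, φ₀, hφ₀, hpF⟩ := exists_orbit_point q hα h1 hq hy p hker
  let H1 : Matrix (Fin n) (Fin n) k := Gq q g₀ * matP φ₀
  have hH1 : IsUnit H1.det := isUnit_det_mul (isUnit_det_Gq q g₀) (isUnit_det_matP φ₀)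
  let φ₁ : GB n k →ₐ[k] k := glPt H1 hH1
  have hpφ : ∀ F : GLin.invariants k A (R ⊗[k] LB q), p F = pev q y φ₁ (F : R ⊗[k] LB q) :=
    fun F => hpF φ₁ (matP_glPt _ _) F
  have hline : ∀ f : GB n k, lineHom q x φb a ((1 : R) ⊗ₜ[k] toLB q f) = torR φb a f := fun f => by
    rw [lineHom, pev_tmul, map_one, _root_.one_mul]
  have hCneg : ∀ f, InvC q f → ∀ i, i < 0 → (torR φb a f).coeff i = 0 := fun f hf i hi => by
    rw [← hline]; exact hneg ⟨_, inR_mem q hf⟩ i hi
  have hCzero : ∀ f, InvC q f → (torR φb a f).coeff 0 = φ₁ f := fun f hf => by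
    rw [← hline, ← hp ⟨_, inR_mem q hf⟩, hpφ, pev_tmul, map_one, _root_.one_mul]
  have hfix : ∀ f, InvC q f → ∀ (s : kˣ) (ψ : GB n k →ₐ[k] k), matP ψ = H1 * dMat a s → ψ f = φ₁ f := by
    intro f hf s ψ hψ
    let F : GLin.invariants k A (R ⊗[k] LB q) := ⟨_, inR_mem q hf⟩
    let Fs : GLin.invariants k A (R ⊗[k] LB q) := ⟨_, rtP_mem q _ (isUnit_det_dMat a s) F.2⟩
    have e1 : p Fs = p F := by
      rw [hp, hp, ← AlgHom.comp_apply, lineHom_rtP_dMat, AlgHom.comp_apply, coeff_scaleHom, zpowHom_apply,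
        zpow_zero, Units.val_one, _root_.mul_one]
    rw [hpφ, hpφ, show pev q y φ₁ (Fs : R ⊗[k] LB q) =
      (pev q y φ₁).comp (rtP q _ (isUnit_det_dMat a s)) (F : R ⊗[k] LB q) from rfl, pev_rtP,
      show (F : R ⊗[k] LB q) = (1 : R) ⊗ₜ[k] toLB q f from rfl, pev_tmul, pev_tmul, map_one, _root_.one_mul,
      _root_.one_mul] at e1
    refine Eq.trans (AlgHom.congr_fun (algHom_ext' ?_) f) e1
    rw [hψ, matP_glPt, matP_glPt, map_algebraMap_self]
  obtain ⟨U, g₁, hU, hg₁⟩ := exists_coset_decomp q hα h1 hq a H1 hH1 φ₁ φb (matP_glPt _ _) hfix hCneg hCzero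
  have hUdet : IsUnit U.det := by rw [det_eq_one a U hU]; exact isUnit_one
  let Q : Matrix (Fin n) (Fin n) k := Gq q g₁ * H1
  have hQ : IsUnit Q.det := isUnit_det_mul (isUnit_det_Gq q g₁) hH1
  have hQi : IsUnit (Q⁻¹).det := Matrix.isUnit_nonsing_inv_det_iff.mpr hQ
  let cz : k →+* AddMonoidAlgebra k ℤ := algebraMap k _
  obtain ⟨lam, hlam⟩ := exists_bialgHom q hq Q hQ a
    (ker_le_torHom q hα h1 hq a H1 hH1 φ₁ (matP_glPt _ _) hfix g₁ hQ)
  let μA : A →ₐ[k] AddMonoidAlgebra k ℤ := (lam : A →ₐ[k] AddMonoidAlgebra k ℤ)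
  have hμA : μA.comp (qH q) = torHom Q hQ a := hlam
  -- the limit
  let g : A →ₐ[k] k := g₁.comp (HopfAlgebra.antipodeAlgHom k A)
  obtain ⟨σl, hσl⟩ := (qH q).toLinearMap.exists_rightInverse_of_surjective (LinearMap.range_eq_top.mpr hq)
  let Wm : Matrix (Fin n) (Fin n) k[X] :=
    (curveMat a U).adjugate * (Q⁻¹).map (algebraMap k k[X])
  have hWm : IsUnit Wm.det := by
    refine isUnit_det_mul ?_ (isUnit_det_map (Algebra.ofId k _) hQi)
    rw [Matrix.det_adjugate, det_curveMat, one_pow]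
    exact isUnit_one
  let S2 := AddMonoidAlgebra k[X] ℤ
  let φb' : GB n k →ₐ[k] k[X] := (Algebra.ofId k k[X]).comp φb
  let P2 : GB n k →ₐ[k] S2 := glPt (matP (torR φb' a) * Wm.map (cst (k := k) (Λ := ℤ)))
    (isUnit_det_mul (isUnit_det_matP _) (isUnit_det_map _ hWm))
  have hP2c := mapCoeff_curve q a x φb Wm P2 (matP_glPt _ _)
  have hWc : ∀ c : k, IsUnit (Wm.map (Polynomial.aeval c)).det := fun c => isUnit_det_map _ hWm
  have hW0 : Wm.map (Polynomial.aeval (0 : k)) = Q⁻¹ := by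
    rw [Matrix.map_mul, show (curveMat a U).adjugate.map (Polynomial.aeval (0 : k)) =
        ((curveMat a U).map (Polynomial.aeval (0 : k))).adjugate from AlgHom.map_adjugate _ _,
      show (curveMat a U).map (Polynomial.aeval (0 : k)) = 1 from Matrix.ext fun i j => by
        rw [Matrix.map_apply, Polynomial.coe_aeval_eq_eval, curveMat_eval_zero, Matrix.one_apply],
      Matrix.adjugate_one, Matrix.one_mul]
    exact Matrix.ext fun i j => (Polynomial.aeval (0 : k)).commutes _
  have hdiagP2 : diagHom.comp P2 = torHom Q hQ a :=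
    diag_curve a Q hQ hU φb (by rw [hg₁, ← Matrix.mul_assoc]) Wm rfl P2 (matP_glPt _ _)
  have key : ∀ r : R, ∃ P : k[X], Polynomial.toLaurentAlg (R := k) P = GLin.lamOrbit k A lam x r ∧
      P.eval 0 = GLin.actPt k g y r := by
    intro r
    let F : GLin.invariants k A (R ⊗[k] LB q) := ⟨theta q R α σl r, theta_mem q hα σl r⟩
    have he1 : e1 q (F : R ⊗[k] LB q) = r := e1_theta q h1 (LinearMap.congr_fun hσl) r
    let G := pev q (constPt S2 x) P2 (F : R ⊗[k] LB q)
    have hcoef : ∀ (c : k) (i : ℤ), (G.coeff i).eval c =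
        (lineHom q x φb a (rtP q _ (hWc c) (F : R ⊗[k] LB q))).coeff i := fun c i => by
      have h := congrArg (fun z : AddMonoidAlgebra k ℤ => z.coeff i)
        (AlgHom.congr_fun (hP2c c (hWc c)) (F : R ⊗[k] LB q))
      refine Eq.trans ?_ h
      rfl
    have hGneg : ∀ i, i < 0 → G.coeff i = 0 := fun i hi => Polynomial.funext fun c => by
      rw [hcoef, Polynomial.eval_zero]
      exact hneg ⟨_, rtP_mem q _ (hWc c) F.2⟩ i hi
    obtain ⟨P, hP1, hP2⟩ := exists_poly_of_coeff G hGneg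
    refine ⟨P, hP1.trans ?_, hP2.trans ?_⟩
    · have e : GLin.lamOrbit k A lam x = mv (constPt (AddMonoidAlgebra k ℤ) x) μA := (mv_orbit x μA).symm
      rw [e, show diagHom G = (diagHom.comp (pev q (constPt S2 x) P2)) (F : R ⊗[k] LB q) from rfl, comp_pev, hdiagP2]
      conv_rhs => rw [← he1, ← AlgHom.comp_apply, e1, comp_pev, AlgHom.comp_id]
      rw [pev_inv q F.2 _ μA (h' := (torHom Q hQ a)) (by
        rw [show (mv (constPt (AddMonoidAlgebra k ℤ) x) μA).comp
          ((Algebra.ofId k R).comp (Bialgebra.counitAlgHom k (GB n k))) =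
          (Algebra.ofId k (AddMonoidAlgebra k ℤ)).comp (Bialgebra.counitAlgHom k (GB n k)) from AlgHom.ext fun b => by
            simp only [AlgHom.comp_apply, Algebra.ofId_apply, AlgHom.commutes],
          matP_counit, Matrix.mul_one, hμA])]
      refine AlgHom.congr_fun (congrArg₂ (pev q) ?_ rfl) _
      exact AlgHom.ext fun r => (diagHom (k := k)).commutes _
    · rw [hcoef 0 0, ← hp ⟨_, rtP_mem q _ (hWc 0) F.2⟩, hpφ]
      show (pev q y φ₁).comp (rtP q _ (hWc 0)) (F : R ⊗[k] LB q) = _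
      rw [pev_rtP]
      conv_rhs => rw [← he1, ← AlgHom.comp_apply, e1, comp_pev, AlgHom.comp_id,
        ← show mv ((Algebra.ofId k k).comp y) g = GLin.actPt k g y from mv_orbit y g]
      rw [pev_inv q F.2 _ g (h' := g.comp (qH q)) (by
        rw [show (mv ((Algebra.ofId k k).comp y) g).comp
          ((Algebra.ofId k R).comp (Bialgebra.counitAlgHom k (GB n k))) =
          (Algebra.ofId k k).comp (Bialgebra.counitAlgHom k (GB n k)) from AlgHom.ext fun b => by
            simp only [AlgHom.comp_apply, Algebra.ofId_apply, AlgHom.commutes],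
          matP_counit, Matrix.mul_one])]
      refine AlgHom.congr_fun (congrArg₂ (pev q) (AlgHom.ext fun r => rfl) (algHom_ext' ?_)) _
      rw [matP_glPt, matP_glPt, map_algebraMap_self, hW0]
      show H1 * (Gq q g₁ * H1)⁻¹ = Gq q g
      rw [Matrix.mul_inv_rev, ← Matrix.mul_assoc, Matrix.mul_nonsing_inv _ hH1, Matrix.one_mul]
      exact Matrix.inv_eq_right_inv (Gq_mul_antipode q g₁)
  choose hfun hfun1 hfun2 using key
  have hinj : Function.Injective (Polynomial.toLaurentAlg (R := k)) := Polynomial.toLaurent_injective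
  let hpoly : R →ₐ[k] k[X] := AlgHom.ofLinearMap
    { toFun := hfun
      map_add' := fun u v => hinj (by rw [map_add, hfun1, hfun1, hfun1, map_add])
      map_smul' := fun c u => hinj (by rw [RingHom.id_apply, map_smul, hfun1, hfun1, map_smul]) }
    (hinj (by rw [LinearMap.coe_mk, AddHom.coe_mk, hfun1, map_one, map_one]))
    (fun u v => hinj (by rw [LinearMap.coe_mk, AddHom.coe_mk, map_mul, hfun1, hfun1, hfun1, map_mul]))
  refine ⟨lam, g, ⟨hpoly, AlgHom.ext fun r => hfun1 r, AlgHom.ext fun r => ?_⟩, fun ha htriv => ha ?_⟩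
  · rw [AlgHom.comp_apply, Polynomial.coe_aeval_eq_eval]
    exact hfun2 r
  · have hone : matP (torHom Q hQ a) = 1 := by
      rw [← hμA]
      refine Matrix.ext fun i j => ?_
      show μA (qH q (CoordGrp.GLn.X i j)) = _
      refine (htriv _).trans ?_
      rw [show CoalgebraStruct.counit (R := k) (qH q (CoordGrp.GLn.X i j)) =
        CoalgebraStruct.counit (R := k) (CoordGrp.GLn.X i j : GB n k) from CoalgHomClass.counit_comp_apply q _,
        CoordGrp.GLn.counit_X, Matrix.one_apply]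
      split_ifs <;> simp
    rw [matP_torHom] at hone
    have hT : torMat (T := k) a = 1 := by
      have h := congrArg (fun M => (Q⁻¹).map cz * M * Q.map cz) hone
      have hQQ : (Q⁻¹).map cz * Q.map cz = 1 := by
        rw [← Matrix.map_mul, Matrix.nonsing_inv_mul _ hQ, Matrix.map_one _ (map_zero _) (map_one _)]
      simp only [← Matrix.mul_assoc, hQQ, Matrix.one_mul, Matrix.mul_one] at h
      rw [Matrix.mul_assoc, hQQ, Matrix.mul_one] at h
      simpa only [Matrix.one_mul] using h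
    funext i
    have h := congrArg (fun M => (M i i).coeff (a i)) hT
    simp only [torMat, Matrix.diagonal_apply_eq, AddMonoidAlgebra.coeff_single, Finsupp.single_eq_same,
      Matrix.one_apply_eq] at h
    by_contra hne
    rw [show (1 : AddMonoidAlgebra k ℤ) = AddMonoidAlgebra.single (0 : ℤ) 1 from rfl, AddMonoidAlgebra.coeff_single,
      Finsupp.single_apply, if_neg (fun e => hne e.symm)] at h
    exact one_ne_zero h

end Groth.Agent.HMCrit
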