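import Groth.Agent.HMCrit.Closed
import Groth.Agent.ComodLib.StableClosed

/-!
# A closed orbit in the mixed product
-/

set_option autoImplicit false
set_option linter.unusedSectionVars false
set_option linter.style.haveILetI false

universe u v

open TensorProduct WithConv

namespace Groth.Agent.HMCrit

open ComodLib

variable {k : Type u} [Field k] {n : ℕ} {A : Type u} [CommRing A] [HopfAlgebra k A] (q : GB n k →ₐc[k] A)
variable {R : Type u} [CommRing R] [Algebra k R] [HopfRep.Comod k A R] [GLin.IsCoactAlg k A R]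

theorem isComodHom_inR : Hoch.IsComodHom A
    (Algebra.TensorProduct.includeRight : LB q →ₐ[k] R ⊗[k] LB q).toLinearMap := by
  refine LinearMap.ext fun b => ?_
  show HopfRep.Comod.coact (k := k) (A := A) ((1 : R) ⊗ₜ[k] b) =
    (Algebra.TensorProduct.includeRight : LB q →ₐ[k] R ⊗[k] LB q).toLinearMap.rTensor A
      (HopfRep.Comod.coact (k := k) (A := A) b)
  rw [coact_mix, GLinEt.coactP, Algebra.TensorProduct.productMap_apply_tmul, map_one, _root_.one_mul,
    AlgHom.comp_apply, GLin.coactAlgHom_apply]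
  induction HopfRep.Comod.coact (k := k) (A := A) b using TensorProduct.induction_on with
  | zero => simp
  | add x y hx hy => simp only [map_add, hx, hy]
  | tmul x y => simp

/-- An invariant function on the group, on the product. -/
theorem inR_mem {f : GB n k} (hf : InvC q f) :
    (1 : R) ⊗ₜ[k] toLB q f ∈ GLin.invariants k A (R ⊗[k] LB q) :=
  map_mem_fixedPts (isComodHom_inR q) hf

/-- Invariant functions on the group inside invariant functions on the product. -/
noncomputable def invIn : GLin.invariants k A (LB q) →ₐ[k] GLin.invariants k A (R ⊗[k] LB q) where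
  toFun f := ⟨(1 : R) ⊗ₜ[k] f.1, map_mem_fixedPts (isComodHom_inR q (R := R))
    (show (f.1 : LB q) ∈ HopfRep.fixedPts k A (LB q) from f.2)⟩
  map_one' := Subtype.ext rfl
  map_mul' f g := Subtype.ext (by simp)
  map_zero' := Subtype.ext (TensorProduct.tmul_zero (LB q) (1 : R))
  map_add' f g := Subtype.ext (TensorProduct.tmul_add _ _ _)
  commutes' c := Subtype.ext ((Algebra.TensorProduct.includeRight : LB q →ₐ[k] R ⊗[k] LB q).commutes c)

/-- Right translation on the product. -/
noncomputable def rtP (M : Matrix (Fin n) (Fin n) k) (hM : IsUnit M.det) : R ⊗[k] LB q →ₐ[k] R ⊗[k] LB q :=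
  Algebra.TensorProduct.map (AlgHom.id k R)
    ((toLB q).toAlgHom.comp ((glPt (CoordGrp.GLn.genMat n k * M.map (algebraMap k (GB n k)))
      (isUnit_det_mul (by rw [← CoordGrp.GLn.det_eq]; exact IsUnit.of_mul_eq_one _ CoordGrp.GLn.det_mul_Dinv)
        (isUnit_det_map (Algebra.ofId k _) hM))).comp (toLB q).symm.toAlgHom))

theorem pev_rtP {T : Type v} [CommRing T] [Algebra k T] (M : Matrix (Fin n) (Fin n) k) (hM : IsUnit M.det)
    (ξ : R →ₐ[k] T) (h : GB n k →ₐ[k] T) :
    (pev q ξ h).comp (rtP q M hM) =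
      pev q ξ (glPt (matP h * M.map (algebraMap k T))
        (isUnit_det_mul (isUnit_det_matP h) (isUnit_det_map (Algebra.ofId k T) hM))) := by
  refine Algebra.TensorProduct.ext' fun r b => ?_
  obtain ⟨b, rfl⟩ := (toLB q).surjective b
  rw [AlgHom.comp_apply, rtP, Algebra.TensorProduct.map_tmul, AlgHom.id_apply, pev_tmul]
  show pev q ξ h (r ⊗ₜ[k] toLB q (glPt (CoordGrp.GLn.genMat n k * M.map (algebraMap k (GB n k)))
    (isUnit_det_mul (by rw [← CoordGrp.GLn.det_eq]; exact IsUnit.of_mul_eq_one _ CoordGrp.GLn.det_mul_Dinv)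
      (isUnit_det_map (Algebra.ofId k _) hM)) b)) = _
  rw [pev_tmul]
  congr 1
  rw [← AlgHom.comp_apply]
  refine AlgHom.congr_fun (algHom_ext' ?_) b
  rw [matP_comp, matP_glPt, matP_glPt, Matrix.map_mul]
  congr 1
  exact Matrix.ext fun i j => h.commutes _

theorem rtP_mem (M : Matrix (Fin n) (Fin n) k) (hM : IsUnit M.det) {F : R ⊗[k] LB q}
    (hF : F ∈ GLin.invariants k A (R ⊗[k] LB q)) : rtP q M hM F ∈ GLin.invariants k A (R ⊗[k] LB q) := by
  let rt : GB n k →ₐ[k] GB n k := glPt (CoordGrp.GLn.genMat n k * M.map (algebraMap k (GB n k)))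
    (isUnit_det_mul (by rw [← CoordGrp.GLn.det_eq]; exact IsUnit.of_mul_eq_one _ CoordGrp.GLn.det_mul_Dinv)
      (isUnit_det_map (Algebra.ofId k _) hM))
  have hrt : ∀ i j, rt (CoordGrp.GLn.X i j) = ∑ l, CoordGrp.GLn.X i l * algebraMap k (GB n k) (M l j) := fun i j => by
    rw [← matP_apply, matP_glPt, Matrix.mul_apply]
    rfl
  have hb : (beta q).comp rt = (Algebra.TensorProduct.map rt (AlgHom.id k A)).comp (beta q) := by
    refine algHom_ext' (Matrix.ext fun i j => ?_)
    simp only [matP_apply, AlgHom.comp_apply, beta_X, hrt, map_sum, map_mul, AlgHom.commutes,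
      Algebra.TensorProduct.map_tmul, AlgHom.id_apply, TensorProduct.sum_tmul, Finset.sum_mul]
    rw [Finset.sum_comm]
    refine Finset.sum_congr rfl fun l _ => Finset.sum_congr rfl fun m _ => ?_
    rw [Algebra.TensorProduct.algebraMap_apply, Algebra.TensorProduct.tmul_mul_tmul, _root_.mul_one]
  have hkey : (GLinEt.coactP A R (LB q)).comp (rtP q M hM) =
      (Algebra.TensorProduct.map (rtP q M hM) (AlgHom.id k A)).comp (GLinEt.coactP A R (LB q)) := by
    refine Algebra.TensorProduct.ext' fun r b => ?_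
    obtain ⟨b, rfl⟩ := (toLB q).surjective b
    simp only [AlgHom.comp_apply, GLinEt.coactP, Algebra.TensorProduct.productMap_apply_tmul, map_mul]
    rw [show rtP q M hM (r ⊗ₜ[k] toLB q b) = r ⊗ₜ[k] toLB q (rt b) from Algebra.TensorProduct.map_tmul _ _ _ _,
      Algebra.TensorProduct.productMap_apply_tmul]
    congr 1
    · simp only [AlgHom.comp_apply]
      induction GLin.coactAlgHom k A R r using TensorProduct.induction_on with
      | zero => simp
      | add x y hx hy => rw [map_add, map_add, ← hx, ← hy]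
      | tmul x y =>
        simp only [Algebra.TensorProduct.map_tmul, AlgHom.id_apply, Algebra.TensorProduct.includeLeft_apply, rtP,
          map_one]
    · simp only [AlgHom.comp_apply, GLin.coactAlgHom_apply, coact_lb]
      rw [← AlgHom.comp_apply (beta q), hb, AlgHom.comp_apply]
      induction beta q b using TensorProduct.induction_on with
      | zero => simp
      | add x y hx hy => simp only [map_add, hx, hy]
      | tmul x y =>
        simp only [Algebra.TensorProduct.map_tmul, AlgHom.id_apply, Algebra.TensorProduct.includeRight_apply, rtP,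
          map_one]
        rfl
  refine map_mem_fixedPts (f := (rtP q M hM).toLinearMap) (LinearMap.ext fun G => ?_) hF
  show HopfRep.Comod.coact (k := k) (A := A) (rtP q M hM G) =
    (rtP q M hM).toLinearMap.rTensor A (HopfRep.Comod.coact (k := k) (A := A) G)
  rw [coact_mix, coact_mix]
  exact AlgHom.congr_fun hkey G

theorem rtP_rtP (M M' : Matrix (Fin n) (Fin n) k) (hM : IsUnit M.det) (hM' : IsUnit M'.det) (h : M * M' = 1)
    (F : R ⊗[k] LB q) : rtP q M hM (rtP q M' hM' F) = F := by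
  have hrt : (glPt (k := k) (CoordGrp.GLn.genMat n k * M.map (algebraMap k (GB n k)))
      (isUnit_det_mul (by rw [← CoordGrp.GLn.det_eq]; exact IsUnit.of_mul_eq_one _ CoordGrp.GLn.det_mul_Dinv)
        (isUnit_det_map (Algebra.ofId k _) hM))).comp
      (glPt (CoordGrp.GLn.genMat n k * M'.map (algebraMap k (GB n k)))
      (isUnit_det_mul (by rw [← CoordGrp.GLn.det_eq]; exact IsUnit.of_mul_eq_one _ CoordGrp.GLn.det_mul_Dinv)
        (isUnit_det_map (Algebra.ofId k _) hM'))) = AlgHom.id k (GB n k) := by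
    refine algHom_ext' ?_
    rw [matP_comp, matP_glPt, Matrix.map_mul,
      show ∀ f : GB n k →ₐ[k] GB n k, (CoordGrp.GLn.genMat n k).map f = matP f from fun f => rfl, matP_glPt,
      show ∀ f : GB n k →ₐ[k] GB n k, (M'.map (algebraMap k (GB n k))).map f = M'.map (algebraMap k (GB n k)) from
        fun f => Matrix.ext fun i j => f.commutes _,
      Matrix.mul_assoc, ← Matrix.map_mul, h, Matrix.map_one _ (map_zero _) (map_one _), Matrix.mul_one]
    rfl
  have hall : (rtP (R := R) q M hM).comp (rtP q M' hM') = AlgHom.id k (R ⊗[k] LB q) := by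
    rw [rtP, rtP, ← Algebra.TensorProduct.map_comp, AlgHom.id_comp, ← Algebra.TensorProduct.map_id]
    congr 1
  exact AlgHom.congr_fun hall F

variable [IsAlgClosed k] [CharZero k] [Algebra.FiniteType k A]
variable {α : A →ₗ[k] k} (hα : IsIntegral k α) (h1 : α 1 = 1) (hq : Function.Surjective (qH q))

include hα h1 hq

omit hq in
theorem exists_lift_point' (pC : GLin.invariants k A (LB q) →ₐ[k] k) :
    ∃ z : LB q →ₐ[k] k, z.comp (GLin.invariants k A (LB q)).val = pC := by
  let J : Ideal (LB q) := Ideal.map (GLin.invariants k A (LB q)).val.toRingHom (RingHom.ker pC)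
  have hJ : J ≠ ⊤ := by
    intro htop
    have h := comap_map_val hα h1 (RingHom.ker pC)
    change Ideal.comap _ J = _ at h
    rw [htop, Ideal.comap_top] at h
    exact RingHom.ker_ne_top _ h.symm
  obtain ⟨z, hz⟩ := exists_point (k := k) J hJ
  exact ⟨z, AlgHom.ext fun f => sub_eq_zero.mp (by
    have hm : f - algebraMap k _ (pC f) ∈ RingHom.ker pC := by
      rw [RingHom.mem_ker, map_sub, AlgHom.commutes, Algebra.algebraMap_self_apply, sub_self]
    have := hz (Ideal.mem_map_of_mem _ hm)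
    rw [RingHom.mem_ker] at this
    rw [AlgHom.comp_apply]
    simpa [map_sub] using this)⟩

theorem exists_lift_point (pC : GLin.invariants k A (LB q) →ₐ[k] k) :
    ∃ φ₀ : GB n k →ₐ[k] k, ∀ (f : GB n k) (hf : InvC q f), pC ⟨toLB q f, hf⟩ = φ₀ f := by
  obtain ⟨z, hz⟩ := exists_lift_point' q hα h1 pC
  exact ⟨z.comp (toLB q).toAlgHom, fun f hf => (AlgHom.congr_fun hz ⟨toLB q f, hf⟩).symm⟩

theorem apply_eq_zero_of_e1 (p : GLin.invariants k A (R ⊗[k] LB q) →ₐ[k] k)
    (hp : ∀ (f : GB n k) (hf : InvC q f), p ⟨_, inR_mem q hf⟩ = ev1 f)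
    (F : GLin.invariants k A (R ⊗[k] LB q)) (hF : e1 q (F : R ⊗[k] LB q) = 0) : p F = 0 := by
  classical
  obtain ⟨r, P, δ, hP, -, hδ, hJ⟩ := exists_localizer q hα h1 hq
  let π : LB q →ₐ[k] A := (qH q).comp (toLB q).symm.toAlgHom
  have hπ : Algebra.TensorProduct.map (AlgHom.id k R) π (F : R ⊗[k] LB q) = 0 := by
    let ξ : R →ₐ[k] R ⊗[k] A := Algebra.TensorProduct.includeLeft
    let g : A →ₐ[k] R ⊗[k] A := Algebra.TensorProduct.includeRight
    have hmv : mv ξ g = GLin.coactAlgHom k A R := by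
      refine AlgHom.ext fun f => ?_
      show Algebra.TensorProduct.lift ξ g (fun _ _ => .all _ _) (GLin.coactAlgHom k A R f) = _
      rw [show Algebra.TensorProduct.lift ξ g (fun _ _ => .all _ _) = AlgHom.id k (R ⊗[k] A) from
        Algebra.TensorProduct.ext' fun a b => by simp [ξ, g]]
      rfl
    let h : GB n k →ₐ[k] R ⊗[k] A := (Algebra.ofId k _).comp (Bialgebra.counitAlgHom k (GB n k))
    have e := pev_inv q F.2 ξ g (h := h) (h' := g.comp (qH q)) (by
      rw [matP_counit, Matrix.mul_one])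
    have l1 : pev q (mv ξ g) h = (GLin.coactAlgHom k A R).comp (e1 q) := by
      rw [hmv, e1, comp_pev]
      congr 1
      exact AlgHom.ext fun b => ((GLin.coactAlgHom k A R).commutes _).symm
    have l2 : pev q ξ (g.comp (qH q)) = Algebra.TensorProduct.map (AlgHom.id k R) π :=
      Algebra.TensorProduct.ext' fun a b => by
        obtain ⟨b, rfl⟩ := (toLB q).surjective b
        rw [pev_tmul]
        simp [ξ, g, π]
    rw [l2, l1, AlgHom.comp_apply, hF, map_zero] at e
    exact e.symm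
  have hmem : (F : R ⊗[k] LB q) ∈ Ideal.map (Algebra.TensorProduct.includeRight : LB q →ₐ[k] R ⊗[k] LB q)
      (RingHom.ker π) := by
    rw [← Algebra.TensorProduct.lTensor_ker π hq]
    exact hπ
  let J : Ideal (R ⊗[k] LB q) := Ideal.span (Set.range fun j => (1 : R) ⊗ₜ[k] toLB q (P j))
  obtain ⟨G, hG⟩ : ∃ G, G = (F : R ⊗[k] LB q) := ⟨_, rfl⟩
  rw [← hG] at hmem
  have hFδ : (F : R ⊗[k] LB q) * ((1 : R) ⊗ₜ[k] toLB q δ) ∈ J := by
    rw [_root_.mul_comm, ← hG]
    clear hG
    induction hmem using Submodule.span_induction with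
    | zero => rw [mul_zero]; exact J.zero_mem
    | add a b _ _ ha hb => rw [mul_add]; exact J.add_mem ha hb
    | smul c a _ ha => rw [smul_eq_mul, mul_left_comm]; exact J.mul_mem_left c ha
    | mem z hz =>
      obtain ⟨i, hi, rfl⟩ := hz
      obtain ⟨i, rfl⟩ := (toLB q).surjective i
      rw [Algebra.TensorProduct.includeRight_apply, Algebra.TensorProduct.tmul_mul_tmul, _root_.one_mul, ← map_mul]
      obtain ⟨u, hu⟩ := (Submodule.mem_span_range_iff_exists_fun (GB n k)).mp (hJ i hi)
      rw [← hu, map_sum, TensorProduct.tmul_sum]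
      refine Submodule.sum_mem _ fun j _ => ?_
      rw [smul_eq_mul, map_mul, show (1 : R) ⊗ₜ[k] (toLB q (u j) * toLB q (P j)) =
        ((1 : R) ⊗ₜ[k] toLB q (u j)) * ((1 : R) ⊗ₜ[k] toLB q (P j)) by
          rw [Algebra.TensorProduct.tmul_mul_tmul, _root_.one_mul]]
      exact J.mul_mem_left _ (Ideal.subset_span ⟨j, rfl⟩)
  obtain ⟨u, hu⟩ := (Submodule.mem_span_range_iff_exists_fun (R ⊗[k] LB q)).mp hFδ
  have hrey : rey α ((1 : R) ⊗ₜ[k] toLB q δ) = (1 : R) ⊗ₜ[k] toLB q (reyC q α δ) :=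
    (map_rey (isComodHom_inR q) (toLB q δ)).symm.trans rfl
  have he := congrArg (rey α : (R ⊗[k] LB q) →ₗ[k] (R ⊗[k] LB q)) hu
  rw [map_sum, _root_.mul_comm, rey_mul_invariant _ F.2, hrey] at he
  simp only [smul_eq_mul, rey_mul_invariant _ (inR_mem q (hP _).1)] at he
  have he' : (∑ j, (⟨_, rey_mem_fixedPts hα (u j)⟩ : GLin.invariants k A (R ⊗[k] LB q)) *
      ⟨_, inR_mem q (hP j).1⟩) = ⟨_, inR_mem q (invC_reyC q hα δ)⟩ * F := by
    refine Subtype.ext ?_
    rw [AddSubmonoidClass.coe_finsetSum]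
    exact he
  have hp' := congrArg p he'
  rw [map_sum, map_mul, (hp _ (invC_reyC q hα δ)).trans (ev1_reyC q h1 hδ), _root_.one_mul] at hp'
  rw [← hp']
  refine Finset.sum_eq_zero fun j _ => ?_
  rw [map_mul, (hp _ (hP j).1).trans (hP j).2, mul_zero]

/-- A point of the quotient killing the functions vanishing on a closed orbit lies on that orbit. -/
theorem exists_orbit_point [Algebra.FiniteType k R] {y : R →ₐ[k] k} (hy : GLin.IsClosedOrbit k A y)
    (p : GLin.invariants k A (R ⊗[k] LB q) →ₐ[k] k)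
    (hp : ∀ F : GLin.invariants k A (R ⊗[k] LB q),
      (∀ φ : GB n k →ₐ[k] k, pev q y φ (F : R ⊗[k] LB q) = 0) → p F = 0) :
    ∃ (g : A →ₐ[k] k) (φ₀ : GB n k →ₐ[k] k),
      (∀ (f : GB n k) (hf : InvC q f), p ⟨_, inR_mem q hf⟩ = φ₀ f) ∧
      ∀ (φ : GB n k →ₐ[k] k), matP φ = Gq q g * matP φ₀ →
        ∀ F : GLin.invariants k A (R ⊗[k] LB q), p F = pev q y φ (F : R ⊗[k] LB q) := by
  classical
  haveI : Algebra.FiniteType k (GB n k) := finiteType_GB
  obtain ⟨φ₀, hφ₀'⟩ := exists_lift_point q hα h1 hq (p.comp (invIn (R := R) q))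
  have hφ₀ : ∀ (f : GB n k) (hf : InvC q f), p ⟨_, inR_mem q hf⟩ = φ₀ f :=
    fun f hf => Eq.trans (congrArg p (Subtype.ext rfl)) (hφ₀' f hf)
  have hMinv : IsUnit ((matP φ₀)⁻¹).det := Matrix.isUnit_nonsing_inv_det_iff.mpr (isUnit_det_matP φ₀)
  let p' : GLin.invariants k A (R ⊗[k] LB q) →ₐ[k] k :=
    p.comp (AlgHom.codRestrict ((rtP q _ hMinv).comp (GLin.invariants k A (R ⊗[k] LB q)).val) _
      fun F => rtP_mem q _ hMinv F.2)
  have hp' : ∀ (f : GB n k) (hf : InvC q f), p' ⟨_, inR_mem q hf⟩ = ev1 f := fun f hf => by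
    let rt : GB n k →ₐ[k] GB n k := glPt (CoordGrp.GLn.genMat n k * ((matP φ₀)⁻¹).map (algebraMap k (GB n k)))
      (isUnit_det_mul (by rw [← CoordGrp.GLn.det_eq]; exact IsUnit.of_mul_eq_one _ CoordGrp.GLn.det_mul_Dinv)
        (isUnit_det_map (Algebra.ofId k _) hMinv))
    have hev : ∀ φ : GB n k →ₐ[k] k, matP (φ.comp rt) = matP φ * (matP φ₀)⁻¹ := fun φ => by
      rw [matP_comp, show matP rt = _ from matP_glPt _ _, Matrix.map_mul]
      congr 1
      exact Matrix.ext fun i j => φ.commutes _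
    have hrf : InvC q (rt f) := (invC_iff q).mpr fun g φ φ' e => by
      rw [← AlgHom.comp_apply, ← AlgHom.comp_apply]
      exact (invC_iff q).mp hf g (φ.comp rt) (φ'.comp rt) (by rw [hev, hev, e, Matrix.mul_assoc])
    have he : (⟨_, rtP_mem q _ hMinv (inR_mem q (R := R) hf)⟩ : GLin.invariants k A (R ⊗[k] LB q)) =
        ⟨_, inR_mem q hrf⟩ := Subtype.ext (Algebra.TensorProduct.map_tmul _ _ _ _)
    refine (congrArg p he).trans ((hφ₀ _ hrf).trans ?_)
    rw [← AlgHom.comp_apply]
    refine AlgHom.congr_fun (algHom_ext' ?_) f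
    rw [hev, matP_ev1, Matrix.mul_nonsing_inv _ (isUnit_det_matP φ₀)]
  choose σ hσ using hq
  obtain ⟨σl, hσl⟩ := (qH q).toLinearMap.exists_rightInverse_of_surjective
    (LinearMap.range_eq_top.mpr fun a => ⟨σ a, hσ a⟩)
  have hσl' : ∀ a, qH q (σl a) = a := LinearMap.congr_fun hσl
  let θ : R →ₗ[k] GLin.invariants k A (R ⊗[k] LB q) :=
    LinearMap.codRestrict (GLin.invariants k A (R ⊗[k] LB q)).toSubmodule (theta q R α σl) (theta_mem q hα σl)
  have hker : ∀ F F' : GLin.invariants k A (R ⊗[k] LB q), e1 q (F : R ⊗[k] LB q) = e1 q (F' : R ⊗[k] LB q) →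
      p' F = p' F' := fun F F' h => sub_eq_zero.mp (by
    rw [← map_sub]
    refine apply_eq_zero_of_e1 q hα h1 (fun a => ⟨σ a, hσ a⟩) p' hp' _ ?_
    rw [AddSubgroupClass.coe_sub, map_sub, h, sub_self])
  have hθ : ∀ r, e1 q (θ r : R ⊗[k] LB q) = r := e1_theta q h1 hσl'
  let x' : R →ₐ[k] k := AlgHom.ofLinearMap (p'.toLinearMap ∘ₗ θ)
    ((hker _ 1 (by rw [hθ, OneMemClass.coe_one, map_one])).trans (map_one p'))
    (fun a b => (hker _ (θ a * θ b) (by rw [hθ, MulMemClass.coe_mul, map_mul, hθ, hθ])).trans (map_mul p' _ _))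
  have hx' : GLin.InOrbitClosure k A y x' := fun r hr => by
    refine hp _ fun φ => ?_
    have h0 : Algebra.TensorProduct.map (GLin.orbitHom k A y) (AlgHom.id k (LB q)) (theta q R α σl r) = 0 :=
      map_theta_eq_zero q (GLin.orbitHom k A y) (Bialgebra.comulAlgHom k A)
        (AlgHom.ext fun f => by
          have h := LinearMap.congr_fun (isComodHom_orbitHom (A := A) y) f
          refine Eq.trans ?_ h.symm
          show _ = (GLin.orbitHom k A y).toLinearMap.rTensor A _
          rw [AlgHom.comp_apply, GLin.coactAlgHom_apply]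
          induction HopfRep.Comod.coact (k := k) (A := A) f using TensorProduct.induction_on with
          | zero => simp
          | add a b ha hb => simp only [map_add, ha, hb]
          | tmul a b => simp) α σl hr
    have hcomp : ∀ ψ : GB n k →ₐ[k] k, pev q y ψ =
        (Algebra.TensorProduct.lift (Bialgebra.counitAlgHom k A) (lbPt q ψ) fun _ _ => .all _ _).comp
          (Algebra.TensorProduct.map (GLin.orbitHom k A y) (AlgHom.id k (LB q))) := fun ψ =>
      Algebra.TensorProduct.ext' fun a b => by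
        simp [pev, counit_orbitHom]
    show pev q y φ (rtP q _ hMinv (theta q R α σl r)) = 0
    rw [← AlgHom.comp_apply, pev_rtP, hcomp, AlgHom.comp_apply, h0, map_zero]
  obtain ⟨g, hg⟩ := mem_orbit_of_isClosedOrbit hy hx'
  refine ⟨g, φ₀, hφ₀, fun φ hφ F => ?_⟩
  let F₁ : GLin.invariants k A (R ⊗[k] LB q) := ⟨_, rtP_mem q _ (isUnit_det_matP φ₀) F.2⟩
  have hF₁ : p' F₁ = p F := by
    refine congrArg p (Subtype.ext ?_)
    show rtP q _ hMinv (rtP q _ (isUnit_det_matP φ₀) (F : R ⊗[k] LB q)) = F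
    exact rtP_rtP q _ _ _ _ (Matrix.nonsing_inv_mul _ (isUnit_det_matP φ₀)) _
  have h2 : p' F₁ = x' (e1 q (F₁ : R ⊗[k] LB q)) := hker _ _ (hθ _).symm
  rw [← hF₁, h2, hg]
  show (GLin.actPt k g y).comp (e1 q) (F₁ : R ⊗[k] LB q) = _
  have hmv : GLin.actPt k g y = mv ((Algebra.ofId k k).comp y) g := (mv_orbit (T := k) y g).symm
  rw [e1, comp_pev, hmv, AlgHom.comp_id, pev_inv q F₁.2 _ g (h' := g.comp (qH q)) (by
    rw [show ((mv ((Algebra.ofId k k).comp y) g).comp ((Algebra.ofId k R).comp (Bialgebra.counitAlgHom k (GB n k)))) =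
      (Algebra.ofId k k).comp (Bialgebra.counitAlgHom k (GB n k)) from AlgHom.ext fun b => by
        simp only [AlgHom.comp_apply, Algebra.ofId_apply, AlgHom.commutes],
      matP_counit, Matrix.mul_one])]
  show (pev q ((Algebra.ofId k k).comp y) (g.comp (qH q))).comp (rtP q _ (isUnit_det_matP φ₀)) (F : R ⊗[k] LB q) = _
  rw [pev_rtP]
  refine AlgHom.congr_fun (congrArg₂ (pev q) (AlgHom.ext fun r => rfl) (algHom_ext' ?_)) _
  rw [matP_glPt, hφ, Algebra.algebraMap_self, RingHom.coe_id, Matrix.map_id]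
  rfl

end Groth.Agent.HMCrit
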