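import Groth.Agent.HMCrit.Main
import Groth.Agent.SmoothFormLib.Valuative
import Groth.Agent.FormsSLLib.HM
import Groth.Agent.ComodLib.Orbits
import Mathlib.LinearAlgebra.FreeModule.PID
import Mathlib.RingTheory.Valuation.ValuationSubring

/-!
# Curves realising points of an orbit closure
-/

set_option autoImplicit false
set_option linter.unusedSectionVars false
set_option linter.unusedVariables false
set_option linter.style.haveILetI false

universe u v

open TensorProduct

namespace Groth.Agent.HMCrit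

section PosHom

variable {L : Type} [AddCommGroup L] [Module.Free ℤ L]

/-- A semigroup avoiding zero is strictly positive, on each finite subset, for some linear form. -/
theorem exists_pos_hom (S : Set L) (hadd : ∀ a ∈ S, ∀ b ∈ S, a + b ∈ S) (h0 : (0 : L) ∉ S) :
    ∀ P : Finset L, (↑P : Set L) ⊆ S → ∃ g : L →+ ℤ, ∀ p ∈ P, 0 < g p := by
  classical
  have hmul : ∀ (m : ℕ) (x : L), x ∈ S → (m + 1) • x ∈ S := by
    intro m x hx
    induction m with
    | zero => simpa using hx
    | succ m ih => rw [succ_nsmul]; exact hadd _ ih _ hx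
  suffices h : ∀ N, ∀ P : Finset L, P.card ≤ N → (↑P : Set L) ⊆ S → ∃ g : L →+ ℤ, ∀ p ∈ P, 0 < g p from
    fun P => h P.card P le_rfl
  intro N
  induction N with
  | zero =>
    intro P hP _
    exact ⟨0, fun p hp => absurd (Finset.card_pos.mpr ⟨p, hp⟩) (by omega)⟩
  | succ N ih =>
    intro P hP hPS
    rcases P.eq_empty_or_nonempty with rfl | ⟨q, hq⟩
    · exact ⟨0, fun p hp => absurd hp (Finset.notMem_empty p)⟩
    have hqS : q ∈ S := hPS hq
    have hcard : (P.erase q).card ≤ N := by rw [Finset.card_erase_of_mem hq]; omega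
    obtain ⟨g, hg⟩ := ih _ hcard fun p hp => hPS (Finset.mem_of_mem_erase (Finset.mem_coe.mp hp))
    rcases lt_or_ge 0 (g q) with hgq | hgq
    · refine ⟨g, fun p hp => ?_⟩
      by_cases h : p = q
      · exact h ▸ hgq
      · exact hg p (Finset.mem_erase.mpr ⟨h, hp⟩)
    let f : L → L := fun p => g p • q + (-g q) • p
    have hf : ∀ p ∈ P.erase q, f p ∈ S := by
      intro p hp
      obtain ⟨m, hm⟩ : ∃ m : ℕ, g p = ((m + 1 : ℕ) : ℤ) := ⟨(g p).toNat - 1, by have := hg p hp; omega⟩
      obtain ⟨c, hc⟩ : ∃ c : ℕ, -g q = (c : ℤ) := ⟨(-g q).toNat, by omega⟩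
      show g p • q + (-g q) • p ∈ S
      rw [hm, hc, natCast_zsmul, natCast_zsmul]
      rcases c with _ | c
      · rw [zero_smul, add_zero]; exact hmul m q hqS
      · exact hadd _ (hmul m q hqS) _ (hmul c p (hPS (Finset.mem_of_mem_erase hp)))
    obtain ⟨h, hh⟩ := ih ((P.erase q).image f) (le_trans Finset.card_image_le hcard) fun z hz => by
      obtain ⟨p, hp, rfl⟩ := Finset.mem_image.mp (Finset.mem_coe.mp hz)
      exact hf p hp
    let g' : L →+ ℤ := (-g q) • h + h q • g
    have hg'q : g' q = 0 := by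
      simp only [g', AddMonoidHom.add_apply, AddMonoidHom.smul_apply, smul_eq_mul]
      ring
    have hg'p : ∀ p ∈ P.erase q, 0 < g' p := fun p hp => by
      have h1 := hh (f p) (Finset.mem_image_of_mem f hp)
      simp only [f, map_add, map_zsmul, smul_eq_mul] at h1
      simp only [g', AddMonoidHom.add_apply, AddMonoidHom.smul_apply, smul_eq_mul]
      linarith
    obtain ⟨u, hu⟩ : ∃ u : L →+ ℤ, 0 < u q := by
      let b := Module.Free.chooseBasis ℤ L
      obtain ⟨i, hi⟩ : ∃ i, b.repr q i ≠ 0 := by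
        by_contra hne
        simp only [ne_eq, not_exists, not_not] at hne
        refine h0 ?_
        rwa [← show q = 0 from b.repr.map_eq_zero_iff.mp (Finsupp.ext hne)]
      rcases lt_or_gt_of_ne hi with hi' | hi'
      · exact ⟨-(b.coord i).toAddMonoidHom, by simpa using hi'⟩
      · exact ⟨(b.coord i).toAddMonoidHom, by simpa using hi'⟩
    refine ⟨(1 + ∑ p ∈ P, |u p|) • g' + u, fun p hp => ?_⟩
    rw [AddMonoidHom.add_apply, AddMonoidHom.smul_apply, smul_eq_mul]
    by_cases hpq : p = q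
    · rw [hpq, hg'q, mul_zero, zero_add]; exact hu
    · have h1 := hg'p p (Finset.mem_erase.mpr ⟨hpq, hp⟩)
      have h2 : |u p| ≤ ∑ p ∈ P, |u p| := Finset.single_le_sum (f := fun p => |u p|) (fun i _ => abs_nonneg _) hp
      have h3 := neg_abs_le (u p)
      have h4 : (1 + ∑ p ∈ P, |u p|) * 1 ≤ (1 + ∑ p ∈ P, |u p|) * g' p :=
        mul_le_mul_of_nonneg_left h1 (add_nonneg zero_le_one (Finset.sum_nonneg fun i _ => abs_nonneg _))
      linarith

end PosHom

section Weight

variable {n : ℕ}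

/-- The standard weights. -/
def stdW (n : ℕ) (i : Fin n) : Fin n → ℤ := Pi.single i 1

/-- The pairing with a weight vector. -/
def dot (a : Fin n → ℤ) : (Fin n → ℤ) →+ ℤ where
  toFun m := ∑ i, a i * m i
  map_zero' := by simp
  map_add' m m' := by simp [mul_add, Finset.sum_add_distrib]

theorem dot_stdW (a : Fin n → ℤ) (i : Fin n) : dot a (stdW n i) = a i := by
  show ∑ j, a j * stdW n i j = a i
  simp [stdW, Pi.single_apply]

theorem eq_dot (g : (Fin n → ℤ) →+ ℤ) : g = dot fun i => g (stdW n i) := by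
  refine AddMonoidHom.ext fun m => ?_
  conv_lhs => rw [← Finset.univ_sum_single m, map_sum]
  refine Finset.sum_congr rfl fun i _ => ?_
  rw [show Pi.single i (m i) = m i • stdW n i by rw [stdW, ← Pi.single_smul, smul_eq_mul, _root_.mul_one],
    map_zsmul, smul_eq_mul, _root_.mul_comm]

variable {Γ : Type v} [LinearOrderedCommGroupWithZero Γ]

/-- A weight vector with the signs of a valuation on finitely many characters. -/
theorem exists_weight (f : Multiplicative (Fin n → ℤ) →* Γ) (P : Finset (Fin n → ℤ)) :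
    ∃ a : Fin n → ℤ, (∀ m, f (Multiplicative.ofAdd m) = 1 → dot a m = 0) ∧
      ∀ m ∈ P, f (Multiplicative.ofAdd m) < 1 → 0 < dot a m := by
  classical
  let L0 : Submodule ℤ (Fin n → ℤ) :=
    AddSubgroup.toIntSubmodule
      { carrier := {m | f (Multiplicative.ofAdd m) = 1}
        zero_mem' := map_one f
        add_mem' := fun {a b} (ha : f _ = 1) (hb : f _ = 1) => by
          show f (Multiplicative.ofAdd a * Multiplicative.ofAdd b) = 1
          rw [map_mul, ha, hb, _root_.mul_one]
        neg_mem' := fun {a} (ha : f _ = 1) => by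
          have h := congrArg f (inv_mul_cancel (Multiplicative.ofAdd a))
          rw [map_mul, ha, _root_.mul_one, map_one] at h
          exact h }
  have hL0 : ∀ m, m ∈ L0 ↔ f (Multiplicative.ofAdd m) = 1 := fun m => Iff.rfl
  let mk := L0.mkQ
  haveI : IsAddTorsionFree ((Fin n → ℤ) ⧸ L0) := by
    refine ⟨fun N hN z z' h => ?_⟩
    obtain ⟨m, rfl⟩ := L0.mkQ_surjective z
    obtain ⟨m', rfl⟩ := L0.mkQ_surjective z'
    change N • L0.mkQ m = N • L0.mkQ m' at h
    rw [← sub_eq_zero, ← nsmul_sub, ← map_sub, ← map_nsmul] at h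
    have h1 : f (Multiplicative.ofAdd (m - m')) ^ N = 1 := by
      rw [← map_pow, ← ofAdd_nsmul]
      exact (hL0 _).mp ((Submodule.Quotient.mk_eq_zero _).mp h)
    rw [← sub_eq_zero, ← map_sub]
    exact (Submodule.Quotient.mk_eq_zero _).mpr ((hL0 _).mpr ((pow_eq_one_iff_of_nonneg zero_le' hN).mp h1))
  haveI : Module.Free ℤ ((Fin n → ℤ) ⧸ L0) := Module.free_of_finite_type_torsion_free'
  obtain ⟨g, hg⟩ := exists_pos_hom (L0.mkQ '' {m | f (Multiplicative.ofAdd m) < 1})
    (by
      rintro _ ⟨m, hm, rfl⟩ _ ⟨m', hm', rfl⟩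
      refine ⟨m + m', ?_, map_add _ _ _⟩
      show f (Multiplicative.ofAdd m * Multiplicative.ofAdd m') < 1
      rw [map_mul]
      exact mul_lt_one_of_lt_of_le hm (le_of_lt hm'))
    (by
      rintro ⟨m, hm, h⟩
      exact absurd ((hL0 _).mp ((Submodule.Quotient.mk_eq_zero _).mp h)) (ne_of_lt hm))
    ((P.filter fun m => f (Multiplicative.ofAdd m) < 1).image L0.mkQ) (by
      rw [Finset.coe_image]
      exact Set.image_mono fun m hm => (Finset.mem_filter.mp (Finset.mem_coe.mp hm)).2)
  let g' : (Fin n → ℤ) →+ ℤ := g.comp L0.mkQ.toAddMonoidHom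
  refine ⟨fun i => g' (stdW n i), fun m hm => ?_, fun m hm hlt => ?_⟩
  · rw [← eq_dot g']
    show g (L0.mkQ m) = 0
    rw [show L0.mkQ m = 0 from (Submodule.Quotient.mk_eq_zero _).mpr ((hL0 m).mpr hm), map_zero]
  · rw [← eq_dot g']
    exact hg _ (Finset.mem_image_of_mem _ (Finset.mem_filter.mpr ⟨hm, hlt⟩))

/-- The characters which are units, or small and of positive weight. -/
def posMonoid (f : Multiplicative (Fin n → ℤ) →* Γ) (a : Fin n → ℤ)
    (ha0 : ∀ m, f (Multiplicative.ofAdd m) = 1 → dot a m = 0) : AddSubmonoid (Fin n → ℤ) where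
  carrier := {m | f (Multiplicative.ofAdd m) = 1 ∨ (f (Multiplicative.ofAdd m) < 1 ∧ 0 < dot a m)}
  zero_mem' := Or.inl (map_one f)
  add_mem' := fun {m m'} hm hm' => by
    have e : f (Multiplicative.ofAdd (m + m')) = f (Multiplicative.ofAdd m) * f (Multiplicative.ofAdd m') :=
      map_mul f (Multiplicative.ofAdd m) (Multiplicative.ofAdd m')
    have e' : dot a (m + m') = dot a m + dot a m' := map_add _ _ _
    rw [Set.mem_setOf_eq] at hm hm' ⊢
    rcases hm with hm | ⟨hm, hd⟩ <;> rcases hm' with hm' | ⟨hm', hd'⟩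
    · exact Or.inl (by rw [e, hm, hm', _root_.mul_one])
    · exact Or.inr ⟨by rw [e, hm, _root_.one_mul]; exact hm', by rw [e', ha0 m hm]; omega⟩
    · exact Or.inr ⟨by rw [e, hm', _root_.mul_one]; exact hm, by rw [e', ha0 m' hm']; omega⟩
    · exact Or.inr ⟨by rw [e]; exact mul_lt_one_of_lt_of_le hm hm'.le, by omega⟩

theorem mem_posMonoid {f : Multiplicative (Fin n → ℤ) →* Γ} {a : Fin n → ℤ}
    {ha0 : ∀ m, f (Multiplicative.ofAdd m) = 1 → dot a m = 0} {m : Fin n → ℤ} :
    m ∈ posMonoid f a ha0 ↔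
      f (Multiplicative.ofAdd m) = 1 ∨ (f (Multiplicative.ofAdd m) < 1 ∧ 0 < dot a m) := Iff.rfl

end Weight

section Support

variable {k : Type u} [Field k] {R : Type v} [CommRing R] [Algebra k R] {Λ : Type} [AddCommGroup Λ]

/-- Elements supported in a submonoid. -/
def suppAlg (M : AddSubmonoid Λ) : Subalgebra k (AddMonoidAlgebra R Λ) where
  carrier := {f | ∀ m, m ∉ M → f.coeff m = 0}
  mul_mem' := fun {f g} hf hg m hm => by
    classical
    rw [AddMonoidAlgebra.coeff_mul]
    refine Finset.sum_eq_zero fun i hi => Finset.sum_eq_zero fun j hj => if_neg fun hij => ?_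
    rw [Finsupp.mem_support_iff] at hi hj
    exact hm (hij ▸ M.add_mem (Classical.not_not.mp fun h => hi (hf i h)) (Classical.not_not.mp fun h => hj (hg j h)))
  add_mem' := fun {f g} hf hg m hm => by
    rw [AddMonoidAlgebra.coeff_add, Finsupp.add_apply, hf m hm, hg m hm, add_zero]
  algebraMap_mem' := fun c m hm => by
    classical
    rw [show algebraMap k (AddMonoidAlgebra R Λ) c = AddMonoidAlgebra.single (0 : Λ) (algebraMap k R c) from rfl,
      AddMonoidAlgebra.coeff_single, Finsupp.single_apply, if_neg fun (h : (0 : Λ) = m) => hm (h ▸ M.zero_mem)]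

theorem mem_suppAlg {M : AddSubmonoid Λ} {f : AddMonoidAlgebra R Λ} :
    f ∈ suppAlg (k := k) M ↔ ∀ m, m ∉ M → f.coeff m = 0 := Iff.rfl

/-- Substituting a weight for the monomials. -/
noncomputable def dotHom (g : Λ →+ ℤ) : AddMonoidAlgebra R Λ →ₐ[k] AddMonoidAlgebra R ℤ :=
  AddMonoidAlgebra.mapDomainAlgHom k R g

theorem dotHom_single (g : Λ →+ ℤ) (m : Λ) (r : R) :
    dotHom (k := k) g (AddMonoidAlgebra.single m r) = AddMonoidAlgebra.single (g m) r := by
  simp [dotHom]

theorem coeff_dotHom_eq_zero (g : Λ →+ ℤ) (f : AddMonoidAlgebra R Λ) (i : ℤ)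
    (h : ∀ m, g m = i → f.coeff m = 0) : (dotHom (k := k) g f).coeff i = 0 := by
  classical
  rw [← AddMonoidAlgebra.sum_coeff_single f, Finsupp.sum, map_sum, AddMonoidAlgebra.coeff_sum, Finsupp.finsetSum_apply]
  refine Finset.sum_eq_zero fun m _ => ?_
  rw [dotHom_single, AddMonoidAlgebra.coeff_single, Finsupp.single_apply]
  split_ifs with e
  · exact h m e
  · rfl

theorem coeff_zero_mul (f g : AddMonoidAlgebra R ℤ) (hf : ∀ i, i < 0 → f.coeff i = 0)
    (hg : ∀ i, i < 0 → g.coeff i = 0) : (f * g).coeff 0 = f.coeff 0 * g.coeff 0 := by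
  classical
  rw [AddMonoidAlgebra.coeff_mul, Finsupp.sum, Finset.sum_eq_single (0 : ℤ)]
  · rw [Finsupp.sum, Finset.sum_eq_single (0 : ℤ)]
    · simp
    · intro j _ hj
      exact if_neg (by omega)
    · intro h
      rw [Finsupp.notMem_support_iff] at h
      simp [h]
  · intro i hi hi0
    refine Finset.sum_eq_zero fun j hj => if_neg fun hij => ?_
    rw [Finsupp.mem_support_iff] at hi hj
    have h5 : 0 ≤ i := not_lt.mp fun h => hi (hf i h)
    have h6 : 0 ≤ j := not_lt.mp fun h => hj (hg j h)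
    omega
  · intro h
    rw [Finsupp.notMem_support_iff] at h
    simp [h]

end Support

section Torus

variable {k : Type u} [Field k] {n : ℕ} {T T' : Type u} [CommRing T] [Algebra k T] [CommRing T'] [Algebra k T']

theorem mapAlgHom_comp_torR {Λ : Type} [AddCommGroup Λ] (f : T →ₐ[k] T') (h : GB n k →ₐ[k] T) (w : Fin n → Λ) :
    (AddMonoidAlgebra.mapAlgHom Λ f).comp (torR h w) = torR (f.comp h) w := by
  refine algHom_ext' (Matrix.ext fun i j => ?_)
  rw [matP_apply, matP_apply, AlgHom.comp_apply, torR_X, torR_X]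
  exact AddMonoidAlgebra.map_single _ _ _

theorem dotHom_comp_torR (a : Fin n → ℤ) (h : GB n k →ₐ[k] T) :
    (dotHom (k := k) (dot a)).comp (torR h (stdW n)) = torR h a := by
  refine algHom_ext' (Matrix.ext fun i j => ?_)
  rw [matP_apply, matP_apply, AlgHom.comp_apply, torR_X, torR_X, dotHom_single, dot_stdW]

variable {A : Type u} [CommRing A] [HopfAlgebra k A] (q : GB n k →ₐc[k] A)
variable {R : Type u} [CommRing R] [Algebra k R] [HopfRep.Comod k A R] [GLin.IsCoactAlg k A R]

/-- Values along the torus through a point. -/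
noncomputable def torEval (x : R →ₐ[k] T) (h : GB n k →ₐ[k] T) : R ⊗[k] LB q →ₐ[k] AddMonoidAlgebra T (Fin n → ℤ) :=
  pev q ((cst (k := k) (Λ := Fin n → ℤ)).comp x) (torR h (stdW n))

theorem mapAlgHom_comp_torEval (f : T →ₐ[k] T') (x : R →ₐ[k] T) (h : GB n k →ₐ[k] T) :
    (AddMonoidAlgebra.mapAlgHom (Fin n → ℤ) f).comp (torEval q x h) = torEval q (f.comp x) (f.comp h) := by
  rw [torEval, comp_pev, mapAlgHom_comp_torR]
  refine congrArg₂ (pev q) (AlgHom.ext fun r => ?_) rfl
  exact AddMonoidAlgebra.map_single _ _ _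

theorem coeff_torEval_map (f : T →ₐ[k] T') (x : R →ₐ[k] T) (h : GB n k →ₐ[k] T) (F : R ⊗[k] LB q)
    (m : Fin n → ℤ) : f ((torEval q x h F).coeff m) = (torEval q (f.comp x) (f.comp h) F).coeff m := by
  rw [← mapAlgHom_comp_torEval, AlgHom.comp_apply]
  rfl

theorem lineHom_eq_dotHom (x : R →ₐ[k] k) (φ : GB n k →ₐ[k] k) (a : Fin n → ℤ) :
    lineHom q x φ a = (dotHom (k := k) (dot a)).comp (torEval q x φ) := by
  rw [torEval, comp_pev, dotHom_comp_torR, lineHom]
  refine congrArg₂ (pev q) (AlgHom.ext fun r => ?_) rfl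
  show algebraMap k (AddMonoidAlgebra k ℤ) (x r) = dotHom (k := k) (dot a) (cst (k := k) (Λ := Fin n → ℤ) (x r))
  rw [cst_apply, dotHom_single, map_zero]
  rfl

end Torus

section Curve

variable {k : Type u} [Field k] [IsAlgClosed k] [CharZero k] {n : ℕ}
variable {A : Type u} [CommRing A] [HopfAlgebra k A] [Algebra.FiniteType k A] (q : GB n k →ₐc[k] A)
variable {R : Type u} [CommRing R] [Algebra k R] [Algebra.FiniteType k R] [HopfRep.Comod k A R]
  [GLin.IsCoactAlg k A R]

/-- Translating a torus line by a point of the group. -/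
theorem torEval_translate {K : Type u} [Field K] [Algebra k K] (x : R →ₐ[k] k) (η : A →ₐ[k] K)
    (h h' : GB n k →ₐ[k] K) (d : Fin n → K) (χ : Multiplicative (Fin n → ℤ) →* K)
    (hχ : ∀ i, χ (Multiplicative.ofAdd (stdW n i)) = d i)
    (e : Gq q η * matP h = matP h' * Matrix.diagonal d)
    {F : R ⊗[k] LB q} (hF : F ∈ GLin.invariants k A (R ⊗[k] LB q)) (m : Fin n → ℤ) :
    (torEval q (η.comp (GLin.orbitHom k A x)) h F).coeff m =
      (torEval q (constPt K x) h' F).coeff m * χ (Multiplicative.ofAdd m) := by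
  have hd : IsUnit (matP h' * Matrix.diagonal d).det := by
    rw [← e]; exact isUnit_det_mul (isUnit_det_Gq q η) (isUnit_det_matP h)
  let h'' : GB n k →ₐ[k] K := glPt (matP h' * Matrix.diagonal d) hd
  have h1 : matP h'' = matP h' * Matrix.diagonal fun i => χ (Multiplicative.ofAdd (stdW n i)) := by
    rw [matP_glPt]; simp only [hχ]
  let T := AddMonoidAlgebra K (Fin n → ℤ)
  let ci : K →ₐ[k] T := cst
  have h2 : (ci.comp (η.comp (GLin.orbitHom k A x))) = mv (constPt T x) (ci.comp η) := (mv_orbit x (ci.comp η)).symm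
  have h3 : matP (torR h'' (stdW n)) = matP ((ci.comp η).comp (qH q)) * matP (torR h (stdW n)) := by
    rw [torR, torR, matP_glPt, matP_glPt, matP_glPt, AlgHom.comp_assoc, matP_comp, ← Matrix.mul_assoc, ← Matrix.map_mul]
    congr 2
    exact e.symm
  rw [torEval, h2, pev_inv q hF _ _ h3, torR_eq_scaleHom χ h' h'' (stdW n) h1]
  have h4 : pev q (constPt T x) ((scaleHom χ).comp (torR h' (stdW n))) =
      (scaleHom (k := k) χ).comp (torEval q (constPt K x) h') := by
    rw [torEval, comp_pev]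
    refine congrArg₂ (pev q) (AlgHom.ext fun r => ?_) rfl
    show algebraMap k T (x r) = scaleHom (k := k) χ (cst (k := k) (Λ := Fin n → ℤ) (algebraMap k K (x r)))
    rw [AlgHom.commutes, AlgHom.commutes]
  rw [h4, AlgHom.comp_apply, coeff_scaleHom]

variable {α : A →ₗ[k] k} (hα : ComodLib.IsIntegral k α) (h1 : α 1 = 1)

include hα h1

/-- Curves from valuations on the group. -/
theorem exists_curve_of_val (x y : R →ₐ[k] k) {K : Type u} [Field K] [Algebra k K] (η : A →ₐ[k] K)
    (V : ValuationSubring K) (hV : ∀ r, η (GLin.orbitHom k A x r) ∈ V)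
    (hV' : ∀ r ∈ RingHom.ker y, η (GLin.orbitHom k A x r) ∈ V.nonunits) :
    ∃ (φb : GB n k →ₐ[k] k) (a : Fin n → ℤ) (p : GLin.invariants k A (R ⊗[k] LB q) →ₐ[k] k),
      (∀ F : GLin.invariants k A (R ⊗[k] LB q), ∀ i, i < 0 →
        (lineHom q x φb a (F : R ⊗[k] LB q)).coeff i = 0) ∧
      (∀ F : GLin.invariants k A (R ⊗[k] LB q), p F = (lineHom q x φb a (F : R ⊗[k] LB q)).coeff 0) ∧
      (∀ F : GLin.invariants k A (R ⊗[k] LB q),
        (∀ φ : GB n k →ₐ[k] k, pev q y φ (F : R ⊗[k] LB q) = 0) → p F = 0) ∧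
      (a = 0 → ∀ z, η (qH q z) ∈ V) := by
  classical
  haveI : Algebra.FiniteType k (GB n k) := finiteType_GB
  haveI : Algebra.FiniteType k (LB q) := (inferInstance : Algebra.FiniteType k (GB n k)).equiv (toLB q)
  let o : R →ₐ[k] A := GLin.orbitHom k A x
  have hVk : ∀ c : k, algebraMap k K c ∈ V := fun c => by
    have h' := hV (algebraMap k R c)
    rwa [AlgHom.commutes, AlgHom.commutes] at h'
  letI : Algebra k V := ((algebraMap k K).codRestrict V.toSubring hVk).toAlgebra
  let sub : V →ₐ[k] K := { V.subtype with commutes' := fun c => rfl }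
  let res : V →ₐ[k] IsLocalRing.ResidueField V :=
    { IsLocalRing.residue V with commutes' := fun c => rfl }
  let ξ : R →ₐ[k] V :=
    { (η.comp o).toRingHom.codRestrict V.toSubring hV with
      commutes' := fun c => Subtype.ext ((η.comp o).commutes c) }
  have hξ : sub.comp ξ = η.comp o := AlgHom.ext fun r => rfl
  have hres : res.comp ξ = constPt _ y := AlgHom.ext fun r => by
    have h0 : res (ξ (r - algebraMap k R (y r))) = 0 := by
      have hm : r - algebraMap k R (y r) ∈ RingHom.ker y := by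
        rw [RingHom.mem_ker, map_sub, AlgHom.commutes, Algebra.algebraMap_self_apply, sub_self]
      exact (FormsSLLib.map_nonunits _).mp (hV' _ hm)
    rw [map_sub, map_sub, AlgHom.commutes, AlgHom.commutes, sub_eq_zero] at h0
    exact h0
  obtain ⟨P, Q, d, hP, hQ, hPQ⟩ := SmoothFormLib.exists_diagonalisation V (Fin n) (Gq q η)
  rw [Matrix.isUnit_iff_isUnit_det] at hP hQ
  let pV : GB n k →ₐ[k] V := glPt P hP
  let rV : GB n k →ₐ[k] V := glPt Q⁻¹ (Matrix.isUnit_nonsing_inv_det_iff.mpr hQ)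
  have hd : ∀ i, d i ≠ 0 := fun i hi => by
    have h := isUnit_det_Gq q η
    rw [hPQ, Matrix.det_mul, Matrix.det_mul, Matrix.det_diagonal, Finset.prod_eq_zero (Finset.mem_univ i) hi] at h
    simp at h
  let χ : Multiplicative (Fin n → ℤ) →* K :=
    { toFun := fun m => ∏ i, d i ^ (Multiplicative.toAdd m i)
      map_one' := by simp
      map_mul' := fun a b => by
        rw [← Finset.prod_mul_distrib]
        exact Finset.prod_congr rfl fun i _ => by rw [toAdd_mul, Pi.add_apply, zpow_add₀ (hd i)] }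
  have hχ : ∀ i, χ (Multiplicative.ofAdd (stdW n i)) = d i := fun i => by
    show ∏ j, d j ^ (stdW n i j) = d i
    rw [Finset.prod_eq_single i (fun j _ hj => by rw [stdW, Pi.single_eq_of_ne hj, zpow_zero])
      (fun h => absurd (Finset.mem_univ _) h), stdW, Pi.single_eq_same, zpow_one]
  have hre : Gq q η * matP (sub.comp rV) = matP (sub.comp pV) * Matrix.diagonal d := by
    rw [matP_comp, matP_comp, matP_glPt, matP_glPt, hPQ, Matrix.mul_assoc]
    show _ * ((Q.map V.subtype) * (Q⁻¹).map V.subtype) = _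
    rw [← Matrix.map_mul, Matrix.mul_nonsing_inv _ hQ, Matrix.map_one _ (map_zero _) (map_one _), Matrix.mul_one]
    rfl
  let Av : R ⊗[k] LB q →ₐ[k] AddMonoidAlgebra V (Fin n → ℤ) := torEval q (constPt V x) pV
  let Ev : R ⊗[k] LB q →ₐ[k] AddMonoidAlgebra V (Fin n → ℤ) := torEval q ξ rV
  have hrel : ∀ F ∈ GLin.invariants k A (R ⊗[k] LB q), ∀ m,
      ((Ev F).coeff m : K) = ((Av F).coeff m : K) * χ (Multiplicative.ofAdd m) := fun F hF m => by
    show sub ((Ev F).coeff m) = sub ((Av F).coeff m) * _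
    rw [coeff_torEval_map, coeff_torEval_map, hξ, torEval_translate q x η _ _ d χ hχ hre hF m]
    refine congrArg (fun z : AddMonoidAlgebra K (Fin n → ℤ) => z.coeff m * _) ?_
    exact AlgHom.congr_fun (congrArg₂ (torEval q) (AlgHom.ext fun r => (sub.commutes _).symm) rfl) F
  let v := V.valuation
  let f : Multiplicative (Fin n → ℤ) →* V.ValueGroup := v.toMonoidWithZeroHom.toMonoidHom.comp χ
  let φr : GB n k →ₐ[k] IsLocalRing.ResidueField V := res.comp pV
  let U : R ⊗[k] LB q →ₐ[k] AddMonoidAlgebra (GB n k) (Fin n → ℤ) :=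
    torEval q (constPt (GB n k) x) (AlgHom.id k (GB n k))
  have hU : ∀ F m, φr ((U F).coeff m) = res ((Av F).coeff m) := fun F m => by
    rw [coeff_torEval_map, coeff_torEval_map]
    refine congrArg (fun z : AddMonoidAlgebra (IsLocalRing.ResidueField V) (Fin n → ℤ) => z.coeff m) ?_
    exact AlgHom.congr_fun (congrArg₂ (torEval q)
      (AlgHom.ext fun r => (φr.commutes _).trans (res.commutes _).symm) (AlgHom.comp_id _)) F
  have hres0 : ∀ z : V, res z = 0 ↔ v (z : K) < 1 := fun z => by
    rw [← ValuationSubring.mem_nonunits_iff]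
    exact (FormsSLLib.map_nonunits z).symm
  have hbig : ∀ F ∈ GLin.invariants k A (R ⊗[k] LB q), ∀ m, ¬ f (Multiplicative.ofAdd m) ≤ 1 →
      φr ((U F).coeff m) = 0 := fun F hF m hm => by
    rw [hU, hres0]
    by_contra hA
    have hE := (V.valuation_le_one_iff _).mpr ((Ev F).coeff m).2
    rw [hrel F hF m, map_mul] at hE
    exact hm (le_trans (le_mul_of_one_le_left' (not_lt.mp hA)) hE)
  let Kill : Set (R ⊗[k] LB q) :=
    {F | F ∈ GLin.invariants k A (R ⊗[k] LB q) ∧ ∀ φ : GB n k →ₐ[k] k, pev q y φ F = 0}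
  have hkill : ∀ F ∈ Kill, ∀ m, f (Multiplicative.ofAdd m) = 1 → φr ((U F).coeff m) = 0 := by
    rintro F ⟨hF, hy⟩ m hm
    rw [hU, hres0]
    have hG : pev q (constPt (GB n k) y) (AlgHom.id k (GB n k)) F = 0 := eq_of_forall_point fun φ => by
      rw [map_zero, ← AlgHom.comp_apply, comp_pev, AlgHom.comp_id]
      refine Eq.trans ?_ (hy φ)
      refine AlgHom.congr_fun (congrArg₂ (pev q) (AlgHom.ext fun r => ?_) rfl) _
      exact φ.commutes _
    have hz : torEval q (constPt (IsLocalRing.ResidueField V) y) (res.comp rV) F = 0 := by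
      let h := torR (res.comp rV) (stdW n)
      have e : torEval q (constPt (IsLocalRing.ResidueField V) y) (res.comp rV) =
          h.comp (pev q (constPt (GB n k) y) (AlgHom.id k (GB n k))) := by
        rw [torEval, comp_pev, AlgHom.comp_id]
        refine congrArg₂ (pev q) (AlgHom.ext fun r => ?_) rfl
        show cst (k := k) (Λ := Fin n → ℤ) (algebraMap k (IsLocalRing.ResidueField V) (y r)) = h (algebraMap k (GB n k) (y r))
        rw [AlgHom.commutes, AlgHom.commutes]
      rw [e, AlgHom.comp_apply, hG, map_zero]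
    have hE : res ((Ev F).coeff m) = 0 := by
      rw [coeff_torEval_map, hres, hz]
      rfl
    rw [hres0, hrel F hF m, map_mul, show v (χ (Multiplicative.ofAdd m)) = 1 from hm, _root_.mul_one] at hE
    exact hE
  haveI : Algebra.FiniteType k (R ⊗[k] LB q) :=
    Algebra.FiniteType.trans (S := R) inferInstance inferInstance
  obtain ⟨s, hs⟩ := ComodLib.exists_finset_invariants_adjoin (C := R ⊗[k] LB q) hα h1
  let supp : Finset (Fin n → ℤ) := s.biUnion fun F => (U F).coeff.support
  obtain ⟨a, ha0, hapos⟩ := exists_weight f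
    (supp ∪ (Finset.univ.image (stdW n) ∪ Finset.univ.image fun i => -stdW n i))
  let M : AddSubmonoid (Fin n → ℤ) := posMonoid f a ha0
  let J : Ideal (GB n k) := Ideal.span
    ({c | ∃ F ∈ s, ∃ m, m ∉ M ∧ c = (U F).coeff m} ∪
      {c | ∃ F ∈ Kill, ∃ m, f (Multiplicative.ofAdd m) = 1 ∧ c = (U F).coeff m})
  have hsP : ∀ F ∈ s, F ∈ GLin.invariants k A (R ⊗[k] LB q) := fun F hF => by
    rw [hs]; exact Algebra.subset_adjoin hF
  have hJle : J ≤ RingHom.ker φr := by
    refine Ideal.span_le.mpr ?_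
    rintro c (⟨F, hF, m, hm, rfl⟩ | ⟨F, hF, m, hm, rfl⟩) <;> rw [SetLike.mem_coe, RingHom.mem_ker]
    · by_cases h : f (Multiplicative.ofAdd m) ≤ 1
      · have hlt : f (Multiplicative.ofAdd m) < 1 := lt_of_le_of_ne h fun e => hm (Or.inl e)
        by_cases hsup : m ∈ supp
        · exact absurd (Or.inr ⟨hlt, hapos m (Finset.mem_union_left _ hsup) hlt⟩) hm
        · rw [Finsupp.notMem_support_iff.mp fun hh => hsup (Finset.mem_biUnion.mpr ⟨F, hF, hh⟩), map_zero]
      · exact hbig F (hsP F hF) m h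
    · exact hkill F hF m hm
  have hJ : J ≠ ⊤ := fun e => one_ne_zero (α := IsLocalRing.ResidueField V)
    ((map_one φr).symm.trans (hJle (e ▸ Submodule.mem_top)))
  obtain ⟨φb, hφb⟩ := ComodLib.exists_point (k := k) J hJ
  let L := torEval q x φb
  have hL : ∀ F m, (L F).coeff m = φb ((U F).coeff m) := fun F m => by
    rw [coeff_torEval_map, AlgHom.comp_id]
    refine congrArg (fun z : AddMonoidAlgebra k (Fin n → ℤ) => z.coeff m) ?_
    exact AlgHom.congr_fun (congrArg₂ (torEval q) (AlgHom.ext fun r => (φb.commutes _).symm) rfl) F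
  have hsupp : ∀ F ∈ GLin.invariants k A (R ⊗[k] LB q), L F ∈ suppAlg (k := k) M := by
    rw [hs]
    intro F hF
    refine (Algebra.adjoin_le (S := (suppAlg (k := k) M).comap L) ?_) hF
    intro G hG m hm
    show (L G).coeff m = 0
    rw [hL]
    exact hφb (Ideal.subset_span (Or.inl ⟨G, hG, m, hm, rfl⟩))
  have hneg : ∀ F ∈ GLin.invariants k A (R ⊗[k] LB q), ∀ i, i < 0 →
      (lineHom q x φb a F).coeff i = 0 := fun F hF i hi => by
    rw [lineHom_eq_dotHom, AlgHom.comp_apply]
    refine coeff_dotHom_eq_zero _ _ i fun m hm => hsupp F hF m ?_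
    rintro (h | ⟨-, h⟩)
    · have := ha0 m h; omega
    · omega
  let pF : GLin.invariants k A (R ⊗[k] LB q) →ₗ[k] k :=
    { toFun := fun F => (lineHom q x φb a (F : R ⊗[k] LB q)).coeff 0
      map_add' := fun F G => by simp
      map_smul' := fun c F => by simp }
  let p : GLin.invariants k A (R ⊗[k] LB q) →ₐ[k] k := AlgHom.ofLinearMap pF
    (by
      show (lineHom q x φb a (1 : R ⊗[k] LB q)).coeff 0 = 1
      rw [map_one, AddMonoidAlgebra.one_def, AddMonoidAlgebra.coeff_single, Finsupp.single_eq_same])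
    (fun F G => by
      show (lineHom q x φb a ((F : R ⊗[k] LB q) * G)).coeff 0 = _
      rw [map_mul]
      exact coeff_zero_mul _ _ (hneg _ F.2) (hneg _ G.2))
  refine ⟨φb, a, p, fun F => hneg _ F.2, fun F => rfl, fun F hy => ?_, fun ha z => ?_⟩
  rotate_left
  · have hunit : ∀ i, v (d i) = 1 := fun i => by
      have he : f (Multiplicative.ofAdd (stdW n i)) = v (d i) := congrArg v (hχ i)
      have hdot : ∀ m, dot a m = 0 := fun m => by subst ha; simp [dot]
      rcases lt_trichotomy (v (d i)) 1 with hlt | he1 | hgt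
      · have := hapos (stdW n i) (Finset.mem_union_right _ (Finset.mem_union_left _ (Finset.mem_image_of_mem _ (Finset.mem_univ i))))
          (he ▸ hlt)
        rw [hdot] at this
        exact absurd this (lt_irrefl _)
      · exact he1
      · have hmul : f (Multiplicative.ofAdd (-stdW n i)) * v (d i) = 1 := by
          rw [← he, ← map_mul, ← ofAdd_add, neg_add_cancel, ofAdd_zero, map_one]
        have hlt : f (Multiplicative.ofAdd (-stdW n i)) < 1 := by
          by_contra hle
          exact absurd hmul (ne_of_gt (lt_of_lt_of_le hgt (le_mul_of_one_le_left' (not_lt.mp hle))))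
        have := hapos (-stdW n i) (Finset.mem_union_right _ (Finset.mem_union_right _
          (Finset.mem_image_of_mem (fun i => -stdW n i) (Finset.mem_univ i)))) hlt
        rw [hdot] at this
        exact absurd this (lt_irrefl _)
    let dV : Fin n → V := fun i => ⟨d i, (V.valuation_le_one_iff _).mp (hunit i).le⟩
    have hdV : IsUnit (Matrix.diagonal dV).det := by
      rw [Matrix.det_diagonal]
      exact IsUnit.prod_iff.mpr fun i _ => (V.valuation_eq_one_iff _).mpr (hunit i)
    have e : η.comp (qH q) = sub.comp (glPt (P * Matrix.diagonal dV * Q) (isUnit_det_mul (isUnit_det_mul hP hdV) hQ)) := by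
      refine algHom_ext' ?_
      rw [matP_comp sub, matP_glPt]
      refine hPQ.trans ?_
      show _ = (P * Matrix.diagonal dV * Q).map V.subtype
      rw [Matrix.map_mul, Matrix.map_mul, Matrix.diagonal_map (map_zero _)]
      rfl
    rw [← AlgHom.comp_apply, e, AlgHom.comp_apply]
    exact Subtype.coe_prop _
  show (lineHom q x φb a (F : R ⊗[k] LB q)).coeff 0 = 0
  rw [lineHom_eq_dotHom, AlgHom.comp_apply]
  refine coeff_dotHom_eq_zero _ _ 0 fun m hm => ?_
  by_cases hM : m ∈ M
  · rcases hM with h | ⟨-, h⟩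
    · rw [hL]
      exact hφb (Ideal.subset_span (Or.inr ⟨F, ⟨F.2, hy⟩, m, h, rfl⟩))
    · omega
  · exact hsupp _ F.2 m hM

/-- Points of the orbit closure are reached along one parameter curves. -/
theorem exists_curve (x y : R →ₐ[k] k) (hxy : GLin.InOrbitClosure k A x y) :
    ∃ (φb : GB n k →ₐ[k] k) (a : Fin n → ℤ) (p : GLin.invariants k A (R ⊗[k] LB q) →ₐ[k] k),
      (∀ F : GLin.invariants k A (R ⊗[k] LB q), ∀ i, i < 0 →
        (lineHom q x φb a (F : R ⊗[k] LB q)).coeff i = 0) ∧
      (∀ F : GLin.invariants k A (R ⊗[k] LB q), p F = (lineHom q x φb a (F : R ⊗[k] LB q)).coeff 0) ∧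
      ∀ F : GLin.invariants k A (R ⊗[k] LB q),
        (∀ φ : GB n k →ₐ[k] k, pev q y φ (F : R ⊗[k] LB q) = 0) → p F = 0 := by
  haveI : (RingHom.ker y).IsPrime := RingHom.ker_isPrime _
  obtain ⟨K, _, ψ, V, hV, hV'⟩ :=
    FormsSLLib.exists_valuation_specialising (GLin.orbitHom k A x).toRingHom (RingHom.ker y) hxy
  letI : Algebra k K := (ψ.comp (algebraMap k A)).toAlgebra
  obtain ⟨φb, a, p, h2, h3, h4, -⟩ :=
    exists_curve_of_val q hα h1 x y { ψ with commutes' := fun c => rfl } V hV hV'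
  exact ⟨φb, a, p, h2, h3, h4⟩

end Curve

end Groth.Agent.HMCrit
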