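import Groth.Agent.HMCrit.Val
import Groth.Agent.ComodLib.Mu
import Groth.Agent.ComodLib.StableClosed
import Groth.Agent.ComodLib.LinearAction
import Groth.Agent.DynLimit.Field

/-!
# Linear actions
-/

set_option autoImplicit false
set_option linter.unusedSectionVars false
set_option linter.style.haveILetI false

universe u

namespace Groth.Agent.HMCrit

variable {k : Type u} [Field k] [IsAlgClosed k] [CharZero k]
variable {A : Type u} [CommRing A] [HopfAlgebra k A] [Algebra.FiniteType k A]

section General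

variable {R : Type u} [CommRing R] [Algebra k R] [Algebra.FiniteType k R] [HopfRep.Comod k A R]
  [GLin.IsCoactAlg k A R]

/-- A closed orbit in the closure of an orbit is reached along a one parameter subgroup. -/
theorem exists_limit (hG : HopfRep.IsLinearlyReductive k A) {x y : R →ₐ[k] k}
    (hxy : GLin.InOrbitClosure k A x y) (hy : GLin.IsClosedOrbit k A y) :
    ∃ (lam : A →ₐc[k] LaurentPolynomial k) (g : A →ₐ[k] k), GLin.IsLimit k A lam x (GLin.actPt k g y) ∧
      (SGA3t2b.IsTrivialBialgHom lam → x = GLin.actPt k g y) := by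
  obtain ⟨α, hα, h1⟩ := ComodLib.exists_integral_of_isLinearlyReductive hG
  obtain ⟨n, q, hq⟩ := DynLimit.exists_surjective_GLn (k := k) (A := A)
  obtain ⟨φb, a, p, hneg, hp, hker⟩ := exists_curve q hα h1 x y hxy
  obtain ⟨lam, g, hlim, -⟩ := exists_oneParam q hα h1 hq x y hy φb a p hneg hp hker
  refine ⟨lam, g, hlim, fun htriv => ?_⟩
  obtain ⟨h, hh, hh0⟩ := hlim
  refine AlgHom.ext fun r => ?_
  have e : GLin.lamOrbit k A lam x r = algebraMap k (LaurentPolynomial k) (x r) := by
    show lam (GLin.orbitHom k A x r) = _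
    rw [htriv]
    congr 1
    exact (Algebra.algebraMap_self_apply _).symm.trans (AlgHom.congr_fun (ComodLib.actPt_convOne (A := A) x) r)
  have e2 : h r = algebraMap k (Polynomial k) (x r) :=
    Polynomial.toLaurent_injective ((AlgHom.congr_fun hh r).trans
      (e.trans ((Polynomial.toLaurentAlg (R := k)).commutes _).symm))
  rw [← hh0, AlgHom.comp_apply, e2, AlgHom.commutes]
  rfl

/-- A closed orbit with infinite stabiliser has a non-trivial one parameter subgroup with limit in the orbit. -/
theorem exists_limit_of_not_hasFiniteStab (hG : HopfRep.IsLinearlyReductive k A) {x : R →ₐ[k] k}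
    (hx : GLin.IsClosedOrbit k A x) (hst : ¬ GLin.HasFiniteStab k A x) :
    ∃ (lam : A →ₐc[k] LaurentPolynomial k) (g : A →ₐ[k] k), GLin.IsLimit k A lam x (GLin.actPt k g x) ∧
      ¬ SGA3t2b.IsTrivialBialgHom lam := by
  obtain ⟨α, hα, h1⟩ := ComodLib.exists_integral_of_isLinearlyReductive hG
  obtain ⟨n, q, hq⟩ := DynLimit.exists_surjective_GLn (k := k) (A := A)
  let I := GLin.stabIdeal k A x
  obtain ⟨z, hz⟩ : ∃ z : A ⧸ I, ¬ (algebraMap k (A ⧸ I)).IsIntegralElem z := by
    by_contra hall
    push Not at hall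
    haveI : Algebra.IsIntegral k (A ⧸ I) := ⟨fun z => hall z⟩
    exact hst (Algebra.IsIntegral.finite (R := k) (A := A ⧸ I))
  obtain ⟨K, _, ψ, V, hVk, hzV⟩ : ∃ (K : Type u) (_ : Field K) (ψ : A ⧸ I →+* K) (V : ValuationSubring K),
      (∀ c, ψ (algebraMap k (A ⧸ I) c) ∈ V) ∧ ψ z ∉ V := by
    by_contra hall
    push Not at hall
    exact hz (SmoothFormLib.isIntegralElem_of_valuation _ z fun K _ ψ V hV => hall K inferInstance ψ V hV)
  letI : Algebra k K := (ψ.comp (algebraMap k (A ⧸ I))).toAlgebra
  let η : A →ₐ[k] K := (AlgHom.mk ψ fun c => rfl : A ⧸ I →ₐ[k] K).comp (Ideal.Quotient.mkₐ k I)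
  have hη : ∀ r, η (GLin.orbitHom k A x r) = algebraMap k K (x r) := fun r => by
    have hm : GLin.orbitHom k A x (r - algebraMap k R (x r)) ∈ I := Ideal.mem_map_of_mem _ (by
      rw [RingHom.mem_ker, map_sub, AlgHom.commutes, Algebra.algebraMap_self_apply, sub_self])
    have h0 : η (GLin.orbitHom k A x (r - algebraMap k R (x r))) = 0 := by
      show ψ (Ideal.Quotient.mk I _) = 0
      rw [Ideal.Quotient.eq_zero_iff_mem.mpr hm, map_zero]
    rwa [map_sub, map_sub, AlgHom.commutes, AlgHom.commutes, sub_eq_zero] at h0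
  obtain ⟨φb, a, p, hneg, hp, hker, ha⟩ := exists_curve_of_val q hα h1 x x η V
    (fun r => by rw [hη]; exact hVk _)
    (fun r hr => by rw [hη, show x r = 0 from hr, map_zero]; exact V.nonunits.zero_mem)
  obtain ⟨lam, g, hlim, hne⟩ := exists_oneParam q hα h1 hq x x hx φb a p hneg hp hker
  refine ⟨lam, g, hlim, hne fun h0 => hzV ?_⟩
  obtain ⟨z', rfl⟩ := Ideal.Quotient.mk_surjective z
  obtain ⟨b, rfl⟩ := hq z'
  exact ha h0 b

/-- The points of a one parameter subgroup. -/
noncomputable def lamPts (lam : A →ₐc[k] LaurentPolynomial k) : kˣ →* WithConv (A →ₐ[k] k) where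
  toFun s := WithConv.toConv ((evalHom (k := k) (zpowHom s)).comp (lam : A →ₐ[k] AddMonoidAlgebra k ℤ))
  map_one' := by
    refine congrArg WithConv.toConv (AlgHom.ext fun a => ?_)
    show evalHom (k := k) (zpowHom (1 : kˣ)) (lam a) = algebraMap k k (Coalgebra.counit (R := k) a)
    have e : evalHom (k := k) (zpowHom (1 : kˣ)) = Bialgebra.counitAlgHom k (AddMonoidAlgebra k ℤ) :=
      AddMonoidAlgebra.algHom_ext (fun m => by
        rw [evalHom_single, zpowHom_apply, Bialgebra.counitAlgHom_apply, AddMonoidAlgebra.counit_single]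
        simp) (AlgHom.ext fun c => (AlgHom.commutes _ c).trans (AlgHom.commutes _ c).symm)
    rw [e]
    exact CoalgHomClass.counit_comp_apply lam a
  map_mul' s t := by
    refine congrArg WithConv.toConv (AlgHom.ext fun a => ?_)
    show evalHom (k := k) (zpowHom (s * t)) (lam a) = Algebra.TensorProduct.lmul' k (Algebra.TensorProduct.map
      ((evalHom (k := k) (zpowHom s)).comp (lam : A →ₐ[k] AddMonoidAlgebra k ℤ))
      ((evalHom (k := k) (zpowHom t)).comp (lam : A →ₐ[k] AddMonoidAlgebra k ℤ)) (Coalgebra.comul (R := k) a))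
    have e : evalHom (k := k) (zpowHom (s * t)) = ((Algebra.TensorProduct.lmul' k).comp
        (Algebra.TensorProduct.map (evalHom (k := k) (zpowHom s)) (evalHom (k := k) (zpowHom t)))).comp
        (Bialgebra.comulAlgHom k (AddMonoidAlgebra k ℤ)) :=
      AddMonoidAlgebra.algHom_ext (fun m => by
        rw [evalHom_single, zpowHom_apply, AlgHom.comp_apply, Bialgebra.comulAlgHom_apply,
          AddMonoidAlgebra.comul_single, CommSemiring.comul_apply]
        show _ = evalHom (k := k) (zpowHom s) (AddMonoidAlgebra.single m (1 : k)) *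
          evalHom (k := k) (zpowHom t) (AddMonoidAlgebra.single m (1 : k))
        rw [evalHom_single, evalHom_single, zpowHom_apply, zpowHom_apply, mul_zpow, Units.val_mul]
        ring)
        (AlgHom.ext fun c => (AlgHom.commutes _ c).trans (AlgHom.commutes _ c).symm)
    rw [e, AlgHom.comp_apply, Bialgebra.comulAlgHom_apply,
      show Coalgebra.comul (R := k) (lam a) = TensorProduct.map (lam : A →ₐ[k] AddMonoidAlgebra k ℤ).toLinearMap
        (lam : A →ₐ[k] AddMonoidAlgebra k ℤ).toLinearMap (Coalgebra.comul (R := k) a) from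
        (CoalgHomClass.map_comp_comul_apply lam a).symm]
    induction Coalgebra.comul (R := k) a using TensorProduct.induction_on with
    | zero => simp
    | tmul u v => simp
    | add u v hu hv => simp only [map_add, hu, hv]

theorem inOrbitClosure_of_isLimit {lam : A →ₐc[k] LaurentPolynomial k} {x w : R →ₐ[k] k}
    (hl : GLin.IsLimit k A lam x w) : GLin.InOrbitClosure k A x w := by
  obtain ⟨h, hh, rfl⟩ := hl
  intro r hr
  rw [RingHom.mem_ker] at hr ⊢
  have h0 : h r = 0 := Polynomial.toLaurent_injective ((AlgHom.congr_fun hh r).trans (by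
    show (lam : A →ₐ[k] LaurentPolynomial k) (GLin.orbitHom k A x r) = _
    rw [hr, map_zero, map_zero]))
  rw [AlgHom.comp_apply, h0, map_zero]

/-- A limit point is fixed by the one parameter subgroup. -/
theorem actPt_lamPts_limit {lam : A →ₐc[k] LaurentPolynomial k} {x w : R →ₐ[k] k}
    (hl : GLin.IsLimit k A lam x w) (s : kˣ) : GLin.actPt k (lamPts lam s).ofConv w = w := by
  obtain ⟨h, hh, hw⟩ := hl
  have hev : ∀ (t : kˣ) (p : Polynomial k),
      evalHom (k := k) (zpowHom t) (Polynomial.toLaurentAlg (R := k) p) = p.eval (t : k) := fun t p => by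
    have e : (evalHom (k := k) (zpowHom t)).comp (Polynomial.toLaurentAlg (R := k)) = Polynomial.aeval (t : k) :=
      Polynomial.algHom_ext (by
        rw [AlgHom.comp_apply, Polynomial.aeval_X, Polynomial.toLaurentAlg_apply, Polynomial.toLaurent_X]
        exact (evalHom_single _ _ _).trans (by rw [zpowHom_apply]; simp))
    rw [← AlgHom.comp_apply, e, Polynomial.coe_aeval_eq_eval]
  have hpt : ∀ (t : kˣ) (r : R), GLin.actPt k (lamPts lam t).ofConv x r = (h r).eval (t : k) := fun t r => by
    rw [← hev, ← AlgHom.comp_apply (Polynomial.toLaurentAlg (R := k)) h, hh]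
    rfl
  refine AlgHom.ext fun r => ?_
  rw [ComodLib.actPt_apply, ← hw, AlgHom.comp_apply, AlgHom.comp_apply]
  have e : h (HopfRep.Comod.act k A R (lamPts lam s).ofConv r) =
      (h r).comp (Polynomial.C (s : k) * Polynomial.X) := by
    refine Polynomial.eq_of_infinite_eval_eq _ _ (Set.Infinite.mono ?_ ((Set.finite_singleton (0 : k)).infinite_compl))
    intro t ht
    have key : GLin.actPt k (lamPts lam s).ofConv (GLin.actPt k (lamPts lam (Units.mk0 t ht)).ofConv x) r =
        GLin.actPt k (lamPts lam (Units.mk0 t ht * s)).ofConv x r := by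
      rw [map_mul, ComodLib.actPt_convMul]
    rw [ComodLib.actPt_apply, hpt, hpt] at key
    show Polynomial.eval t _ = Polynomial.eval t _
    rw [Polynomial.eval_comp, Polynomial.eval_mul, Polynomial.eval_C, Polynomial.eval_X, mul_comm]
    exact key
  rw [e]
  simp [Polynomial.coe_aeval_eq_eval]

/-- A one parameter subgroup with limit in the orbit of a point with finite stabiliser is trivial. -/
theorem isTrivial_of_limit_mem_orbit {lam : A →ₐc[k] LaurentPolynomial k} {x : R →ₐ[k] k} {g : A →ₐ[k] k}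
    (hl : GLin.IsLimit k A lam x (GLin.actPt k g x)) (hst : GLin.HasFiniteStab k A x) :
    SGA3t2b.IsTrivialBialgHom lam := by
  have hfin := ComodLib.finite_stab_actPt (WithConv.toConv g) ((ComodLib.hasFiniteStab_iff x).mp hst)
  haveI : Finite (lamPts lam).range :=
    (hfin.subset (by rintro _ ⟨s, rfl⟩; exact actPt_lamPts_limit hl s)).to_subtype
  have hone : ∀ s, lamPts lam s = 1 := fun s => by
    haveI : NeZero (Nat.card (lamPts lam).range) := ⟨Nat.card_pos.ne'⟩
    obtain ⟨t, ht⟩ := IsAlgClosed.exists_pow_nat_eq (s : k) (n := Nat.card (lamPts lam).range) Nat.card_pos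
    have ht0 : t ≠ 0 := fun h0 => s.ne_zero (by rw [← ht, h0, zero_pow (Nat.card_pos.ne')])
    rw [show s = Units.mk0 t ht0 ^ Nat.card (lamPts lam).range from Units.ext (by simpa using ht.symm), map_pow]
    exact congrArg Subtype.val (pow_card_eq_one' (x := (⟨_, ⟨Units.mk0 t ht0, rfl⟩⟩ : (lamPts lam).range)))
  intro a
  refine eq_of_forall_evalHom (f := (lam a : AddMonoidAlgebra k ℤ))
    (g := algebraMap k (AddMonoidAlgebra k ℤ) (Coalgebra.counit (R := k) a)) fun s => ?_
  rw [AlgHom.commutes]
  exact AlgHom.congr_fun (congrArg WithConv.ofConv (hone s)) a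

end General

section Linear

variable {ι : Type u} [Fintype ι] [HopfRep.Comod k A (MvPolynomial ι k)] [GLin.IsCoactAlg k A (MvPolynomial ι k)]

theorem inOrbitClosure_zero_eq (hlin : GLin.IsLinear k A ι) (z : MvPolynomial ι k →ₐ[k] k)
    (hz : GLin.InOrbitClosure k A (GLin.vecPt k ι (fun _ => (0 : k))) z) :
    z = GLin.vecPt k ι (fun _ => (0 : k)) := by
  choose m hm using hlin
  refine MvPolynomial.algHom_ext fun i => ?_
  have h : (MvPolynomial.X i : MvPolynomial ι k) ∈
      RingHom.ker (GLin.orbitHom k A (GLin.vecPt k ι (fun _ => (0 : k)))) := by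
    rw [RingHom.mem_ker, ComodLib.orbitCoord_eq hm]
    simp
  rw [show z (MvPolynomial.X i) = 0 from hz h, MvPolynomial.aeval_X]

theorem actPt_zero (hlin : GLin.IsLinear k A ι) (g : A →ₐ[k] k) :
    GLin.actPt k g (GLin.vecPt k ι (fun _ => (0 : k))) = GLin.vecPt k ι (fun _ => (0 : k)) :=
  inOrbitClosure_zero_eq hlin _ fun f hf => by
    rw [RingHom.mem_ker] at hf ⊢
    show g (GLin.orbitHom k A _ f) = 0
    rw [hf, map_zero]

theorem isClosedOrbit_zero (hlin : GLin.IsLinear k A ι) :
    GLin.IsClosedOrbit k A (GLin.vecPt k ι (fun _ => (0 : k))) :=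
  ComodLib.isClosedOrbit_of_forall_mem fun w hw =>
    ⟨Bialgebra.counitAlgHom k A, (inOrbitClosure_zero_eq hlin w hw).trans (actPt_zero hlin _).symm⟩

theorem eval_eq_zero_of_isLimit_zero (lam : A →ₐc[k] LaurentPolynomial k) (v : ι → k)
    (hl : GLin.IsLimit k A lam (GLin.vecPt k ι v) (GLin.vecPt k ι (fun _ => (0 : k))))
    {F : MvPolynomial ι k} (hF : F ∈ GLin.invariants k A (MvPolynomial ι k)) {d : ℕ} (hd : 0 < d)
    (hFd : F.IsHomogeneous d) : MvPolynomial.eval v F = 0 := by
  obtain ⟨h, hh, hh0⟩ := hl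
  have e : GLin.lamOrbit k A lam (GLin.vecPt k ι v) F =
      algebraMap k (LaurentPolynomial k) (MvPolynomial.eval v F) := by
    show (lam : A →ₐ[k] LaurentPolynomial k) (GLin.orbitHom k A _ F) = _
    rw [ComodLib.orbitHom_apply', show HopfRep.Comod.coact (k := k) (A := A) F = F ⊗ₜ[k] (1 : A) from hF,
      LinearMap.rTensor_tmul, TensorProduct.lid_tmul, map_smul, map_one, Algebra.algebraMap_eq_smul_one]
    rfl
  have e2 : h F = algebraMap k (Polynomial k) (MvPolynomial.eval v F) :=
    Polynomial.toLaurent_injective ((AlgHom.congr_fun hh F).trans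
      (e.trans ((Polynomial.toLaurentAlg (R := k)).commutes _).symm))
  have e3 := AlgHom.congr_fun hh0 F
  rw [AlgHom.comp_apply, e2, AlgHom.commutes] at e3
  rw [show MvPolynomial.eval v F = algebraMap k k (MvPolynomial.eval v F) from rfl, e3]
  show MvPolynomial.aeval (0 : ι → k) F = 0
  rw [MvPolynomial.aeval_zero, MvPolynomial.constantCoeff_eq, hFd.coeff_eq_zero (by rw [map_zero]; omega), map_zero]

theorem exists_isLimit_zero_of_isNullform (hG : HopfRep.IsLinearlyReductive k A) (hlin : GLin.IsLinear k A ι)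
    (v : ι → k) (hnull : GLin.IsNullform k A v) :
    ∃ lam : A →ₐc[k] LaurentPolynomial k,
      GLin.IsLimit k A lam (GLin.vecPt k ι v) (GLin.vecPt k ι (fun _ => (0 : k))) := by
  classical
  obtain ⟨α, hα, h1⟩ := ComodLib.exists_integral_of_isLinearlyReductive hG
  have heq : ∀ f ∈ GLin.invariants k A (MvPolynomial ι k),
      GLin.vecPt k ι v f = GLin.vecPt k ι (fun _ => (0 : k)) f := by
    intro f hf
    conv_lhs => rw [← MvPolynomial.sum_homogeneousComponent f]
    conv_rhs => rw [← MvPolynomial.sum_homogeneousComponent f]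
    rw [map_sum, map_sum]
    refine Finset.sum_congr rfl fun e _ => ?_
    rcases Nat.eq_zero_or_pos e with rfl | he
    · rw [MvPolynomial.homogeneousComponent_zero,
        show (MvPolynomial.C (MvPolynomial.coeff 0 f) : MvPolynomial ι k) =
          algebraMap k _ (MvPolynomial.coeff 0 f) from rfl, AlgHom.commutes, AlgHom.commutes]
    · have h2 := hnull _ (ComodLib.homogeneousComponent_mem_invariants hlin hf e) e he
        (MvPolynomial.homogeneousComponent_isHomogeneous e f)
      show MvPolynomial.aeval v _ = MvPolynomial.aeval (0 : ι → k) _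
      rw [MvPolynomial.aeval_zero, MvPolynomial.constantCoeff_eq,
        (MvPolynomial.homogeneousComponent_isHomogeneous e f).coeff_eq_zero (by rw [map_zero]; omega), map_zero]
      exact h2
  obtain ⟨z, hz1, hz2⟩ := ComodLib.exists_closures_meet hα h1 _ _ heq
  rw [inOrbitClosure_zero_eq hlin z hz2] at hz1
  obtain ⟨lam, g, hlim, -⟩ := exists_limit hG hz1 (isClosedOrbit_zero hlin)
  rw [actPt_zero hlin g] at hlim
  exact ⟨lam, hlim⟩

end Linear

end Groth.Agent.HMCrit
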